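import Mathlib

/-! Transitive groups of degree `2 p q` are not elusive (S3579): the frames. -/

set_option autoImplicit false

namespace CF.El

open MulAction Subgroup

/-- A faithful transitive action of degree `2 p q` in which every element of prime order fixes
a point. -/
structure Hy (G Ω : Type*) [Group G] [MulAction G Ω] (p q : ℕ) : Prop where
  fa : ∀ g : G, (∀ ω : Ω, g • ω = ω) → g = 1
  tr : IsPretransitive G Ω
  pp : p.Prime
  pq : q.Prime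
  q3 : 3 ≤ q
  lt : q < p
  card : Nat.card Ω = 2 * p * q
  el : ∀ g : G, (orderOf g).Prime → ∃ ω : Ω, g • ω = ω

/-- abelian of exponent dividing `p` -/
def EA {G : Type*} [Group G] (p : ℕ) (V : Subgroup G) : Prop :=
  (∀ a ∈ V, ∀ b ∈ V, a * b = b * a) ∧ ∀ a ∈ V, a ^ p = 1

/-- Case B-ii: `P` is a Sylow `p`-subgroup with the long orbit `Γ = P γ` of length `p ^ 2`,
`V` has index `p` in `P`, fixes every point off `Γ`, and `P - V` is fixed-point-free. -/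
structure B2 (G Ω : Type*) [Group G] [MulAction G Ω] (p q : ℕ) (P : Sylow p G)
    (V : Subgroup G) (γ : Ω) : Prop extends Hy G Ω p q where
  VP : V ≤ (P : Subgroup G)
  iV : V.relIndex (P : Subgroup G) = p
  ea : EA p V
  iγ : (stabilizer G γ).relIndex (P : Subgroup G) = p ^ 2
  fix : ∀ ω : Ω, ω ∉ orbit (P : Subgroup G) γ → ∀ v ∈ V, v • ω = ω
  fpf : ∀ x ∈ (P : Subgroup G), x ∉ V → ∀ ω : Ω, x • ω ≠ ω

/-- Case B-ii-a: the Sylow `p`-subgroup `⟨x⟩` is cyclic of order `p ^ 2`, regular on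
`Γ = ⟨x⟩ γ`, `x ^ p` fixes every point off `Γ`, and `⟨x⟩ - ⟨x ^ p⟩` is fixed-point-free. -/
structure CY (G Ω : Type*) [Group G] [MulAction G Ω] (p q : ℕ) (x : G) (γ : Ω) : Prop
    extends Hy G Ω p q where
  ord : orderOf x = p ^ 2
  syl : ¬ p ^ 3 ∣ Nat.card G
  reg : ∀ y ∈ zpowers x, y • γ = γ → y = 1
  fix : ∀ ω : Ω, ω ∉ orbit (zpowers x) γ → x ^ p • ω = ω
  fpf : ∀ y ∈ zpowers x, y ∉ zpowers (x ^ p) → ∀ ω : Ω, y • ω ≠ ω

/-- `C = C_G(x ^ p)` -/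
abbrev Cv {G : Type*} [Group G] (p : ℕ) (x : G) : Subgroup G := centralizer {x ^ p}

theorem mem_Cv {G : Type*} [Group G] {p : ℕ} {x c : G} :
    c ∈ Cv p x ↔ c * x ^ p = x ^ p * c := by
  simp [Cv, mem_centralizer_iff, eq_comm]

theorem mem_Cv_of_zpowers {G : Type*} [Group G] {p : ℕ} {x y : G} (hy : y ∈ zpowers x) :
    y ∈ Cv p x := by
  obtain ⟨k, rfl⟩ := hy
  exact mem_Cv.2 (((Commute.refl x).zpow_left k).pow_right p).eq

/-- The retraction `τ` of `C = C_G(x ^ p)` onto `⟨x⟩` (its kernel `D` is the normal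
`p`-complement of `C`). -/
structure Ret {G : Type*} (Ω : Type*) [Group G] [MulAction G Ω] (p : ℕ) (x : G) (γ : Ω)
    (τ : Cv p x →* zpowers x) : Prop where
  /-- `τ` is the identity on `⟨x⟩` -/
  id : ∀ (y : G) (hy : y ∈ zpowers x), τ ⟨y, mem_Cv_of_zpowers hy⟩ = ⟨y, hy⟩
  /-- `D` is a `p'`-group -/
  cop : ¬ p ∣ Nat.card τ.ker
  /-- `C` acts on `Γ` through `τ` -/
  act : ∀ c : Cv p x, ∀ ω ∈ orbit (zpowers x) γ, (c : G) • ω = ((τ c : zpowers x) : G) • ω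
  /-- elements of `C - ⟨x ^ p⟩ D` fix no point -/
  fpf : ∀ c : Cv p x, ((τ c : zpowers x) : G) ∉ zpowers (x ^ p) → ∀ ω : Ω, (c : G) • ω ≠ ω
  /-- `D` is normalized by every element that normalizes `C` -/
  nrm : ∀ (g : G) (c : Cv p x) (h : g * c * g⁻¹ ∈ Cv p x), τ c = 1 → τ ⟨_, h⟩ = 1
  /-- `C - D` is a TI-set with normalizer `N(⟨x ^ p⟩)` -/
  ti : ∀ (g : G) (c : Cv p x), g * c * g⁻¹ ∈ Cv p x → τ c ≠ 1 →
    g ∈ normalizer (zpowers (x ^ p) : Set G)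

/-- The frame of the `p'`-group `J`: `v` has order `p` and the cycle `A`; `J` is a `p'`-group
normalized by `v` that fixes `R` pointwise; `v` fixes every point off `A ∪ R`. -/
structure JF {G Ω : Type*} [Group G] [MulAction G Ω] (p : ℕ) (v : G) (J : Subgroup G)
    (A R : Set Ω) : Prop where
  fa : ∀ g : G, (∀ ω : Ω, g • ω = ω) → g = 1
  pp : p.Prime
  ord : orderOf v = p
  cyc : ∃ a : Ω, v • a ≠ a ∧ A = orbit (zpowers v) a
  dj : Disjoint A R
  vR : ∀ ω ∈ R, v • ω ∈ R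
  vF : ∀ ω : Ω, ω ∉ A → ω ∉ R → v • ω = ω
  mem : ∀ g : G, g ∈ J ↔ ∀ ω ∈ R, g • ω = ω
  cop : ¬ p ∣ Nat.card J

/-- `E ≤ J` is transitive on `A ∪ {l}` and fixes every other point. -/
structure EF {G Ω : Type*} [Group G] [MulAction G Ω] (J E : Subgroup G) (A R : Set Ω)
    (l : Ω) : Prop where
  le : E ≤ J
  nA : l ∉ A
  nR : l ∉ R
  tr : ∀ a ∈ A, ∃ e ∈ E, e • l = a
  fx : ∀ e ∈ E, ∀ ω : Ω, ω ∉ A → ω ≠ l → e • ω = ω

/-- `ψ i = (φ ∘ τ) ^ i`, the linear characters of `C / D` -/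
noncomputable def psi {G : Type*} [Group G] {p : ℕ} {x : G}
    (τ : Cv p x →* zpowers x) (φ : zpowers x →* ℂˣ) (i : ℕ) :
    Cv p x → ℂ := fun c => ((φ (τ c) : ℂˣ) : ℂ) ^ i

/-- the permutation character -/
noncomputable abbrev pch (G Ω : Type*) [Group G] [MulAction G Ω] : G → ℂ :=
  fun g => (Nat.card (fixedBy Ω g) : ℂ)

end CF.El
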