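import Cfsg.Agent.El.A

/-! Transitive groups of degree `2 p q` (S3579): toolkit. -/

set_option autoImplicit false
set_option linter.unusedSectionVars false

namespace CF.El

open MulAction Subgroup

variable {G Ω : Type*} [Group G] [Finite G] [MulAction G Ω] [Finite Ω] {p q : ℕ}

theorem coset_fix (hp : p.Prime) {v : G} {k : ℕ} (hv : v ^ p ^ k = 1) (S : Set G)
    (hS : ∀ s ∈ S, v * s * v⁻¹ ∈ S) (hc : ¬ p ∣ S.ncard) : ∃ c ∈ S, c * v = v * c := by
  classical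
  have := Fact.mk hp
  have := Fintype.ofFinite S
  let f : Function.End S := fun s => ⟨v * s * v⁻¹, hS s s.2⟩
  have hf : ∀ (n : ℕ) (s : S), ((f ^ n) s : G) = v ^ n * s * (v ^ n)⁻¹ := by
    intro n
    induction n with
    | zero => intro s; simp; rfl
    | succ n ih =>
      intro s
      rw [pow_succ']
      change v * ((f ^ n) s : G) * v⁻¹ = _
      rw [ih, pow_succ']; group
  have h1 : f ^ p ^ k = 1 := by
    funext s; apply Subtype.ext; rw [hf, hv]; simp; rfl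
  have h2 := Equiv.Perm.card_fixedPoints_modEq h1
  have h3 : Fintype.card (Function.fixedPoints f) ≠ 0 := by
    intro h0
    rw [h0] at h2
    apply hc
    rw [← Nat.card_coe_set_eq, Nat.card_eq_fintype_card]
    exact (Nat.modEq_zero_iff_dvd).1 h2
  obtain ⟨⟨s, hs⟩⟩ := Fintype.card_pos_iff.1 (Nat.pos_of_ne_zero h3)
  refine ⟨s, s.2, ?_⟩
  have : v * s * v⁻¹ = s := congrArg Subtype.val hs
  calc (s : G) * v = v * s * v⁻¹ * v := by rw [this]
    _ = v * s := by group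

omit [Finite G] [Finite Ω] in
theorem Hy.p5 (h : Hy G Ω p q) : 5 ≤ p := by
  have := h.q3; have := h.lt
  exact h.pp.five_le_of_ne_two_of_ne_three (by omega) (by omega)

omit [Finite G] [Finite Ω] in
theorem ncard_orbit (H : Subgroup G) (ω : Ω) :
    (orbit H ω).ncard = (stabilizer G ω).relIndex H := by
  rw [← index_stabilizer, relIndex]
  congr 1

omit [Finite G] [Finite Ω] in
theorem Hy.index (h : Hy G Ω p q) (ω : Ω) : (stabilizer G ω).index = 2 * p * q := by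
  have := h.tr
  rw [index_stabilizer_of_transitive, h.card]

omit [MulAction G Ω] [Finite Ω] in
/-- Sylow's theorem inside a subgroup `H`. -/
theorem syl_conj (hp : p.Prime) {H S T : Subgroup G} (hS : S ≤ H) (hSp : IsPGroup p S)
    (hi : ¬ p ∣ S.relIndex H) (hT : T ≤ H) (hTp : IsPGroup p T) :
    ∃ k ∈ H, ∀ t ∈ T, k⁻¹ * t * k ∈ S := by
  have := Fact.mk hp
  have h1 : IsPGroup p (S.subgroupOf H) := hSp.of_equiv (subgroupOfEquivOfLe hS).symm
  have h2 : IsPGroup p (T.subgroupOf H) := hTp.of_equiv (subgroupOfEquivOfLe hT).symm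
  obtain ⟨Q, hQ⟩ := h2.exists_le_sylow
  obtain ⟨k, hk⟩ := exists_smul_eq H (h1.toSylow hi) Q
  refine ⟨k, k.2, fun t ht => ?_⟩
  have h3 : (⟨t, hT ht⟩ : H) ∈ (Q : Subgroup H) := hQ ht
  rw [← hk, Sylow.coe_subgroup_smul, mem_pointwise_smul_iff_inv_smul_mem] at h3
  have h4 : k⁻¹ * ⟨t, hT ht⟩ * k ∈ ((h1.toSylow hi : Sylow p H) : Subgroup H) := by
    simpa using h3
  change k⁻¹ * ⟨t, hT ht⟩ * k ∈ S.subgroupOf H at h4
  simpa [mem_subgroupOf] using h4

omit [MulAction G Ω] [Finite Ω] in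
/-- a subgroup of index `p` of a `p`-group is normal -/
theorem le_norm (hp : p.Prime) {P V : Subgroup G} (hP : IsPGroup p P) (hVP : V ≤ P)
    (hi : V.relIndex P = p) : P ≤ normalizer (V : Set G) := by
  have := Fact.mk hp
  obtain ⟨n, hn⟩ := hP.exists_card_eq
  have h0 : n ≠ 0 := by
    rintro rfl
    have := relIndex_dvd_card V P
    rw [hi, hn, pow_zero, Nat.dvd_one] at this
    exact hp.one_lt.ne' this
  rw [← normal_subgroupOf_iff_le_normalizer hVP]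
  apply normal_of_index_eq_minFac_card
  rw [hn, hp.pow_minFac h0]; exact hi

omit [Finite G] [Finite Ω] in
theorem relIndex_smul {H : Subgroup G} {y : G} (hy : y ∈ normalizer (H : Set G)) (ω : Ω) :
    (stabilizer G (y • ω)).relIndex H = (stabilizer G ω).relIndex H := by
  rw [← ncard_orbit, ← ncard_orbit]
  have : orbit H (y • ω) = (fun a => y • a) '' orbit H ω := by
    ext a
    constructor
    · rintro ⟨h, rfl⟩
      refine ⟨_, ⟨⟨y⁻¹ * h * y, ?_⟩, rfl⟩, ?_⟩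
      · simpa using (mem_normalizer_iff.1 (inv_mem hy) h).1 h.2
      · simp [Subgroup.smul_def, mul_smul]
    · rintro ⟨_, ⟨h, rfl⟩, rfl⟩
      refine ⟨⟨y * h * y⁻¹, (mem_normalizer_iff.1 hy h).1 h.2⟩, ?_⟩
      simp [Subgroup.smul_def, mul_smul]
  rw [this, Set.ncard_image_of_injective _ (MulAction.injective y)]

omit [MulAction G Ω] [Finite Ω] in
theorem EA.pgroup {V : Subgroup G} (h : EA p V) : IsPGroup p V := fun v =>
  ⟨1, Subtype.ext (by simpa using h.2 v v.2)⟩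

omit [Finite G] in
theorem Hy.lt2 (h : Hy G Ω p q) {A : Set Ω} (hA : A.ncard = p ^ 2) :
    Aᶜ.ncard + p ^ 2 = 2 * p * q ∧ p < 2 * q := by
  have h1 : Aᶜ.ncard + p ^ 2 = 2 * p * q := by
    rw [← hA, ← h.card, add_comm, Set.ncard_add_ncard_compl]
  refine ⟨h1, ?_⟩
  have h2 : p * p ≤ p * (2 * q) := by nlinarith
  have h3 : p ≤ 2 * q := Nat.le_of_mul_le_mul_left h2 h.pp.pos
  refine lt_of_le_of_ne h3 fun e => ?_
  have := h.pp.eq_two_or_odd; have := h.p5; omega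

section
variable {P : Sylow p G} {V : Subgroup G} {γ : Ω}

theorem B2.cardΓ (h : B2 G Ω p q P V γ) : (orbit (P : Subgroup G) γ).ncard = p ^ 2 := by
  rw [ncard_orbit, h.iγ]

theorem B2.cardF (h : B2 G Ω p q P V γ) :
    (orbit (P : Subgroup G) γ)ᶜ.ncard + p ^ 2 = 2 * p * q := (h.toHy.lt2 h.cardΓ).1

theorem B2.lt2 (h : B2 G Ω p q P V γ) : p < 2 * q := (h.toHy.lt2 h.cardΓ).2

theorem B2.nrm (h : B2 G Ω p q P V γ) : (P : Subgroup G) ≤ normalizer (V : Set G) :=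
  le_norm h.pp P.2 h.VP h.iV

theorem B2.iV' (h : B2 G Ω p q P V γ) (ω : Ω) (hω : ω ∈ orbit (P : Subgroup G) γ) :
    (stabilizer G ω).relIndex V = p := by
  obtain ⟨y, rfl⟩ := hω
  change (stabilizer G ((y : G) • γ)).relIndex V = p
  rw [relIndex_smul (h.nrm y.2)]
  have h1 : stabilizer G γ ⊓ (P : Subgroup G) ≤ V := fun x hx => by
    by_contra hn; exact h.fpf x hx.2 hn γ hx.1
  have h2 := relIndex_mul_relIndex _ _ _ h1 h.VP
  have h3 : stabilizer G γ ⊓ (P : Subgroup G) = stabilizer G γ ⊓ V :=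
    le_antisymm (le_inf inf_le_left h1) (inf_le_inf_left _ h.VP)
  rw [inf_relIndex_right, h.iγ, h.iV, h3, inf_relIndex_right, pow_two] at h2
  exact Nat.eq_of_mul_eq_mul_right h.pp.pos h2

theorem B2.mem_iff (h : B2 G Ω p q P V γ) (ω : Ω) :
    ω ∉ orbit (P : Subgroup G) γ ↔ ∀ v ∈ V, v • ω = ω := by
  refine ⟨h.fix ω, fun hv hω => ?_⟩
  have h1 := h.iV' ω hω
  rw [relIndex_eq_one.2 (fun v hv' => hv v hv')] at h1
  exact h.pp.one_lt.ne h1

theorem B2.FP (h : B2 G Ω p q P V γ) {g : G} (hg : g ∈ normalizer (V : Set G)) {k : ℕ}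
    (hk : g ^ p ^ k = 1) (hV : g ∉ V) (ω : Ω) : g • ω ≠ ω := by
  have := Fact.mk h.pp
  have hz : IsPGroup p (zpowers g) := by
    rintro ⟨_, n, rfl⟩
    refine ⟨k, Subtype.ext ?_⟩
    change (g ^ n) ^ p ^ k = 1
    rw [← zpow_natCast, ← zpow_mul, mul_comm, zpow_mul, zpow_natCast, hk, one_zpow]
  obtain ⟨n, hn, hc⟩ := syl_conj h.pp h.nrm P.2
    (fun hd => P.not_dvd_index (hd.trans (relIndex_dvd_index_of_le h.nrm)))
    (zpowers_le.2 hg) hz
  have h1 := hc g (mem_zpowers g)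
  have h2 : n⁻¹ * g * n ∉ V := fun h2 => hV (by
    simpa [mul_assoc] using (mem_normalizer_iff.1 hn _).1 h2)
  intro e
  apply h.fpf _ h1 h2 (n⁻¹ • ω)
  simp [mul_smul, e]

/-- `V` is a Sylow subgroup of the stabilizer of a point off `Γ` -/
theorem B2.cop (h : B2 G Ω p q P V γ) {δ : Ω} (hδ : δ ∉ orbit (P : Subgroup G) γ) :
    ¬ p ∣ V.relIndex (stabilizer G δ) := by
  have := Fact.mk h.pp
  have h1 := relIndex_mul_index (H := V) (K := stabilizer G δ) (fun v hv => h.fix δ hδ v hv)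
  have h2 := relIndex_mul_index h.VP
  rw [h.iV, ← h1, h.toHy.index] at h2
  intro hd
  apply P.not_dvd_index
  have h3 : (P : Subgroup G).index = V.relIndex (stabilizer G δ) * (2 * q) :=
    Nat.eq_of_mul_eq_mul_left h.pp.pos (by rw [h2]; ring)
  rw [h3]; exact hd.mul_right _

theorem B2.exF (h : B2 G Ω p q P V γ) : ∃ δ : Ω, δ ∉ orbit (P : Subgroup G) γ := by
  have h1 := h.cardF
  have h2 := h.lt2
  have h3 := h.pp.pos
  exact Set.nonempty_of_ncard_ne_zero (s := (orbit (P : Subgroup G) γ)ᶜ) (by nlinarith)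

theorem B2.conj_st (h : B2 G Ω p q P V γ) {δ : Ω} (hδ : δ ∉ orbit (P : Subgroup G) γ)
    (T : Subgroup G) (hT : IsPGroup p T) (g : G) (hω : T ≤ stabilizer G (g • δ)) :
    ∃ k : G, k • δ = δ ∧ ∀ t ∈ T, k⁻¹ * (g⁻¹ * t * g) * k ∈ V := by
  obtain ⟨k, hk, hc⟩ := syl_conj h.pp (H := stabilizer G δ) (S := V)
    (T := T.map (MulAut.conj g⁻¹).toMonoidHom) (fun v hv => h.fix δ hδ v hv) h.ea.pgroup
    (h.cop hδ) (by
      rintro _ ⟨t, ht, rfl⟩
      have : t • g • δ = g • δ := hω ht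
      simp [mul_smul, this]) (hT.map _)
  exact ⟨k, hk, fun t ht => by simpa using hc _ ⟨t, ht, rfl⟩⟩

/-- every `p`-subgroup fixing a point lies in a conjugate of `V` fixing that point -/
theorem B2.sylst (h : B2 G Ω p q P V γ) (T : Subgroup G) (hT : IsPGroup p T) (ω : Ω)
    (hω : T ≤ stabilizer G ω) :
    ∃ g : G, (∀ t ∈ T, g⁻¹ * t * g ∈ V) ∧ ∀ v ∈ V, (g * v * g⁻¹) • ω = ω := by
  have := h.tr
  obtain ⟨δ, hδ⟩ := h.exF
  obtain ⟨g, rfl⟩ := exists_smul_eq G δ ω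
  obtain ⟨k, hk, hc⟩ := h.conj_st hδ T hT g hω
  refine ⟨g * k, fun t ht => by simpa [mul_assoc] using hc t ht, fun v hv => ?_⟩
  have h1 : k⁻¹ • δ = δ := by rw [inv_smul_eq_iff, hk]
  simp [mul_smul, h1, h.fix δ hδ v hv, hk]

theorem B2.witt (h : B2 G Ω p q P V γ) (a b : Ω) (ha : a ∉ orbit (P : Subgroup G) γ)
    (hb : b ∉ orbit (P : Subgroup G) γ) : ∃ n ∈ normalizer (V : Set G), n • a = b := by
  have := h.tr
  obtain ⟨g, rfl⟩ := exists_smul_eq G a b
  obtain ⟨k, hk, hc⟩ := h.conj_st ha V h.ea.pgroup g (fun v hv => h.fix _ hb v hv)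
  refine ⟨g * k, ?_, by rw [mul_smul, hk]⟩
  rw [← inv_mem_iff]
  exact mem_normalizer_fintype fun v hv => by simpa [mul_assoc] using hc v hv

end

section
variable {x : G} {γ : Ω}

theorem CY.cardΓ (h : CY G Ω p q x γ) : (orbit (zpowers x) γ).ncard = p ^ 2 := by
  have h1 : stabilizer G γ ⊓ zpowers x = ⊥ :=
    eq_bot_iff.2 fun y hy => mem_bot.2 (h.reg y hy.2 hy.1)
  rw [ncard_orbit, ← inf_relIndex_right, h1, relIndex_bot_left, Nat.card_zpowers, h.ord]

theorem CY.cardF (h : CY G Ω p q x γ) :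
    (orbit (zpowers x) γ)ᶜ.ncard + p ^ 2 = 2 * p * q := (h.toHy.lt2 h.cardΓ).1

theorem CY.lt2 (h : CY G Ω p q x γ) : p < 2 * q := (h.toHy.lt2 h.cardΓ).2

theorem CY.ordv (h : CY G Ω p q x γ) : orderOf (x ^ p) = p := by
  rw [orderOf_pow_of_dvd h.pp.ne_zero (by rw [h.ord]; exact dvd_pow_self p two_ne_zero), h.ord,
    pow_two, Nat.mul_div_cancel _ h.pp.pos]

theorem CY.reg' (h : CY G Ω p q x γ) (y : G) (hy : y ∈ zpowers x) (ω : Ω)
    (hω : ω ∈ orbit (zpowers x) γ) (e : y • ω = ω) : y = 1 := by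
  obtain ⟨⟨_, m, rfl⟩, rfl⟩ := hω
  obtain ⟨n, rfl⟩ := hy
  refine h.reg _ ⟨n, rfl⟩ (MulAction.injective (x ^ m) ?_)
  change x ^ n • x ^ m • γ = x ^ m • γ at e
  change x ^ m • x ^ n • γ = x ^ m • γ
  rw [← mul_smul, zpow_mul_comm, mul_smul, e]

theorem CY.mem_iff (h : CY G Ω p q x γ) (ω : Ω) :
    ω ∉ orbit (zpowers x) γ ↔ x ^ p • ω = ω := by
  refine ⟨h.fix ω, fun e hω => ?_⟩
  have h1 := h.ordv
  rw [h.reg' _ (npow_mem_zpowers x p) ω hω e, orderOf_one] at h1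
  exact h.pp.one_lt.ne h1

theorem CY.sylow (h : CY G Ω p q x γ) : ∃ P : Sylow p G, (P : Subgroup G) = zpowers x := by
  have := Fact.mk h.pp
  have h1 : Nat.card (zpowers x) = p ^ 2 := by rw [Nat.card_zpowers, h.ord]
  refine ⟨(IsPGroup.of_card h1).toSylow fun hd => h.syl ?_, rfl⟩
  rw [← card_mul_index (zpowers x), h1, pow_succ p 2]
  exact Nat.mul_dvd_mul_left _ hd

theorem CY.exF (h : CY G Ω p q x γ) : ∃ δ : Ω, δ ∉ orbit (zpowers x) γ := by
  have h1 := h.cardF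
  have h2 := h.lt2
  have h3 := h.pp.pos
  exact Set.nonempty_of_ncard_ne_zero (s := (orbit (zpowers x) γ)ᶜ) (by nlinarith)

end

end CF.El
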