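import Cfsg.Agent.El.B

/-! S3579, case B-ii-b: the pointwise stabilizer of `Γ - V γ` is a `p'`-group. -/

set_option autoImplicit false

namespace CF.El

open MulAction Subgroup

variable {G Ω : Type*} [Group G] [Finite G] [MulAction G Ω] [Finite Ω] {p q : ℕ}

/-- a `p`-group normalizing a group of order divisible by `p` centralizes a `p`-element of it -/
theorem J1_cent (hp : p.Prime) (V J : Subgroup G) (hV : IsPGroup p V)
    (hn : V ≤ normalizer (J : Set G)) (hJ : p ∣ Nat.card J) :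
    ∃ w ∈ J, w ≠ 1 ∧ (∃ k : ℕ, w ^ p ^ k = 1) ∧ ∀ v ∈ V, v * w = w * v := by
  have : Fact p.Prime := ⟨hp⟩
  set N := normalizer (J : Set G) with hN
  obtain ⟨Q, hQ⟩ := (hV.comap_subtype (K := N)).exists_le_sylow
  obtain ⟨j, hj⟩ := exists_prime_orderOf_dvd_card' (G := J) p hJ
  have hj1 : j ≠ 1 := by
    rintro rfl
    rw [orderOf_one] at hj
    exact hp.one_lt.ne hj
  let j' : N := ⟨j, le_normalizer j.2⟩
  have hjo : orderOf j' = p := by
    rw [← hj, ← orderOf_coe, ← orderOf_coe (G := G) j]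
  have hz : IsPGroup p (zpowers j') := by
    apply IsPGroup.of_card (n := 1)
    rw [Nat.card_zpowers, hjo, pow_one]
  obtain ⟨Q', hQ'⟩ := hz.exists_le_sylow
  obtain ⟨g, hg⟩ := exists_smul_eq N Q' Q
  have hJn : (J.subgroupOf N).Normal := normal_in_normalizer
  have hjQ : g * j' * g⁻¹ ∈ (Q : Subgroup N) := by
    rw [← hg]
    exact ⟨j', hQ' (mem_zpowers _), by simp⟩
  have hjJ : g * j' * g⁻¹ ∈ J.subgroupOf N := hJn.conj_mem _ (by simp [j', mem_subgroupOf]) g
  let K : Subgroup (Q : Subgroup N) := (J.subgroupOf N).subgroupOf Q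
  have : K.Normal := Normal.subgroupOf hJn _
  have hK : IsPGroup p K := Q.isPGroup'.to_subgroup K
  let k0 : K := ⟨⟨_, hjQ⟩, hjJ⟩
  have hk0 : k0 ≠ 1 := by
    intro e
    have e1 : g * j' * g⁻¹ = 1 := congrArg (fun z : K => ((z : (Q : Subgroup N)) : N)) e
    have e2 : j' = 1 := by
      have : j' = g⁻¹ * (g * j' * g⁻¹) * g := by group
      rw [this, e1]; group
    exact hj1 (Subtype.ext (congrArg (fun z : N => (z : G)) e2))
  have : Nontrivial K := ⟨k0, 1, hk0⟩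
  have hd : p ∣ Nat.card K := by
    rcases hK.card_eq_or_dvd with h1 | h1
    · exact absurd h1 (Finite.one_lt_card (α := K)).ne'
    · exact h1
  let : MulAction (Q : Subgroup N) K := MulAction.compHom K (MulAut.conjNormal (H := K))
  have h1 : (1 : K) ∈ fixedPoints (Q : Subgroup N) K := fun g => map_one (MulAut.conjNormal g)
  obtain ⟨b, hb, hb1⟩ :=
    Q.isPGroup'.exists_fixed_point_of_prime_dvd_card_of_fixed_point K hd h1
  refine ⟨(((b : (Q : Subgroup N)) : N) : G), b.2, ?_, ?_, ?_⟩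
  · intro e
    exact hb1 (Subtype.ext (Subtype.ext (Subtype.ext e))).symm
  · obtain ⟨k, hk⟩ := hK b
    exact ⟨k, congrArg (fun z : K => (((z : (Q : Subgroup N)) : N) : G)) hk⟩
  · intro v hv
    have hvQ : (⟨v, hn hv⟩ : N) ∈ (Q : Subgroup N) := hQ hv
    have e := congrArg (fun z : K => (((z : (Q : Subgroup N)) : N) : G)) (hb ⟨_, hvQ⟩)
    have e' : v * (((b : (Q : Subgroup N)) : N) : G) * v⁻¹ = (((b : (Q : Subgroup N)) : N) : G) := e
    calc v * (((b : (Q : Subgroup N)) : N) : G)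
        = v * (((b : (Q : Subgroup N)) : N) : G) * v⁻¹ * v := by group
      _ = _ := by rw [e']

section
variable {P : Sylow p G} {V : Subgroup G} {γ : Ω}

theorem J1_cyc (h : B2 G Ω p q P V γ) {v : G} (hv : v ∈ V) (hγ : v • γ ≠ γ) :
    orderOf v = p ∧ orbit V γ = orbit (zpowers v) γ := by
  have : Fact p.Prime := ⟨h.pp⟩
  have h1 : v ≠ 1 := by
    rintro rfl
    exact hγ (one_smul _ _)
  have ho : orderOf v = p := orderOf_eq_prime (h.ea.2 v hv) h1
  refine ⟨ho, ?_⟩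
  symm
  refine Set.eq_of_subset_of_ncard_le ?_ ?_ (Set.toFinite _)
  · rintro _ ⟨u, rfl⟩
    exact ⟨⟨u, (zpowers_le.2 hv) u.2⟩, rfl⟩
  · rw [ncard_orbit, ncard_orbit, h.iV' γ (mem_orbit_self γ)]
    have hd : (stabilizer G γ).relIndex (zpowers v) ∣ p := by
      rw [← ho, ← Nat.card_zpowers]
      exact relIndex_dvd_card _ _
    rcases (Nat.dvd_prime h.pp).1 hd with e | e
    · exact absurd (relIndex_eq_one.1 e (mem_zpowers v)) hγ
    · exact e.ge

theorem J1_pow (h : B2 G Ω p q P V γ) {x : G} (hx : x ∈ (P : Subgroup G)) : x ^ p ∈ V := by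
  have : (V.subgroupOf (P : Subgroup G)).Normal :=
    (normal_subgroupOf_iff_le_normalizer h.VP).2 h.nrm
  have := pow_index_mem (H := V.subgroupOf (P : Subgroup G)) (⟨x, hx⟩ : (P : Subgroup G))
  rw [show (V.subgroupOf (P : Subgroup G)).index = p from h.iV] at this
  exact this

theorem J1_R (h : B2 G Ω p q P V γ) {x : G} (hx : x ∈ (P : Subgroup G)) (hxV : x ∉ V) {n : ℕ}
    (h0 : 0 < n) (hn : n < p) : x ^ n • γ ∈ orbit (P : Subgroup G) γ \ orbit V γ := by
  refine ⟨⟨⟨x ^ n, pow_mem hx n⟩, rfl⟩, ?_⟩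
  rintro ⟨u, hu⟩
  have hu' : (u : G) • γ = x ^ n • γ := hu
  have hm : (u : G)⁻¹ * x ^ n ∈ V := by
    by_contra hc
    refine h.fpf _ (mul_mem (inv_mem (h.VP u.2)) (pow_mem hx n)) hc γ ?_
    rw [mul_smul, ← hu', inv_smul_smul]
  have hxn : x ^ n ∈ V := by
    have := mul_mem u.2 hm
    rwa [mul_inv_cancel_left] at this
  have hc : Nat.Coprime n p :=
    ((Nat.Prime.coprime_iff_not_dvd h.pp).2 (Nat.not_dvd_of_pos_of_lt h0 hn)).symm
  apply hxV
  have e : x = (x ^ n) ^ (Nat.gcdA n p) * (x ^ p) ^ (Nat.gcdB n p) := by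
    rw [← zpow_natCast, ← zpow_natCast, ← zpow_mul, ← zpow_mul, ← zpow_add, ← Nat.gcd_eq_gcd_ab,
      hc.gcd_eq_one]
    simp
  rw [e]
  exact mul_mem (zpow_mem hxn _) (zpow_mem (J1_pow h hx) _)

omit [Finite G] [Finite Ω] in
theorem J1_vR (h : B2 G Ω p q P V γ) {v : G} (hv : v ∈ V) {ω : Ω}
    (hω : ω ∈ orbit (P : Subgroup G) γ \ orbit V γ) :
    v • ω ∈ orbit (P : Subgroup G) γ \ orbit V γ := by
  obtain ⟨⟨y, hy⟩, h2⟩ := hω
  refine ⟨⟨⟨v, h.VP hv⟩ * y, ?_⟩, ?_⟩
  · rw [← hy]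
    exact mul_smul v (y : G) γ
  · rintro ⟨u, hu⟩
    refine h2 ⟨⟨v, hv⟩⁻¹ * u, ?_⟩
    have hu' : (u : G) • γ = v • ω := hu
    change (v⁻¹ * (u : G)) • γ = ω
    rw [mul_smul, hu', inv_smul_smul]

theorem J1_cop (h : B2 G Ω p q P V γ) :
    ¬ p ∣ Nat.card (fixingSubgroup G (orbit (P : Subgroup G) γ \ orbit V γ)) := by
  have : Fact p.Prime := ⟨h.pp⟩
  intro hd
  set R := orbit (P : Subgroup G) γ \ orbit V γ with hR
  have hVp : IsPGroup p V := P.isPGroup'.to_le h.VP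
  have hn : V ≤ normalizer (fixingSubgroup G R : Set G) := by
    have key : ∀ v ∈ V, ∀ j ∈ fixingSubgroup G R, v * j * v⁻¹ ∈ fixingSubgroup G R := by
      intro v hv j hj
      rw [mem_fixingSubgroup_iff] at hj ⊢
      intro ω hω
      rw [mul_smul, mul_smul, hj _ (J1_vR h (inv_mem hv) hω), smul_inv_smul]
    intro v hv
    rw [mem_normalizer_iff]
    intro j
    refine ⟨key v hv j, fun hj => ?_⟩
    have := key v⁻¹ (inv_mem hv) _ hj
    simpa [mul_assoc] using this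
  obtain ⟨w, hwJ, hw1, ⟨k, hk⟩, hwc⟩ := J1_cent h.pp V _ hVp hn hd
  rw [mem_fixingSubgroup_iff] at hwJ
  obtain ⟨x, hx, hxV⟩ : ∃ x ∈ (P : Subgroup G), x ∉ V := by
    by_contra hc
    have e : V.relIndex (P : Subgroup G) = 1 :=
      relIndex_eq_one.2 fun x hx => by_contra fun hxV => hc ⟨x, hx, hxV⟩
    exact h.pp.one_lt.ne' (h.iV.symm.trans e)
  have hwN : w ∈ normalizer (V : Set G) := by
    rw [mem_normalizer_iff]
    intro v
    constructor
    · intro hv
      rw [← hwc v hv, mul_inv_cancel_right]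
      exact hv
    · intro hv
      have e := hwc _ hv
      have e' : v = w * v * w⁻¹ := by
        have : w * v = w * (w * v * w⁻¹) := by rw [← e]; group
        exact mul_left_cancel this
      rw [e']
      exact hv
  have hwV : w ∈ V := by
    by_contra hc
    exact h.FP hwN hk hc _ (hwJ _ (J1_R h hx hxV one_pos h.pp.one_lt))
  have triv : ∀ z ∈ V, (∀ ω ∈ orbit (P : Subgroup G) γ, z • ω = ω) → z = 1 := by
    intro z hz hf
    refine h.fa z fun ω => ?_
    by_cases hω : ω ∈ orbit (P : Subgroup G) γ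
    · exact hf ω hω
    · exact h.fix ω hω z hz
  have hwγ : w • γ ≠ γ := by
    intro e
    refine hw1 (triv w hwV fun ω hω => ?_)
    by_cases hA : ω ∈ orbit V γ
    · obtain ⟨u, rfl⟩ := hA
      change w • (u : G) • γ = (u : G) • γ
      rw [← mul_smul, ← hwc u u.2, mul_smul, e]
    · exact hwJ ω ⟨hω, hA⟩
  have hA := (J1_cyc h hwV hwγ).2
  obtain ⟨u, hu⟩ : (x ^ p)⁻¹ • γ ∈ orbit (zpowers w) γ := by
    rw [← hA]
    exact ⟨⟨_, inv_mem (J1_pow h hx)⟩, rfl⟩
  have hu' : (u : G) • γ = (x ^ p)⁻¹ • γ := hu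
  have huV : (u : G) ∈ V := zpowers_le.2 hwV u.2
  have huR : ∀ ω ∈ R, (u : G) • ω = ω := fun ω hω =>
    (zpowers_le.2 (show w ∈ stabilizer G ω from hwJ ω hω)) u.2
  have hux : (u : G) • x ^ p • γ = γ := by
    rw [← mul_smul, h.ea.1 _ huV _ (J1_pow h hx), mul_smul, hu', smul_inv_smul]
  set y : G := u * x with hy
  have hyP : y ∈ (P : Subgroup G) := mul_mem (h.VP huV) hx
  have hyV : y ∉ V := fun hc => hxV (by
    have := mul_mem (inv_mem huV) hc
    rwa [hy, inv_mul_cancel_left] at this)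
  have ind : ∀ n : ℕ, n < p → y ^ n • γ = x ^ n • γ := by
    intro n
    induction n with
    | zero => intro _; simp
    | succ n ih =>
      intro hn
      rw [pow_succ', mul_smul, ih (by omega), hy, mul_smul, ← mul_smul x, ← pow_succ']
      exact huR _ (J1_R h hx hxV (Nat.succ_pos n) hn)
  have hyγ : y ^ p • γ = γ := by
    obtain ⟨n, hn⟩ : ∃ n, p = n + 1 := ⟨p - 1, by have := h.pp.one_lt; omega⟩
    have e := ind n (by omega)
    calc y ^ p • γ = y ^ (n + 1) • γ := by rw [← hn]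
      _ = (u : G) • x ^ (n + 1) • γ := by
        rw [pow_succ', mul_smul, e, hy, mul_smul, ← mul_smul x, ← pow_succ']
      _ = γ := by rw [← hn, hux]
  have hzV : y ^ p ∈ V := J1_pow h hyP
  let C : Subgroup G := centralizer {y ^ p} ⊓ (P : Subgroup G)
  have hVC : V ≤ C := fun v hv =>
    mem_inf.2 ⟨mem_centralizer_singleton_iff.2 (h.ea.1 _ hv _ hzV), h.VP hv⟩
  have hyC : y ∈ C :=
    mem_inf.2 ⟨mem_centralizer_singleton_iff.2 ((Commute.refl y).pow_right p).eq, hyP⟩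
  have hPC : (P : Subgroup G) ≤ C := by
    have e := relIndex_mul_relIndex V C (P : Subgroup G) hVC inf_le_right
    rw [h.iV] at e
    rcases (Nat.dvd_prime h.pp).1 (Dvd.intro_left _ e) with e1 | e1
    · exact relIndex_eq_one.1 e1
    · rw [e1] at e
      have e2 : V.relIndex C = 1 := Nat.eq_of_mul_eq_mul_right h.pp.pos (by rw [e, one_mul])
      exact absurd (relIndex_eq_one.1 e2 hyC) hyV
  have hz : y ^ p = 1 := by
    refine triv _ hzV ?_
    rintro _ ⟨t, rfl⟩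
    have e : (t : G) * y ^ p = y ^ p * t := mem_centralizer_singleton_iff.1 (hPC t.2).1
    change y ^ p • (t : G) • γ = (t : G) • γ
    rw [← mul_smul, ← e, mul_smul, hyγ]
  have hy1 : y ≠ 1 := fun e => hyV (e ▸ one_mem V)
  obtain ⟨ω, hω⟩ := h.el y (by rw [orderOf_eq_prime hz hy1]; exact h.pp)
  exact h.fpf y hyP hyV ω hω

theorem J1 (h : B2 G Ω p q P V γ) {v : G} (hv : v ∈ V) (hγ : v • γ ≠ γ) :
    JF p v (fixingSubgroup G (orbit (P : Subgroup G) γ \ orbit V γ)) (orbit V γ)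
      (orbit (P : Subgroup G) γ \ orbit V γ) where
  fa := h.fa
  pp := h.pp
  ord := (J1_cyc h hv hγ).1
  cyc := ⟨γ, hγ, (J1_cyc h hv hγ).2⟩
  dj := Set.disjoint_sdiff_right
  vR := fun _ hω => J1_vR h hv hω
  vF := fun ω h1 h2 => h.fix ω (fun h3 => h2 ⟨h3, h1⟩) v hv
  mem := fun _ => mem_fixingSubgroup_iff G
  cop := J1_cop h

end

end CF.El
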