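import Cfsg.Agent.El.B

/-! S3579, case B-ii-b: `v` does not centralize `J`. -/

set_option autoImplicit false

namespace CF.El

open MulAction Subgroup

variable {G Ω : Type*} [Group G] [Finite G] [MulAction G Ω] [Finite Ω] {p q : ℕ}
variable {P : Sylow p G} {V : Subgroup G} {γ : Ω}

/-- an element of `V` that moves `ω` is transitive on the `V`-orbit of `ω` -/
theorem J2_pow (h : B2 G Ω p q P V γ) {ω : Ω} {u : G} (hu : u ∈ V) (hm : u • ω ≠ ω) {w : G}
    (hw : w ∈ V) : ∃ k : ℤ, w • ω = u ^ k • ω := by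
  have hΓ : ω ∈ orbit (P : Subgroup G) γ := by
    by_contra hn
    exact hm (h.fix ω hn u hu)
  have h1 : (orbit V ω).ncard = p := by rw [ncard_orbit, h.iV' ω hΓ]
  have hle : zpowers u ≤ V := by rwa [zpowers_le]
  have hsub : orbit (zpowers u) ω ⊆ orbit V ω := by
    rintro _ ⟨y, rfl⟩
    exact ⟨⟨y, hle y.2⟩, rfl⟩
  have hd : (stabilizer G ω).relIndex (zpowers u) ∣ p := by
    refine (relIndex_dvd_card _ _).trans ?_
    rw [Nat.card_zpowers]
    exact orderOf_dvd_of_pow_eq_one (h.ea.2 u hu)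
  have h2 : (orbit (zpowers u) ω).ncard = p := by
    rw [ncard_orbit]
    rcases (Nat.dvd_prime h.pp).1 hd with e | e
    · exact absurd (relIndex_eq_one.1 e (mem_zpowers u)) hm
    · exact e
  have he : orbit (zpowers u) ω = orbit V ω :=
    Set.eq_of_subset_of_ncard_le hsub (by rw [h1, h2]) (Set.toFinite _)
  have : w • ω ∈ orbit (zpowers u) ω := he ▸ ⟨⟨w, hw⟩, rfl⟩
  obtain ⟨⟨y, k, rfl⟩, e⟩ := this
  exact ⟨k, e.symm⟩

/-- `U = V_γ ≠ 1` moves every point of `R` -/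
theorem J2_move (h : B2 G Ω p q P V γ) (hU : V ⊓ stabilizer G γ ≠ ⊥) {ω : Ω}
    (hω : ω ∈ orbit (P : Subgroup G) γ \ orbit V γ) :
    ∃ u ∈ V ⊓ stabilizer G γ, u • ω ≠ ω := by
  by_contra hn
  push Not at hn
  obtain ⟨⟨⟨x, hx⟩, rfl⟩, hA⟩ := hω
  have hxV : x ∉ V := fun hv => hA ⟨⟨x, hv⟩, rfl⟩
  set U := V ⊓ stabilizer G γ with hUd
  have hx1 : x⁻¹ ∈ normalizer (U : Set G) := by
    refine mem_normalizer_fintype fun u hu => ⟨?_, ?_⟩
    · exact (mem_normalizer_iff.1 (h.nrm (inv_mem hx)) u).1 hu.1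
    · have e : u • x • γ = x • γ := hn u hu
      show (x⁻¹ * u * x⁻¹⁻¹) • γ = γ
      rw [inv_inv, mul_smul, mul_smul, e, inv_smul_smul]
  have hVH : V ≤ (P : Subgroup G) ⊓ normalizer (U : Set G) := by
    intro y hy
    refine ⟨h.VP hy, mem_normalizer_fintype fun u hu => ?_⟩
    have e : y * u * y⁻¹ = u := by rw [h.ea.1 y hy u hu.1, mul_inv_cancel_right]
    rwa [e]
  have hm := relIndex_mul_relIndex V _ (P : Subgroup G) hVH inf_le_left
  rw [h.iV] at hm
  have hPH : (P : Subgroup G) ≤ (P : Subgroup G) ⊓ normalizer (U : Set G) := by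
    rcases (Nat.dvd_prime h.pp).1 (Dvd.intro _ hm) with e | e
    · exact absurd (relIndex_eq_one.1 e ⟨hx, by simpa using inv_mem hx1⟩) hxV
    · rw [e] at hm
      exact relIndex_eq_one.1 (Nat.eq_of_mul_eq_mul_left h.pp.pos (by rw [hm, mul_one]))
  apply hU
  rw [eq_bot_iff]
  intro u hu
  refine mem_bot.2 (h.fa u fun ω => ?_)
  by_cases hΓ : ω ∈ orbit (P : Subgroup G) γ
  · obtain ⟨⟨y, hy⟩, rfl⟩ := hΓ
    have e : (y⁻¹ * u * y) • γ = γ := ((mem_normalizer_iff''.1 (hPH hy).2 u).1 hu).2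
    show u • y • γ = y • γ
    rw [mul_smul, mul_smul, inv_smul_eq_iff] at e
    exact e
  · exact h.fix ω hΓ u hu.1

theorem J2 (h : B2 G Ω p q P V γ) (hU : V ⊓ stabilizer G γ ≠ ⊥) {v : G} (hv : v ∈ V)
    (hγ : v • γ ≠ γ)
    (hJ : ¬ p ∣ Nat.card (fixingSubgroup G (orbit (P : Subgroup G) γ \ orbit V γ))) :
    ∃ j ∈ fixingSubgroup G (orbit (P : Subgroup G) γ \ orbit V γ), j * v ≠ v * j := by
  by_contra hn
  push Not at hn
  have hT : IsPGroup p (V ⊓ stabilizer G γ : Subgroup G) :=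
    P.isPGroup'.to_le (inf_le_left.trans h.VP)
  obtain ⟨g, hg1, hg2⟩ := h.sylst _ hT γ inf_le_right
  -- `v' = g w g⁻¹` is not in `V`
  obtain ⟨w, hw, hwV⟩ : ∃ w ∈ V, g * w * g⁻¹ ∉ V := by
    by_contra hc
    push Not at hc
    have hg : g ∈ normalizer (V : Set G) := mem_normalizer_fintype hc
    have e := hg2 _ ((mem_normalizer_iff''.1 hg v).1 hv)
    apply hγ
    rwa [show g * (g⁻¹ * v * g) * g⁻¹ = v by group] at e
  set v' := g * w * g⁻¹ with hv'
  have cU : ∀ u ∈ V ⊓ stabilizer G γ, Commute u v' := by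
    intro u hu
    have e := h.ea.1 _ (hg1 u hu) w hw
    show u * v' = v' * u
    calc u * v' = g * (g⁻¹ * u * g * w) * g⁻¹ := by rw [hv']; group
      _ = v' * u := by rw [e, hv']; group
  have p' : v' ^ p = 1 := by rw [hv', conj_pow, h.ea.2 w hw, mul_one, mul_inv_cancel]
  -- the commutator lies in `J`
  have hd : v⁻¹ * v'⁻¹ * v * v' ∈
      fixingSubgroup G (orbit (P : Subgroup G) γ \ orbit V γ) := by
    rw [mem_fixingSubgroup_iff]
    intro ω hω
    obtain ⟨u, hu, hm⟩ := J2_move h hU hω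
    obtain ⟨a, ha⟩ := J2_pow h hu.1 hm hv
    have hm' : (g⁻¹ * u * g) • g⁻¹ • ω ≠ g⁻¹ • ω := by
      rw [mul_smul, mul_smul, smul_inv_smul]
      exact fun e => hm (smul_left_cancel _ e)
    obtain ⟨b, hb⟩ := J2_pow h (hg1 u hu) hm' hw
    have hb' : v' • ω = u ^ b • ω := by
      have e : (g⁻¹ * u * g) ^ b = g⁻¹ * u ^ b * g := by
        simpa using conj_zpow (a := g⁻¹) (b := u) (i := b)
      rw [hv', mul_smul, mul_smul, hb, e, mul_smul, mul_smul, smul_inv_smul, smul_inv_smul]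
    have c1 : Commute u v := h.ea.1 u hu.1 v hv
    have c2 := cU u hu
    have e1 : v • v' • ω = v' • v • ω := by
      rw [hb', ha, ← mul_smul, ← mul_smul, ← (c1.zpow_left b).eq, ← (c2.zpow_left a).eq,
        mul_smul, mul_smul, ha, hb', ← mul_smul, ← mul_smul, (zpow_mul_comm u b a)]
    rw [mul_smul, mul_smul, mul_smul, e1, inv_smul_smul, inv_smul_smul]
  set d := v⁻¹ * v'⁻¹ * v * v' with hdd
  have c : Commute d v := hn d hd
  have e1 : (v * d) ^ p = 1 := by
    have : v * d = v'⁻¹ * v * v'⁻¹⁻¹ := by rw [hdd]; group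
    rw [this, conj_pow, h.ea.2 v hv, mul_one, mul_inv_cancel]
  rw [c.symm.mul_pow, h.ea.2 v hv, one_mul] at e1
  have d1 : d = 1 := by
    rcases (Nat.dvd_prime h.pp).1 (orderOf_dvd_of_pow_eq_one e1) with e | e
    · exact orderOf_eq_one_iff.1 e
    · have := orderOf_dvd_natCard _ hd
      rw [e] at this
      exact absurd this hJ
  have cv : Commute v v' := by
    show v * v' = v' * v
    calc v * v' = v' * v * d := by rw [hdd]; group
      _ = v' * v := by rw [d1, mul_one]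
  have hN : v' ∈ normalizer (V : Set G) := by
    refine mem_normalizer_fintype fun y hy => ?_
    obtain ⟨k, hk⟩ := J2_pow h hv hγ hy
    have hu : (v ^ k)⁻¹ * y ∈ V ⊓ stabilizer G γ := by
      refine ⟨V.mul_mem (V.inv_mem (V.zpow_mem hv k)) hy, ?_⟩
      show ((v ^ k)⁻¹ * y) • γ = γ
      rw [mul_smul, hk, inv_smul_smul]
    have cy : Commute y v' := by
      have := (cv.zpow_left k).mul_left (cU _ hu)
      rwa [mul_inv_cancel_left] at this
    rwa [← cy.eq, mul_inv_cancel_right]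
  exact h.FP hN (k := 1) (by rw [pow_one, p']) hwV γ (hg2 w hw)

end CF.El
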