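import Cfsg.Agent.El.J0

/-! S3579, frame `JF`: a minimal `v`-invariant subgroup of `J` not centralized by `v`. -/

set_option autoImplicit false

namespace CF.El

open MulAction Subgroup

variable {G Ω : Type*} [Group G] [Finite G] [MulAction G Ω] {p : ℕ}
variable {v : G} {J : Subgroup G} {A R : Set Ω}

namespace J3

theorem cfix (hp : p.Prime) (hv : v ^ p = 1) (S : Set G)
    (hS : ∀ s ∈ S, v * s * v⁻¹ ∈ S) (hc : ¬ p ∣ S.ncard) : ∃ c ∈ S, c * v = v * c := by
  classical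
  have := Fact.mk hp
  have := Fintype.ofFinite S
  let f : Function.End S := fun s => ⟨v * s * v⁻¹, hS s s.2⟩
  have hk : ∀ (k : ℕ) (s : S), ((f ^ k) s : G) = v ^ k * s * (v ^ k)⁻¹ := by
    intro k
    induction k with
    | zero => intro s; simp [Function.End.one_def]
    | succ k ih =>
      intro s
      rw [pow_succ']
      change v * ((f ^ k) s : G) * v⁻¹ = _
      rw [ih, pow_succ']
      group
  have hf : f ^ p ^ 1 = 1 := by
    funext s
    apply Subtype.ext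
    rw [pow_one, hk, hv]
    simp [Function.End.one_def]
  have hm := Equiv.Perm.card_fixedPoints_modEq hf
  by_contra hn
  have he : IsEmpty f.fixedPoints := by
    refine ⟨fun s => hn ⟨s.1, s.1.2, ?_⟩⟩
    have : v * s.1 * v⁻¹ = s.1 := congrArg Subtype.val s.2
    calc (s.1 : G) * v = v * s.1 * v⁻¹ * v := by rw [this]
      _ = _ := by group
  rw [Fintype.card_eq_zero (α := f.fixedPoints)] at hm
  apply hc
  rw [← Nat.card_coe_set_eq, Nat.card_eq_fintype_card]
  exact (Nat.modEq_zero_iff_dvd).1 hm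

/-- the coset trick -/
theorem trick (h : JF p v J A R) {E : Subgroup G} (hE : E ≤ J)
    (hi : ∀ e ∈ E, v * e * v⁻¹ ∈ E) {ω : Ω} (hω : v • ω = ω) {e : G} (he : e ∈ E)
    (hv : v • e • ω = e • ω) : ∃ c ∈ E, c * v = v * c ∧ c • ω = e • ω := by
  have hω' : v⁻¹ • ω = ω := by rw [inv_smul_eq_iff, hω]
  have hc : ¬ p ∣ {s : G | s ∈ E ∧ s • ω = e • ω}.ncard := by
    have e1 : {s : G | s ∈ E ∧ s • ω = e • ω} =
        (fun t => e * t) '' ((E ⊓ stabilizer G ω : Subgroup G) : Set G) := by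
      ext s
      constructor
      · rintro ⟨h1, h2⟩
        refine ⟨e⁻¹ * s, ⟨E.mul_mem (E.inv_mem he) h1, ?_⟩, by simp⟩
        change (e⁻¹ * s) • ω = ω
        rw [mul_smul, h2, inv_smul_smul]
      · rintro ⟨t, ⟨h1, h2⟩, rfl⟩
        refine ⟨mul_mem he h1, ?_⟩
        have h3 : t • ω = ω := h2
        rw [mul_smul, h3]
    rw [e1, Set.ncard_image_of_injective _ (mul_right_injective e), ← Nat.card_coe_set_eq]
    intro hd
    exact h.cop (hd.trans (card_dvd_of_le (inf_le_left.trans hE)))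
  obtain ⟨c, ⟨h1, h2⟩, h3⟩ := cfix h.pp (by rw [← h.ord, pow_orderOf_eq_one]) _ (by
    rintro s ⟨h1, h2⟩
    refine ⟨hi s h1, ?_⟩
    rw [mul_smul, mul_smul, hω', h2, hv]) hc
  exact ⟨c, h1, h3, h2⟩

theorem zinv {E : Subgroup G} (hi : ∀ e ∈ E, v * e * v⁻¹ ∈ E) (k : ℤ) {e : G} (he : e ∈ E) :
    v ^ k * e * (v ^ k)⁻¹ ∈ E := by
  have hn : v ∈ normalizer (E : Set G) := mem_normalizer_fintype hi
  exact (mem_normalizer_iff.1 (zpow_mem hn k) e).1 he

end J3

open J3

omit [Finite G] in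
theorem JF.inv (h : JF p v J A R) : ∀ e ∈ J, v * e * v⁻¹ ∈ J := by
  intro e he
  rw [h.mem] at he ⊢
  intro ω hω
  have hk : ∀ k : ℕ, v ^ k • ω ∈ R := by
    intro k
    induction k with
    | zero => simpa using hω
    | succ k ih => rw [pow_succ', mul_smul]; exact h.vR _ ih
  have e1 : v⁻¹ = v ^ (p - 1) := by
    rw [inv_eq_iff_mul_eq_one, ← pow_succ', Nat.sub_add_cancel h.pp.one_le, ← h.ord,
      pow_orderOf_eq_one]
  rw [mul_smul, mul_smul, he _ (e1 ▸ hk _), smul_inv_smul]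

/-- a `v`-invariant subgroup of `J` that keeps a point of `A` inside `A` fixes `A` pointwise -/
theorem JF.fixA (h : JF p v J A R) {E : Subgroup G} (hE : E ≤ J)
    (hi : ∀ e ∈ E, v * e * v⁻¹ ∈ E) {a : Ω} (ha : a ∈ A) (hA : ∀ e ∈ E, e • a ∈ A) :
    ∀ e ∈ E, ∀ b ∈ A, e • b = b := by
  have h1 : ∀ e ∈ E, e • a = a := by
    intro e he
    obtain ⟨k, hk⟩ := h.ex ha (hA e he)
    by_cases hd : (p : ℤ) ∣ k
    · rw [← hk, h.of_dvd hd, one_smul]
    exfalso
    have hn : ∀ n : ℕ, ∃ e' ∈ E, e' • a = v ^ (k * n) • a := by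
      intro n
      induction n with
      | zero => exact ⟨1, one_mem _, by simp⟩
      | succ n ih =>
        obtain ⟨e', h1, h2⟩ := ih
        refine ⟨v ^ k * e' * (v ^ k)⁻¹ * e, mul_mem (zinv hi k h1) he, ?_⟩
        rw [mul_smul, ← hk, mul_smul, inv_smul_smul, mul_smul, h2, ← mul_smul, ← zpow_add]
        congr 2
        push_cast
        ring
    have ho : orbit E a = A := by
      apply Set.Subset.antisymm
      · rintro _ ⟨e', rfl⟩
        exact hA e' e'.2
      · intro b hb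
        obtain ⟨j, rfl⟩ := h.ex ha hb
        have hp : Prime (p : ℤ) := Nat.prime_iff_prime_int.1 h.pp
        obtain ⟨s, t, hst⟩ := (hp.irreducible.coprime_iff_not_dvd.2 hd)
        have hp0 : (p : ℤ) ≠ 0 := hp.ne_zero
        obtain ⟨e', h1, h2⟩ := hn ((t * j) % p).toNat
        refine ⟨⟨e', h1⟩, ?_⟩
        change e' • a = _
        rw [h2, Int.toNat_of_nonneg (Int.emod_nonneg _ hp0)]
        have h3 : (p : ℤ) ∣ k * ((t * j) % p) - j := by
          rw [Int.emod_def]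
          exact ⟨-(s * j) - k * (t * j / p), by linear_combination j * hst⟩
        have h4 := h.of_dvd h3
        rw [zpow_sub, mul_inv_eq_one] at h4
        rw [h4]
    have h2 := index_stabilizer E a
    rw [ho, h.cardA] at h2
    exact h.cop ((h2 ▸ index_dvd_card _).trans (card_dvd_of_le hE))
  intro e he b hb
  obtain ⟨k, rfl⟩ := h.ex ha hb
  have h2 := h1 _ (zinv hi (-k) he)
  rw [zpow_neg, inv_inv, mul_smul, mul_smul, inv_smul_eq_iff] at h2
  exact h2

omit [Finite G] in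
theorem JF.comm_of_fixA (h : JF p v J A R) {e : G} (he : e ∈ J) (hA : ∀ b ∈ A, e • b = b) :
    e * v = v * e := by
  have : ∀ ω : Ω, (e * v) • ω = (v * e) • ω := by
    intro ω
    rw [mul_smul, mul_smul]
    by_cases h1 : ω ∈ A
    · rw [hA _ h1, hA _ (h.vmem h1)]
    by_cases h2 : ω ∈ R
    · rw [(h.mem e).1 he _ h2, (h.mem e).1 he _ (h.vR _ h2)]
    rw [h.vF _ h1 h2, h.vF _ _ (h.nR he h2)]
    intro h3
    exact h1 (smul_left_cancel e (hA _ h3) ▸ h3)
  have h4 := h.fa ((v * e)⁻¹ * (e * v)) fun ω => by rw [mul_smul, this, inv_smul_smul]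
  rw [inv_mul_eq_one] at h4
  exact h4.symm

theorem J3 (h : JF p v J A R)
    (hn : ∃ j ∈ J, j * v ≠ v * j) : ∃ (E : Subgroup G) (l : Ω), EF J E A R l ∧
      v ∈ normalizer (E : Set G) ∧ Nat.card E = p + 1 ∧ ∀ e ∈ E, e * v = v * e → e = 1 := by
  classical
  have : Finite (Subgroup G) :=
    Finite.of_injective (fun H : Subgroup G => (H : Set G)) SetLike.coe_injective
  obtain ⟨E, ⟨hE, hi, j, hj, hjv⟩, hmin⟩ := (wellFounded_lt (α := Subgroup G)).has_min
    {E | E ≤ J ∧ (∀ e ∈ E, v * e * v⁻¹ ∈ E) ∧ ∃ j ∈ E, j * v ≠ v * j} ⟨J, le_rfl, h.inv, hn⟩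
  -- the stabilizer of a point fixed by `v` and moved by `E` is centralized by `v`
  have st : ∀ ω : Ω, v • ω = ω → ∀ e ∈ E, e • ω ≠ ω → ∀ c ∈ E, c • ω = ω → c * v = v * c := by
    intro ω hω e he hm c hc hcω
    by_contra hcv
    have hω' : v⁻¹ • ω = ω := by rw [inv_smul_eq_iff, hω]
    refine hmin (E ⊓ stabilizer G ω) ⟨inf_le_left.trans hE, ?_, c, ⟨hc, hcω⟩, hcv⟩ ?_
    · rintro s ⟨h1, h2⟩
      refine ⟨hi s h1, ?_⟩
      have h3 : s • ω = ω := h2
      change (v * s * v⁻¹) • ω = ω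
      rw [mul_smul, mul_smul, hω', h3, hω]
    · exact lt_of_le_of_ne inf_le_left fun e1 => hm (e1.ge he).2
  obtain ⟨a, ha⟩ := h.ne
  -- (a)
  obtain ⟨e0, he0, hl⟩ : ∃ e ∈ E, e • a ∉ A := by
    by_contra hc
    push Not at hc
    exact hjv (h.comm_of_fixA (hE hj) (h.fixA hE hi ha hc j hj))
  set l := e0 • a with hld
  have hlR : l ∉ R := h.nR (hE he0) (h.AnR ha)
  have hvl : v • l = l := h.vF _ hl hlR
  have hzl : ∀ k : ℤ, (v ^ k)⁻¹ • l = l := fun k =>
    (inv_mem (zpow_mem (mem_stabilizer_iff.2 hvl) k) : (v ^ k)⁻¹ ∈ stabilizer G l)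
  have hla : e0⁻¹ • l = a := by rw [hld, inv_smul_smul]
  have tr : ∀ b ∈ A, ∃ e ∈ E, e • l = b := by
    intro b hb
    obtain ⟨k, rfl⟩ := h.ex ha hb
    refine ⟨v ^ k * e0⁻¹ * (v ^ k)⁻¹, zinv hi k (inv_mem he0), ?_⟩
    rw [mul_smul, mul_smul, hzl, hla]
  -- (b)
  have hne : e0⁻¹ • l ≠ l := by rw [hla]; exact fun e1 => hl (e1 ▸ ha)
  have stl : ∀ c ∈ E, c • l = l → c * v = v * c := st l hvl _ (inv_mem he0) hne
  have hle : stabilizer E l ≤ stabilizer E a := fun c hc =>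
    J0 h (hE c.2) (stl c c.2 hc) a ha
  have hob : orbit E l = orbit E a := orbit_eq_iff.2 ⟨⟨e0, he0⟩, rfl⟩
  have hix : (stabilizer E l).index = (stabilizer E a).index := by
    rw [index_stabilizer, index_stabilizer, hob]
  have heq : stabilizer E l = stabilizer E a := by
    apply eq_of_le_of_card_ge hle
    have h1 := (stabilizer E l).index_mul_card
    have h2 := (stabilizer E a).index_mul_card
    rw [hix, ← h2] at h1
    exact (Nat.eq_of_mul_eq_mul_left (Nat.pos_of_ne_zero index_ne_zero_of_finite) h1).ge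
  have cl : ∀ c ∈ E, c * v = v * c → c • l = l := fun c hc e1 =>
    (heq.ge (show (⟨c, hc⟩ : E) ∈ stabilizer E a from J0 h (hE hc) e1 a ha) :
      (⟨c, hc⟩ : E) ∈ stabilizer E l)
  -- (c)
  have ol : ∀ e ∈ E, e • l ∉ A → e • l = l := by
    intro e he hA
    obtain ⟨c, h1, h2, h3⟩ := trick h hE hi hvl he (h.vF _ hA (h.nR (hE he) hlR))
    rw [← h3, cl c h1 h2]
  -- (d)
  have fx : ∀ e ∈ E, ∀ ω : Ω, ω ∉ A → ω ≠ l → e • ω = ω := by
    intro e he ω hA hωl
    by_cases hR : ω ∈ R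
    · exact (h.mem e).1 (hE he) ω hR
    by_contra hm
    have hvω := h.vF ω hA hR
    have hjA : j • ω ∉ A := by
      intro h1
      obtain ⟨e', h2, h3⟩ := tr _ h1
      have h4 : (j⁻¹ * e') • l = ω := by rw [mul_smul, h3, inv_smul_smul]
      have h5 := ol _ (mul_mem (inv_mem hj) h2) (h4 ▸ hA)
      exact hωl (h4 ▸ h5)
    obtain ⟨c, h1, h2, h3⟩ := trick h hE hi hvω hj (h.vF _ hjA (h.nR (hE hj) hR))
    have h4 := st ω hvω e he hm (c⁻¹ * j) (mul_mem (inv_mem h1) hj)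
      (by rw [mul_smul, ← h3, inv_smul_smul])
    apply hjv
    calc j * v = c * (c⁻¹ * j * v) := by group
      _ = c * v * (c⁻¹ * j) := by rw [h4]; group
      _ = v * j := by rw [h2]; group
  have one : ∀ e ∈ E, e * v = v * e → e = 1 := by
    intro e he e1
    refine h.fa e fun ω => ?_
    by_cases h1 : ω ∈ A
    · exact J0 h (hE he) e1 ω h1
    by_cases h2 : ω = l
    · rw [h2, cl e he e1]
    exact fx e he ω h1 h2
  refine ⟨E, l, ⟨hE, hl, hlR, tr, fx⟩, mem_normalizer_fintype hi, ?_, one⟩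
  have hb : stabilizer E l = ⊥ := by
    rw [eq_bot_iff]
    intro c hc
    rw [mem_bot]
    exact Subtype.ext (one c c.2 (stl c c.2 hc))
  have ho : orbit E l = insert l A := by
    apply Set.Subset.antisymm
    · rintro _ ⟨e, rfl⟩
      by_cases h1 : (e : G) • l ∈ A
      · exact Or.inr h1
      · exact Or.inl (ol e e.2 h1)
    · rintro b (rfl | hb)
      · exact mem_orbit_self _
      · obtain ⟨e, h1, h2⟩ := tr b hb
        exact ⟨⟨e, h1⟩, h2⟩
  have hfin : A.Finite := Set.finite_of_ncard_ne_zero (h.cardA ▸ h.pp.ne_zero)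
  have h1 := index_stabilizer E l
  rw [hb, index_bot, ho, Set.ncard_insert_of_notMem hl hfin, h.cardA] at h1
  exact h1

end CF.El
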