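import Cfsg.Agent.El.J4

/-! S3579: the piece `CF.El.J5` is proved in `El/J4`. -/
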