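import Cfsg.Agent.El.B
import Cfsg.Agent.El.J1
import Cfsg.Agent.El.J2
import Cfsg.Agent.El.J3
import Cfsg.Agent.El.J5

/-! S3579, case B-ii-b: glue of `J1` - `J5`. -/

set_option autoImplicit false

namespace CF.El

open MulAction Subgroup

variable {G Ω : Type*} [Group G] [Finite G] [MulAction G Ω] [Finite Ω] {p q : ℕ}

omit [Finite G] [Finite Ω] in
/-- transport of the frame `EF` along an element that preserves `A` and `R` -/
theorem EF.conj {J E : Subgroup G} {A R : Set Ω} {l : Ω} (h : EF J E A R l)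
    (hJ : ∀ g : G, g ∈ J ↔ ∀ ω ∈ R, g • ω = ω) (m : G) (hA : ∀ ω, m • ω ∈ A ↔ ω ∈ A)
    (hR : ∀ ω, m • ω ∈ R ↔ ω ∈ R) :
    EF J (E.map (MulAut.conj m).toMonoidHom) A R (m • l) where
  le := by
    rintro _ ⟨e, he, rfl⟩
    refine (hJ _).2 fun ω hω => ?_
    have := (hJ e).1 (h.le he) (m⁻¹ • ω) ((hR _).1 (by simpa using hω))
    simp [mul_smul, this]
  nA := fun k => h.nA ((hA l).1 k)
  nR := fun k => h.nR ((hR l).1 k)
  tr := fun a ha => by
    obtain ⟨e, he, k⟩ := h.tr (m⁻¹ • a) ((hA _).1 (by simpa using ha))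
    exact ⟨_, ⟨e, he, rfl⟩, by simp [mul_smul, k]⟩
  fx := by
    rintro _ ⟨e, he, rfl⟩ ω h1 h2
    have := h.fx e he (m⁻¹ • ω) (fun k => h1 (by simpa using (hA _).2 k))
      fun k => h2 (by rw [← k, smul_inv_smul])
    simp [mul_smul, this]

theorem B2.nrm_mem {P : Sylow p G} {V : Subgroup G} {γ : Ω} (h : B2 G Ω p q P V γ) {n : G}
    (hn : n ∈ normalizer (V : Set G)) (ω : Ω) :
    n • ω ∈ orbit (P : Subgroup G) γ ↔ ω ∈ orbit (P : Subgroup G) γ := by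
  rw [← not_iff_not, h.mem_iff, h.mem_iff]
  constructor
  · intro k v hv
    have := k _ ((mem_normalizer_iff.1 hn v).1 hv)
    simpa [mul_smul] using this
  · intro k v hv
    have := k _ ((mem_normalizer_iff''.1 hn v).1 hv)
    rw [mul_smul, mul_smul, inv_smul_eq_iff] at this
    exact this

theorem B2b {P : Sylow p G} {V : Subgroup G} {γ : Ω} (h : B2 G Ω p q P V γ)
    (hU : V ⊓ stabilizer G γ ≠ ⊥) : False := by
  obtain ⟨v, hv, hγ⟩ : ∃ v ∈ V, v • γ ≠ γ := by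
    by_contra k
    push Not at k
    have h1 := h.iV' γ (mem_orbit_self γ)
    rw [relIndex_eq_one.2 fun v hv => k v hv] at h1
    exact h.pp.one_lt.ne h1
  have hJ := J1 h hv hγ
  obtain ⟨E, l, hE, h1, h2, h3⟩ := J3 hJ (J2 h hU hv hγ hJ.cop)
  have hl : l ∉ orbit (P : Subgroup G) γ := fun k => hE.nR ⟨k, hE.nA⟩
  by_cases hs : p + 1 = 2 * q
  · exact J5 h.pp h.pq h.q3 hJ.ord h1 h2 hs h3
  obtain ⟨b, hb, hb'⟩ : ∃ b, b ∉ orbit (P : Subgroup G) γ ∧ b ∉ orbit (P : Subgroup G) l := by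
    by_contra k
    push Not at k
    have h4 := Set.ncard_le_ncard (s := (orbit (P : Subgroup G) γ)ᶜ) k
    have h5 : (stabilizer G l).relIndex (P : Subgroup G) ∣ p :=
      (relIndex_dvd_of_le_left _ fun v hv => h.fix l hl v hv).trans h.iV.dvd
    have h6 := Nat.le_of_dvd h.pp.pos h5
    have h7 := h.cardF
    have h8 := h.lt2
    have h9 := h.pp.pos
    rw [ncard_orbit] at h4
    have : p * (p + 2) ≤ p * (2 * q) := Nat.mul_le_mul_left _ (by omega)
    nlinarith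
  obtain ⟨n, hn, e⟩ := h.witt l b hl hb
  obtain ⟨y, hy⟩ := (h.nrm_mem hn γ).2 (mem_orbit_self γ)
  have hm : (y : G)⁻¹ * n ∈ normalizer (V : Set G) := mul_mem (inv_mem (h.nrm y.2)) hn
  have hγ' : ((y : G)⁻¹ * n) • γ = γ := by
    rw [mul_smul, inv_smul_eq_iff]
    exact hy.symm
  have hA : ∀ ω, ((y : G)⁻¹ * n) • ω ∈ orbit V γ ↔ ω ∈ orbit V γ := by
    generalize (y : G)⁻¹ * n = m at hm hγ'
    intro ω
    constructor
    · rintro ⟨w, hw⟩
      refine ⟨⟨_, (mem_normalizer_iff''.1 hm w).1 w.2⟩, ?_⟩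
      change (m⁻¹ * w * m) • γ = ω
      rw [mul_smul, mul_smul, hγ', inv_smul_eq_iff]
      exact hw
    · rintro ⟨w, rfl⟩
      refine ⟨⟨_, (mem_normalizer_iff.1 hm w).1 w.2⟩, ?_⟩
      change (m * w * m⁻¹) • γ = m • (w : G) • γ
      rw [mul_smul, mul_smul, inv_smul_eq_iff.2 hγ'.symm]
  refine J4 hJ hE (hE.conj hJ.mem _ hA fun ω => ?_) fun k => hb' ⟨y, ?_⟩
  · rw [Set.mem_sdiff, Set.mem_sdiff, hA, h.nrm_mem hm]
  · rw [mul_smul, e, eq_inv_smul_iff] at k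
    exact k

end CF.El
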