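import Cfsg.Agent.El.A

/-! S3579, case B-ii-a: the retraction of `C_G(x ^ p)` onto `⟨x⟩` (Burnside's transfer). -/

set_option autoImplicit false

namespace CF.El

open MulAction Subgroup

section abstract

variable {H : Type*} [Group H] {p : ℕ}

theorem C1.mem_of_coprime (S : Subgroup H) {g : H} {a b : ℕ} (hab : Nat.Coprime a b)
    (ha : g ^ a ∈ S) (hb : g ^ b ∈ S) : g ∈ S := by
  have h1 : ((Nat.gcd a b : ℕ) : ℤ) = a * Nat.gcdA a b + b * Nat.gcdB a b :=
    Nat.gcd_eq_gcd_ab a b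
  rw [hab.gcd_eq_one] at h1
  have h2 : g = (g ^ a) ^ (Nat.gcdA a b) * (g ^ b) ^ (Nat.gcdB a b) := by
    rw [← zpow_natCast, ← zpow_natCast, ← zpow_mul, ← zpow_mul, ← zpow_add, ← h1]
    simp
  rw [h2]
  exact S.mul_mem (S.zpow_mem ha _) (S.zpow_mem hb _)

theorem C1.eq_one_of_coprime {g : H} {a b : ℕ} (hab : Nat.Coprime a b)
    (ha : g ^ a = 1) (hb : g ^ b = 1) : g = 1 :=
  mem_bot.1 (C1.mem_of_coprime ⊥ hab (mem_bot.2 ha) (mem_bot.2 hb))

/-- an element of `⟨x⟩` killed by `p` lies in `⟨x ^ p⟩` -/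
theorem C1.omega {x y : H} (hp : p.Prime) (ho : orderOf x = p ^ 2) (hy : y ∈ zpowers x)
    (h1 : y ^ p = 1) : y ∈ zpowers (x ^ p) := by
  obtain ⟨k, rfl⟩ := hy
  simp only at h1
  rw [← zpow_natCast, ← zpow_mul, ← orderOf_dvd_iff_zpow_eq_one, ho] at h1
  have h2 : (p : ℤ) ∣ k := by
    have hp0 : (p : ℤ) ≠ 0 := by exact_mod_cast hp.ne_zero
    have : (p : ℤ) * p ∣ k * p := by
      have e : ((p ^ 2 : ℕ) : ℤ) = (p : ℤ) * p := by push_cast; ring
      rwa [e] at h1
    exact (mul_dvd_mul_iff_right hp0).1 this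
  obtain ⟨t, rfl⟩ := h2
  exact ⟨t, by simp only [← zpow_natCast, ← zpow_mul]⟩

theorem C1.pow_p_mem {x y : H} (hy : y ∈ zpowers x) : y ^ p ∈ zpowers (x ^ p) := by
  obtain ⟨k, rfl⟩ := hy
  exact ⟨k, by simp only [← zpow_natCast, ← zpow_mul, mul_comm]⟩

theorem C1.pow_p2 {x y : H} (ho : orderOf x = p ^ 2) (hy : y ∈ zpowers x) : y ^ p ^ 2 = 1 := by
  rw [← ho]
  exact orderOf_dvd_iff_pow_eq_one.1 (orderOf_dvd_of_mem_zpowers hy)

theorem C1.comm {x y z : H} (hy : y ∈ zpowers x) (hz : z ∈ zpowers x) : y * z = z * y := by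
  obtain ⟨k, rfl⟩ := hy
  obtain ⟨l, rfl⟩ := hz
  exact (Commute.zpow_zpow_self x k l).eq

variable [Finite H]

omit [Finite H] in
theorem C1.sylow [Fact p.Prime] {x : H} (ho : orderOf x = p ^ 2) (hs : ¬ p ^ 3 ∣ Nat.card H) :
    ∃ P : Sylow p H, (P : Subgroup H) = zpowers x := by
  have hc : Nat.card (zpowers x) = p ^ 2 := by rw [Nat.card_zpowers, ho]
  have h1 : IsPGroup p (zpowers x) := IsPGroup.of_card hc
  refine ⟨h1.toSylow ?_, rfl⟩
  intro hd
  apply hs
  rw [← card_mul_index (zpowers x), hc, pow_succ p 2]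
  exact mul_dvd_mul_left _ hd

theorem C1.norm_le [hp : Fact p.Prime] {x : H} (ho : orderOf x = p ^ 2)
    (hz : ∀ g : H, g * x ^ p = x ^ p * g) (P : Sylow p H) (hP : (P : Subgroup H) = zpowers x) :
    normalizer P ≤ centralizer (P : Set H) := by
  intro g hg
  have hxP : x ∈ (P : Subgroup H) := hP ▸ mem_zpowers x
  -- `g x g⁻¹ = x z` with `z ∈ ⟨x ^ p⟩`
  have h1 : g * x * g⁻¹ ∈ zpowers x := by
    rw [← hP]
    exact (mem_normalizer_iff.1 hg x).1 hxP
  have hzm : x⁻¹ * (g * x * g⁻¹) ∈ zpowers x := mul_mem (inv_mem (mem_zpowers x)) h1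
  have hzp : (x⁻¹ * (g * x * g⁻¹)) ^ p = 1 := by
    have hc : Commute x⁻¹ (g * x * g⁻¹) := C1.comm (inv_mem (mem_zpowers x)) h1
    rw [hc.mul_pow, conj_pow, hz g, inv_pow]
    group
  have hzv := C1.omega hp.out ho hzm hzp
  set z := x⁻¹ * (g * x * g⁻¹) with hzdef
  have hzc : ∀ a : H, a * z = z * a := by
    intro a
    obtain ⟨t, ht⟩ := hzv
    simp only at ht
    rw [← ht]
    exact (Commute.zpow_right (hz a) t).eq
  have hgx : g * x = x * z * g := by rw [hzdef]; group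
  have hn : ∀ n : ℕ, g ^ n * x = x * z ^ n * g ^ n := by
    intro n
    induction n with
    | zero => simp
    | succ n ih =>
      have hc : g * z ^ n = z ^ n * g := (Commute.pow_right (hzc g) n).eq
      calc g ^ (n + 1) * x = g * (g ^ n * x) := by rw [pow_succ']; group
        _ = (g * x) * z ^ n * g ^ n := by rw [ih]; group
        _ = x * z * (g * z ^ n) * g ^ n := by rw [hgx]; group
        _ = x * z ^ (n + 1) * g ^ (n + 1) := by rw [hc, pow_succ', pow_succ']; group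
  have hgp : g ^ p ∈ centralizer ({x} : Set H) := by
    rw [mem_centralizer_singleton_iff, hn p, hzp, mul_one]
  have hgm : g ^ (P : Subgroup H).relIndex (normalizer (P : Set H)) ∈ (P : Subgroup H) :=
    pow_index_mem ((P : Subgroup H).subgroupOf (normalizer ((P : Subgroup H) : Set H))) ⟨g, hg⟩
  have hgm' : g ^ (P : Subgroup H).relIndex (normalizer (P : Set H)) ∈
      centralizer ({x} : Set H) := by
    rw [mem_centralizer_singleton_iff]
    exact C1.comm (hP ▸ hgm) (mem_zpowers x)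
  have hcop : Nat.Coprime p ((P : Subgroup H).relIndex (normalizer (P : Set H))) :=
    (Nat.Prime.coprime_iff_not_dvd hp.out).2 fun hd =>
      P.not_dvd_index (hd.trans (relIndex_dvd_index_of_le le_normalizer))
  have hgc := C1.mem_of_coprime _ hcop hgp hgm'
  rw [mem_centralizer_singleton_iff] at hgc
  intro y hy
  have hy' : y ∈ zpowers x := hP ▸ hy
  obtain ⟨k, rfl⟩ := hy'
  exact (Commute.zpow_right hgc k).eq.symm

/-- the retraction onto a Sylow subgroup in the centre of its normalizer -/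
theorem C1.retr [Fact p.Prime] (P : Sylow p H) (hP : normalizer P ≤ centralizer (P : Set H)) :
    ∃ σ : H →* P, (∀ y : P, σ y = y) ∧ ¬ p ∣ Nat.card σ.ker := by
  have hf : Function.Bijective
      ((MonoidHom.transferSylow P hP).domRestrict (P : Subgroup H)) :=
    (MonoidHom.transferSylow_domRestrict_eq_pow P hP).symm ▸
      (P.2.powEquiv' P.not_dvd_index).bijective
  let e := MulEquiv.ofBijective _ hf
  refine ⟨e.symm.toMonoidHom.comp (MonoidHom.transferSylow P hP), fun y => ?_, ?_⟩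
  · exact e.symm_apply_apply y
  · have : (e.symm.toMonoidHom.comp (MonoidHom.transferSylow P hP)).ker =
        (MonoidHom.transferSylow P hP).ker := by
      ext a
      simp [MonoidHom.mem_ker]
    rw [this]
    exact MonoidHom.not_dvd_card_ker_transferSylow P hP

/-- a `p'`-power of any element is conjugate into the Sylow subgroup -/
theorem C1.conj_into [hp : Fact p.Prime] (P : Sylow p H) (c : H) :
    ∃ (g y : H) (m : ℕ), ¬ p ∣ m ∧ y ∈ (P : Subgroup H) ∧ c ^ m = g * y * g⁻¹ := by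
  obtain ⟨a, m, hm, he⟩ :=
    Nat.exists_eq_pow_mul_and_not_dvd (orderOf_pos c).ne' p hp.out.ne_one
  have h1 : IsPGroup p (zpowers (c ^ m)) := by
    rintro ⟨w, k, rfl⟩
    refine ⟨a, Subtype.ext ?_⟩
    have : (c ^ m) ^ p ^ a = 1 := by rw [← pow_mul, mul_comm, ← he, pow_orderOf_eq_one]
    simp only [SubmonoidClass.coe_pow, OneMemClass.coe_one]
    rw [← zpow_natCast, ← zpow_mul, mul_comm, zpow_mul, zpow_natCast, this, one_zpow]
  obtain ⟨Q, hQ⟩ := h1.exists_le_sylow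
  obtain ⟨g, rfl⟩ := exists_smul_eq H P Q
  have h2 := hQ (mem_zpowers _)
  rw [Sylow.coe_subgroup_smul, mem_pointwise_smul_iff_inv_smul_mem] at h2
  refine ⟨g, _, m, hm, h2, ?_⟩
  generalize c ^ m = w
  simp [mul_assoc]

end abstract

variable {G Ω : Type*} [Group G] [Finite G] [MulAction G Ω] [Finite Ω] {p q : ℕ}
variable {x : G} {γ : Ω}

/-- the retraction, with the key property -/
theorem C1.exists_tau (hp : p.Prime) (ho : orderOf x = p ^ 2) (hs : ¬ p ^ 3 ∣ Nat.card G) :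
    ∃ τ : Cv p x →* zpowers x,
      (∀ (y : G) (hy : y ∈ zpowers x), τ ⟨y, mem_Cv_of_zpowers hy⟩ = ⟨y, hy⟩) ∧
      ¬ p ∣ Nat.card τ.ker ∧
      ∀ c : Cv p x, ∃ (g : Cv p x) (y : G) (m : ℕ), ¬ p ∣ m ∧ y ∈ zpowers x ∧
        (c : G) ^ m = g * y * (g : G)⁻¹ ∧ ((τ c : zpowers x) : G) ^ m = y := by
  have := Fact.mk hp
  let x' : Cv p x := ⟨x, mem_Cv_of_zpowers (mem_zpowers x)⟩
  have ho' : orderOf x' = p ^ 2 := by rw [← ho, ← Subgroup.orderOf_coe]
  have hs' : ¬ p ^ 3 ∣ Nat.card (Cv p x) := fun hd => hs (hd.trans (card_subgroup_dvd_card _))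
  obtain ⟨P, hP⟩ := C1.sylow ho' hs'
  have hz : ∀ g : Cv p x, g * x' ^ p = x' ^ p * g := fun g => Subtype.ext (mem_Cv.1 g.2)
  obtain ⟨σ, hσ, hk⟩ := C1.retr P (C1.norm_le ho' hz P hP)
  have hmem : ∀ y : Cv p x, y ∈ (P : Subgroup (Cv p x)) ↔ (y : G) ∈ zpowers x := by
    intro y
    rw [hP]
    constructor
    · rintro ⟨k, rfl⟩
      exact ⟨k, by simp [x']⟩
    · rintro ⟨k, hk⟩
      exact ⟨k, Subtype.ext (by simpa [x'] using hk)⟩
  let τ : Cv p x →* zpowers x :=
    ((Cv p x).subtype.comp ((P : Subgroup (Cv p x)).subtype.comp σ)).codRestrict (zpowers x)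
      fun c => (hmem _).1 (σ c).2
  have hτ : ∀ c, ((τ c : zpowers x) : G) = ((σ c : Cv p x) : G) := fun c => rfl
  have hid : ∀ (y : G) (hy : y ∈ zpowers x), τ ⟨y, mem_Cv_of_zpowers hy⟩ = ⟨y, hy⟩ := by
    intro y hy
    apply Subtype.ext
    rw [hτ]
    have := hσ ⟨⟨y, mem_Cv_of_zpowers hy⟩, (hmem _).2 hy⟩
    simp only at this
    rw [this]
  refine ⟨τ, hid, ?_, fun c => ?_⟩
  · have : τ.ker = σ.ker := by
      ext a
      rw [MonoidHom.mem_ker, MonoidHom.mem_ker, Subtype.ext_iff, hτ]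
      simp
    rw [this]
    exact hk
  · obtain ⟨g, y, m, hm, hy, he⟩ := C1.conj_into P c
    have hy' := (hmem y).1 hy
    refine ⟨g, y, m, hm, hy', by simpa using congrArg Subtype.val he, ?_⟩
    have h1 : τ y = ⟨y, hy'⟩ := hid y hy'
    have h2 := congrArg (fun a => ((τ a : zpowers x) : G)) he
    simp only [map_pow, map_mul, map_inv, h1, SubmonoidClass.coe_pow, Subgroup.coe_mul,
      Subgroup.coe_inv] at h2
    rw [h2, C1.comm (τ g).2 hy']
    group

omit [Finite G] [Finite Ω] in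
theorem C1.reg (h : CY G Ω p q x γ) {y : G} (hy : y ∈ zpowers x) {ω : Ω}
    (hω : ω ∈ orbit (zpowers x) γ) (he : y • ω = ω) : y = 1 := by
  obtain ⟨⟨z, hz⟩, rfl⟩ := hω
  apply h.reg y hy
  simp only [Subgroup.mk_smul] at he
  rw [← mul_smul, C1.comm hy hz, mul_smul] at he
  exact smul_left_cancel z he

omit [Finite G] [Finite Ω] in
theorem C1.v_ne (h : CY G Ω p q x γ) : x ^ p ≠ 1 := by
  intro h1
  have h2 := orderOf_dvd_of_pow_eq_one h1
  rw [h.ord] at h2
  have := Nat.le_of_dvd h.pp.pos h2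
  have h3 := h.pp.two_le
  nlinarith

omit [Finite G] [Finite Ω] in
theorem C1.mem_iff (h : CY G Ω p q x γ) (ω : Ω) :
    ω ∈ orbit (zpowers x) γ ↔ x ^ p • ω ≠ ω :=
  ⟨fun hω he => C1.v_ne h (C1.reg h (pow_mem (mem_zpowers x) p) hω he),
    fun hn => by_contra fun hω => hn (h.fix ω hω)⟩

omit [Finite G] [Finite Ω] in
theorem C1.pres (h : CY G Ω p q x γ) {c : G} (hc : c ∈ Cv p x) {ω : Ω}
    (hω : ω ∈ orbit (zpowers x) γ) : c • ω ∈ orbit (zpowers x) γ := by
  rw [C1.mem_iff h] at hω ⊢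
  intro he
  rw [← mul_smul, ← mem_Cv.1 hc, mul_smul] at he
  exact hω (smul_left_cancel c he)

theorem C1 (h : CY G Ω p q x γ) : ∃ τ : Cv p x →* zpowers x, Ret Ω p x γ τ := by
  have hp := h.pp
  obtain ⟨τ, hid, hk, K⟩ := C1.exists_tau hp h.ord h.syl
  have cop : ∀ {m : ℕ}, ¬ p ∣ m → Nat.Coprime p m := fun hm =>
    (Nat.Prime.coprime_iff_not_dvd hp).2 hm
  have hp2 : ∀ c, τ c ^ p ^ 2 = 1 := fun c =>
    Subtype.ext (by simpa using C1.pow_p2 h.ord (τ c).2)
  -- a fixed point of `c` gives a fixed point of `y`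
  have hfix : ∀ (c g y : G) (m : ℕ) (ω : Ω), c ^ m = g * y * g⁻¹ → c • ω = ω →
      y • g⁻¹ • ω = g⁻¹ • ω := by
    intro c g y m ω he hc
    have h1 : c ^ m • ω = ω := pow_mem (S := stabilizer G ω) (mem_stabilizer_iff.2 hc) m
    rw [he, mul_smul, mul_smul] at h1
    exact eq_inv_smul_iff.2 h1
  have hst : ∀ c : Cv p x, ∀ ω ∈ orbit (zpowers x) γ, (c : G) • ω = ω → τ c = 1 := by
    intro c ω hω hc
    obtain ⟨g, y, m, hm, hy, he, ht⟩ := K c
    have h1 : y = 1 := C1.reg h hy (C1.pres h (inv_mem g.2) hω) (hfix _ _ _ _ _ he hc)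
    refine C1.eq_one_of_coprime ((cop hm).pow_left 2) (hp2 c) (Subtype.ext ?_)
    simpa [h1] using ht
  -- elements of `C` killed by `p`
  have O : ∀ u : G, u ∈ Cv p x → u ^ p = 1 → u ∈ zpowers (x ^ p) := by
    intro u hu h1
    obtain ⟨g, y, m, hm, hy, he, -⟩ := K ⟨u, hu⟩
    simp only at he
    have h2 : y ^ p = 1 := by
      have : (u ^ m) ^ p = 1 := by rw [← pow_mul, mul_comm, pow_mul, h1, one_pow]
      rw [he, conj_pow] at this
      simpa [mul_eq_one_iff_eq_inv] using this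
    have h3 := C1.omega hp h.ord hy h2
    have h4 : (g : G) * y = y * g := by
      obtain ⟨t, rfl⟩ := h3
      exact (Commute.zpow_right (mem_Cv.1 g.2) t).eq
    refine C1.mem_of_coprime _ (cop hm) (by rw [h1]; exact one_mem _) ?_
    rw [he, h4, mul_inv_cancel_right]
    exact h3
  refine ⟨τ, hid, hk, fun c ω hω => ?_, fun c hc ω he => ?_, fun g c hg hc => ?_,
    fun g c hg hc => ?_⟩
  · obtain ⟨⟨a, ha⟩, hae⟩ := C1.pres h c.2 hω
    obtain ⟨⟨b, hb⟩, rfl⟩ := hω
    simp only [Subgroup.mk_smul] at hae ⊢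
    have hy : a * b⁻¹ ∈ zpowers x := mul_mem ha (inv_mem hb)
    have h1 : τ ((⟨a * b⁻¹, mem_Cv_of_zpowers hy⟩ : Cv p x)⁻¹ * c) = 1 := by
      apply hst _ (b • γ) ⟨⟨b, hb⟩, rfl⟩
      simp only [Subgroup.coe_mul, Subgroup.coe_inv]
      rw [mul_smul, ← hae, inv_smul_eq_iff, mul_smul, inv_smul_smul]
    rw [map_mul, map_inv, inv_mul_eq_one, hid _ hy] at h1
    rw [← h1, ← hae, mul_smul, inv_smul_smul]
  · obtain ⟨g, y, m, hm, hy, hce, ht⟩ := K c
    have h1 : y ∈ zpowers (x ^ p) := by_contra fun hn => h.fpf y hy hn _ (hfix _ _ _ _ _ hce he)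
    exact hc (C1.mem_of_coprime _ (cop hm) (C1.pow_p_mem (τ c).2) (ht ▸ h1))
  · have h1 : c ^ Nat.card τ.ker = 1 := by
      have := pow_card_eq_one' (G := τ.ker) (x := ⟨c, hc⟩)
      exact congrArg Subtype.val this
    have h2 : (⟨_, hg⟩ : Cv p x) ^ Nat.card τ.ker = 1 := by
      apply Subtype.ext
      have h3 : (c : G) ^ Nat.card τ.ker = 1 := congrArg Subtype.val h1
      simp only [SubmonoidClass.coe_pow, OneMemClass.coe_one]
      rw [conj_pow, h3]
      simp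
    refine C1.eq_one_of_coprime ((cop hk).pow_left 2) (hp2 _) ?_
    rw [← map_pow, h2, map_one]
  · obtain ⟨a, y, m, hm, hy, hce, ht⟩ := K c
    have hy1 : y ≠ 1 := by
      intro h1
      apply hc
      refine C1.eq_one_of_coprime ((cop hm).pow_left 2) (hp2 c) (Subtype.ext ?_)
      simpa [h1] using ht
    -- a power of `c` of order `p`
    obtain ⟨n, hn1, hnp⟩ : ∃ n : ℕ, (c : G) ^ n ≠ 1 ∧ ((c : G) ^ n) ^ p = 1 := by
      by_cases hyp : y ^ p = 1
      · refine ⟨m, ?_, ?_⟩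
        · rw [hce]
          simpa [mul_eq_one_iff_eq_inv] using hy1
        · rw [hce, conj_pow, hyp]
          simp
      · refine ⟨m * p, ?_, ?_⟩
        · rw [pow_mul, hce, conj_pow]
          simpa [mul_eq_one_iff_eq_inv] using hyp
        · rw [pow_mul, hce, conj_pow, conj_pow, ← pow_mul, ← sq, C1.pow_p2 h.ord hy]
          simp
    have hw := O _ (pow_mem c.2 n) hnp
    have hgw : g * (c : G) ^ n * g⁻¹ ∈ zpowers (x ^ p) := by
      apply O
      · rw [← conj_pow]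
        exact pow_mem hg n
      · rw [conj_pow, hnp]
        simp
    have := Fact.mk hp
    have hcard : Nat.card (zpowers (x ^ p)) = p := by
      rw [Nat.card_zpowers, orderOf_pow' x hp.ne_zero, h.ord, sq, Nat.gcd_mul_left_left,
        Nat.mul_div_cancel _ hp.pos]
    apply mem_normalizer_fintype
    intro u hu
    have hne : (⟨_, hw⟩ : zpowers (x ^ p)) ≠ 1 := fun he => hn1 (congrArg Subtype.val he)
    obtain ⟨j, hj⟩ := mem_zpowers_of_prime_card hcard (g' := ⟨u, hu⟩) hne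
    have hj' : ((c : G) ^ n) ^ j = u := by simpa using congrArg Subtype.val hj
    rw [← hj', ← conj_zpow]
    exact zpow_mem hgw j

end CF.El
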