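import Cfsg.Agent.El.A

/-! S3579, piece C2a: `q` does not divide `|C_G(x ^ p)|`. -/

set_option autoImplicit false

namespace CF.El

open MulAction Subgroup

variable {G Ω : Type*} [Group G] [Finite G] [MulAction G Ω] [Finite Ω] {p q : ℕ}

private theorem fin_eq_of_dvd {n : ℕ} {i j : Fin n} (h : (n : ℤ) ∣ (i : ℕ) - (j : ℕ)) : i = j := by
  have hi := i.2
  have hj := j.2
  have := Int.eq_zero_of_abs_lt_dvd h (by rw [abs_lt]; constructor <;> omega)
  exact Fin.ext (by omega)

theorem C2a {x : G} {γ : Ω} (h : CY G Ω p q x γ) {τ : Cv p x →* zpowers x} (r : Ret Ω p x γ τ) :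
    ¬ q ∣ Nat.card (Cv p x) := by
  intro hq
  haveI := Fact.mk h.pq
  obtain ⟨y, hy⟩ := exists_prime_orderOf_dvd_card' q hq
  have t1 : τ y = 1 := by
    have a : orderOf (τ y) ∣ q := hy ▸ orderOf_map_dvd τ y
    have b : orderOf (τ y) ∣ p ^ 2 := by
      rw [← h.ord, ← Nat.card_zpowers x]; exact _root_.orderOf_dvd_natCard _
    have c : Nat.Coprime q (p ^ 2) := ((Nat.coprime_primes h.pq h.pp).2 h.lt.ne).pow_right 2
    exact orderOf_eq_one_iff.1 (Nat.eq_one_of_dvd_coprimes c a b)
  obtain ⟨δ, hδ⟩ : ∃ δ : Ω, (y : G) • δ ≠ δ := by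
    by_contra hn
    push Not at hn
    have : y = 1 := Subtype.ext (h.fa _ hn)
    rw [this, orderOf_one] at hy
    exact h.pq.one_lt.ne hy
  have out0 : δ ∉ orbit (zpowers x) γ := fun m => hδ (by rw [r.act y δ m, t1]; simp)
  have out : ∀ c : Cv p x, (c : G) • δ ∉ orbit (zpowers x) γ := fun c m => out0 (by
    have e := r.act c⁻¹ _ m
    rw [coe_inv, inv_smul_smul] at e
    rw [e]
    exact mem_orbit_of_mem_orbit (τ c⁻¹) m)
  let X : Cv p x := ⟨x, mem_Cv_of_zpowers (mem_zpowers x)⟩
  have tX : ((τ X : zpowers x) : G) = x := congrArg Subtype.val (r.id x (mem_zpowers x))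
  let f : (Fin p × Fin q) ⊕ zpowers x → Ω := fun s => match s with
    | Sum.inl s => ((X ^ (s.1 : ℕ) * y ^ (s.2 : ℕ) : Cv p x) : G) • δ
    | Sum.inr z => (z : G) • γ
  have inj : Function.Injective f := by
    rintro (⟨i, j⟩ | z) (⟨i', j'⟩ | z') e
    · simp only [f] at e
      have e1 : (((X ^ (i' : ℕ) * y ^ (j' : ℕ))⁻¹ * (X ^ (i : ℕ) * y ^ (j : ℕ)) : Cv p x) : G) • δ
          = δ := by
        rw [coe_mul, mul_smul, e, coe_inv, inv_smul_smul]
      have e2 : i = i' := by
        by_contra hn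
        refine r.fpf _ (fun m => hn ?_) δ e1
        obtain ⟨k, hk⟩ := m
        simp only [map_mul, map_inv, map_pow, t1, one_pow, mul_one, coe_mul, coe_inv,
          SubmonoidClass.coe_pow, tX] at hk
        have : x ^ ((p : ℤ) * k) = x ^ (((i : ℕ) : ℤ) - (i' : ℕ)) := by
          rw [zpow_mul, zpow_natCast, hk, sub_eq_neg_add, zpow_add, zpow_neg, zpow_natCast,
            zpow_natCast]
        rw [zpow_eq_zpow_iff_modEq, h.ord] at this
        have d : (p : ℤ) ∣ (((i : ℕ) : ℤ) - (i' : ℕ)) - p * k :=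
          (Dvd.intro _ (by push_cast; ring)).trans this.dvd
        exact fin_eq_of_dvd ((dvd_sub_left (Dvd.intro k rfl)).1 d)
      subst e2
      have e3 : j = j' := by
        by_contra hn
        have s : y ^ (((j : ℕ) : ℤ) - (j' : ℕ)) ∈ (stabilizer G δ).comap (Cv p x).subtype := by
          rw [mem_comap, mem_stabilizer_iff, ← e1]
          congr 1
          simp only [coe_subtype]
          congr 1
          rw [sub_eq_neg_add, zpow_add, zpow_neg, zpow_natCast, zpow_natCast]
          group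
        have g : y ∈ zpowers (y ^ (((j : ℕ) : ℤ) - (j' : ℕ))) := by
          rw [mem_zpowers_zpow_iff, hy, Int.gcd_comm]
          exact Int.isCoprime_iff_gcd_eq_one.1
            ((Nat.prime_iff_prime_int.1 h.pq).irreducible.coprime_iff_not_dvd.2
              fun d => hn (fin_eq_of_dvd d))
        exact hδ ((zpowers_le.2 s) g)
      rw [e3]
    · exact absurd (by simp only [f] at e; rw [e]; exact mem_orbit γ z') (out _)
    · exact absurd (by simp only [f] at e; rw [← e]; exact mem_orbit γ z) (out _)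
    · simp only [f] at e
      have : ((z'⁻¹ * z : zpowers x) : G) = 1 :=
        h.reg _ (z'⁻¹ * z).2 (by rw [coe_mul, mul_smul, e, coe_inv, inv_smul_smul])
      rw [inv_mul_eq_one.1 (Subtype.ext this : z'⁻¹ * z = 1)]
  have le := Nat.card_le_card_of_injective f inj
  rw [Nat.card_sum, Nat.card_prod, Nat.card_fin, Nat.card_fin, Nat.card_zpowers, h.ord,
    h.card] at le
  have := h.lt
  have := h.pp.pos
  nlinarith

end CF.El
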