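import Cfsg.Agent.El.B

/-! Degree `2 p q`, cyclic Sylow subgroup of order `p ^ 2`: no invariant `q`-subgroup. -/

set_option autoImplicit false

namespace CF.El

open MulAction Subgroup

variable {G Ω : Type*} [Group G] [Finite G] [MulAction G Ω] [Finite Ω] {p q : ℕ} {x : G} {γ : Ω}

omit [Finite Ω] in
private theorem orb_le {H : Subgroup G} {g : G} {ω : Ω} (n : ∀ a ∈ H, g * a * g⁻¹ ∈ H)
    (e : g • ω ∈ orbit H ω) : orbit (zpowers g) ω ⊆ orbit H ω := by
  rintro _ ⟨⟨_, k⟩, rfl⟩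
  obtain ⟨i, rfl⟩ := (mem_powers_iff_mem_zpowers.2 k : ∃ i : ℕ, g ^ i = _)
  change g ^ i • ω ∈ _
  clear k
  induction i with
  | zero => rw [pow_zero, one_smul]; exact mem_orbit_self ω
  | succ i ih =>
    obtain ⟨a, ha⟩ := ih
    obtain ⟨b, hb⟩ := e
    refine ⟨⟨_, n a a.2⟩ * b, ?_⟩
    change (g * a * g⁻¹ * b) • ω = _
    rw [mul_smul, show (b : G) • ω = _ from hb, mul_smul, inv_smul_smul, mul_smul, show (a : G) • ω = _ from ha,
      pow_succ', mul_smul]

theorem C2b (h : CY G Ω p q x γ) (h0 : ¬ q ∣ Nat.card (Cv p x)) (Y : Subgroup G)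
    (hY : IsPGroup q Y) (hn : x ^ p ∈ normalizer (Y : Set G)) : Y = ⊥ := by
  have := Fact.mk h.pq
  have := Fact.mk h.pp
  have ov := h.ordv
  have iff := h.mem_iff
  have rg := h.reg'
  have l2 := h.lt2
  have lt := h.lt
  have q3 := h.q3
  generalize hv : x ^ p = v at hn ov iff
  have vp : v ^ p ^ 1 = 1 := by rw [pow_one, ← ov, pow_orderOf_eq_one]
  have nY : ∀ a ∈ Y, v * a * v⁻¹ ∈ Y := fun a k => (mem_normalizer_iff.1 hn a).1 k
  have c1 : ∀ c ∈ Y, c * v = v * c → c = 1 := fun c m e => by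
    obtain ⟨_ | i, k⟩ := (IsPGroup.iff_orderOf.1 hY) ⟨c, m⟩
    · exact congrArg Subtype.val (orderOf_eq_one_iff.1 k)
    · refine (h0 ((Dvd.intro_left _ (pow_succ q i).symm).trans ?_)).elim
      rw [← k, ← orderOf_coe]
      exact (Cv p x).orderOf_dvd_natCard (mem_Cv.2 (hv ▸ e))
  have np : ∀ T ≤ Y, ¬ p ∣ Nat.card T := fun T m k => by
    obtain ⟨i, e⟩ := IsPGroup.iff_card.1 hY
    exact lt.ne' ((Nat.prime_dvd_prime_iff_eq h.pp h.pq).1 (h.pp.dvd_of_dvd_pow (e ▸ k.trans (card_dvd_of_le m))))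
  have one : ∀ T ≤ Y, (∀ a ∈ T, v * a * v⁻¹ ∈ T) → 1 ≡ Nat.card T [MOD p] := fun T m n => by
    rw [Nat.modEq_iff_dvd' Nat.card_pos]
    by_contra k
    obtain ⟨c, hc, e⟩ := coset_fix h.pp vp ((T : Set G) \ {1}) (fun s k => ⟨n s k.1, fun e => k.2 (by simpa using e)⟩)
      (by rwa [Set.ncard_sdiff_singleton_of_mem T.one_mem])
    exact hc.2 (c1 c (m hc.1) e)
  have fF : ∀ δ ∉ orbit (zpowers x) γ, ∀ y ∈ Y, y • δ = δ := fun δ m => by
    have vd := (iff δ).1 m
    have vd' : v⁻¹ • δ = δ := inv_smul_eq_iff.2 vd.symm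
    have sub : orbit Y δ ⊆ insert δ (orbit (zpowers x) γ) := by
      rintro _ ⟨⟨y, hy⟩, rfl⟩
      change y • δ ∈ _
      refine or_iff_not_imp_right.2 fun k => ?_
      obtain ⟨c, ⟨s, hs, rfl⟩, e⟩ := coset_fix h.pp vp ((y * ·) '' (stabilizer G δ ⊓ Y : Subgroup G)) (by
        rintro _ ⟨s, hs, rfl⟩
        refine ⟨y⁻¹ * (v * (y * s) * v⁻¹), ⟨?_, Y.mul_mem (Y.inv_mem hy) (nY _ (Y.mul_mem hy hs.2))⟩, by simp⟩
        change _ • δ = δ
        rw [mul_smul, mul_smul, mul_smul, mul_smul, vd', show s • δ = δ from hs.1, (iff _).1 k, inv_smul_smul])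
        (by rw [Set.ncard_image_of_injective _ (mul_right_injective y)]; exact np _ inf_le_right)
      have := c1 _ (mul_mem hy hs.2) e
      rw [← show s • δ = δ from hs.1, ← mul_smul, show y * s = 1 from this, one_smul]
      exact hs.1.symm
    have le := (Set.ncard_le_ncard sub).trans (Set.ncard_insert_le _ _)
    rw [h.cardΓ, ncard_orbit] at le
    have mul : Nat.card (stabilizer G δ ⊓ Y : Subgroup G) * (stabilizer G δ).relIndex Y = Nat.card Y := by
      rw [← inf_relIndex_right, ← relIndex_bot_left, ← relIndex_bot_left]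
      exact relIndex_mul_relIndex _ _ _ bot_le inf_le_right
    have md : 1 ≡ (stabilizer G δ).relIndex Y [MOD p] := by
      have := (one _ inf_le_right fun a (k : a ∈ stabilizer G δ ⊓ Y) => ⟨by
        change _ • δ = δ
        rw [mul_smul, mul_smul, vd', show a • δ = δ from k.1, vd], nY a k.2⟩).mul_right ((stabilizer G δ).relIndex Y)
      rw [mul, one_mul] at this
      exact (one Y le_rfl nY).trans this.symm
    obtain ⟨i, e⟩ := hY.index ((stabilizer G δ).subgroupOf Y)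
    change (stabilizer G δ).relIndex Y = _ at e
    rw [e] at le md
    have od := h.pp.eq_two_or_odd
    have oq := h.pq.eq_two_or_odd
    obtain rfl : i = 0 := by
      rw [Nat.modEq_iff_dvd' (Nat.pow_pos (by omega))] at md
      rcases i with _ | _ | _ | i
      · rfl
      · have := Nat.le_of_dvd (by simp; omega) md
        simp at this; omega
      · rw [show q ^ (0 + 1 + 1) - 1 = (q + 1) * (q - 1) from Nat.sq_sub_sq q 1] at md
        rcases (Nat.Prime.dvd_mul h.pp).1 md with k | k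
        · have := Nat.le_of_dvd (by omega) k
          omega
        · have := Nat.le_of_dvd (by omega) k
          omega
      · have : q ^ 3 ≤ q ^ (i + 1 + 1 + 1) := Nat.pow_le_pow_right (by omega) (by omega)
        obtain ⟨t, rfl⟩ : ∃ t, q = t + 3 := ⟨q - 3, by omega⟩
        have : p ^ 2 ≤ (2 * t + 5) ^ 2 := Nat.pow_le_pow_left (by omega) 2
        nlinarith [Nat.zero_le (t ^ 3), Nat.zero_le (t ^ 2)]
    exact fun y hy => relIndex_eq_one.1 e hy
  let W := fixingSubgroup G (orbit (zpowers x) γ)ᶜ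
  have mW : ∀ w, w ∈ W ↔ ∀ δ ∉ orbit (zpowers x) γ, w • δ = δ := fun w => mem_fixingSubgroup_iff G
  have wG : ∀ w ∈ W, ∀ ω ∈ orbit (zpowers x) γ, w • ω ∈ orbit (zpowers x) γ := fun w m ω k => by_contra fun n =>
    n (by rwa [smul_left_cancel w ((mW w).1 m _ n)])
  refine eq_bot_iff.2 fun y hy => h.fa y fun ω => ?_
  by_cases k : ω ∈ orbit (zpowers x) γ
  swap
  · exact fF ω k y hy
  have eo := orbit_eq_iff.2 k
  have key : ∀ w ∈ W, w • ω ∈ orbit (zpowers v) ω := fun w m => by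
    obtain ⟨⟨_, z⟩, e⟩ := eo ▸ wG w m ω k
    obtain ⟨i, rfl⟩ := (mem_powers_iff_mem_zpowers.2 z : ∃ i : ℕ, x ^ i = _)
    by_cases d : p ∣ i
    · obtain ⟨j, rfl⟩ := d
      exact ⟨⟨_, j, by simp [← hv, pow_mul]⟩, e⟩
    exfalso
    have e1 : zpowers (x ^ i) = zpowers x := le_antisymm (zpowers_le.2 z) (zpowers_le.2 (mem_zpowers_pow_iff.2
      (h.ord ▸ ((Nat.Prime.coprime_iff_not_dvd h.pp).2 d).symm.pow_right 2)))
    have s1 := orb_le (H := W) (g := x ^ i) (ω := ω) (fun a ha => (mW _).2 fun δ n => by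
      rw [mul_smul, mul_smul, (mW a).1 ha, smul_inv_smul]
      exact fun k => n (by simpa using mapsTo_smul_orbit (⟨_, z⟩ : zpowers x) γ k)) ⟨⟨w, m⟩, e.symm⟩
    have s2 : orbit W ω = orbit (zpowers x) γ := le_antisymm (by rintro _ ⟨a, rfl⟩; exact wG a a.2 ω k)
      (by rwa [e1, eo] at s1)
    obtain ⟨δ, n⟩ : (orbit (zpowers x) γ)ᶜ.Nonempty := Set.nonempty_of_ncard_ne_zero fun z => by
      have := h.cardF
      have := h.pp.pos
      nlinarith
    have d1 : p ^ 2 ∣ Nat.card (stabilizer G δ) := by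
      rw [← h.cardΓ, ← s2, ncard_orbit]
      exact (relIndex_dvd_card _ _).trans (card_dvd_of_le fun a ha => (mW a).1 ha δ n)
    refine h.syl ?_
    rw [← (stabilizer G δ).card_mul_index, h.toHy.index, pow_succ]
    exact Nat.mul_dvd_mul d1 ((dvd_mul_left _ _).mul_right _)
  have yW : Y ≤ W := fun a ha => (mW a).2 fun δ n => fF δ n a ha
  by_contra n
  obtain ⟨⟨u, hu⟩, e⟩ := key y (yW hy)
  have u1 : u ≠ 1 := fun z => n (by rw [← e]; subst z; exact one_smul G ω)
  have e1 : zpowers u = zpowers v := by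
    have := Fact.mk (show (Nat.card (zpowers v)).Prime by rw [Nat.card_zpowers, ov]; exact h.pp)
    rcases ((zpowers u).subgroupOf (zpowers v)).eq_bot_or_eq_top_of_prime_card with z | z
    · have : (⟨u, hu⟩ : zpowers v) ∈ (zpowers u).subgroupOf (zpowers v) := mem_zpowers u
      rw [z, mem_bot] at this
      exact absurd (congrArg Subtype.val this) u1
    · exact le_antisymm (zpowers_le.2 hu) (subgroupOf_eq_top.1 z)
  have s1 := orb_le (H := Y) (g := u) (ω := ω) (fun a ha => (mem_normalizer_iff.1 (zpowers_le.2 hn hu) a).1 ha)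
    ⟨⟨y, hy⟩, e.symm⟩
  have s2 : orbit Y ω = orbit (zpowers v) ω := le_antisymm (by rintro _ ⟨a, rfl⟩; exact key a (yW a.2)) (e1 ▸ s1)
  have s3 := congrArg Set.ncard s2
  rw [ncard_orbit, ncard_orbit, ← inf_relIndex_right _ (zpowers v), show stabilizer G ω ⊓ zpowers v = ⊥ from
    eq_bot_iff.2 fun a ha => rg a (zpowers_le.2 (hv ▸ pow_mem (mem_zpowers x) p) ha.2) ω k ha.1,
    relIndex_bot_left, Nat.card_zpowers, ov] at s3
  exact np Y le_rfl (s3 ▸ relIndex_dvd_card _ _)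

end CF.El
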