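import Mathlib

set_option autoImplicit false

namespace CF.El

namespace CHx

variable {ι : Type*} [Fintype ι] [DecidableEq ι]

theorem two_le (f : ι → ℤ) (hf : ∀ x, 0 ≤ f x) {a c : ι} (hac : a ≠ c) :
    f a + f c ≤ ∑ x, f x := by
  rw [← Finset.sum_pair hac]
  exact Finset.sum_le_sum_of_subset_of_nonneg (Finset.subset_univ _) (fun x _ _ => hf x)

theorem two_leN (f : ι → ℕ) {a c : ι} (hac : a ≠ c) : f a + f c ≤ ∑ x, f x := by
  rw [← Finset.sum_pair hac]
  exact Finset.sum_le_sum_of_subset (Finset.subset_univ _)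

theorem three_le (f : ι → ℤ) (hf : ∀ x, 0 ≤ f x) {a c e : ι} (hac : a ≠ c) (hea : e ≠ a)
    (hec : e ≠ c) : f e + (f a + f c) ≤ ∑ x, f x := by
  rw [← Finset.sum_pair hac, ← Finset.sum_insert (by simp [hea, hec])]
  exact Finset.sum_le_sum_of_subset_of_nonneg (Finset.subset_univ _) (fun x _ _ => hf x)

theorem ex_pos (b : ι → ℤ) (d : ι → ℕ) (d0 : ∀ x, 0 < d x) (hn : ∑ x, b x * b x = 2)
    (hd : ∑ x, b x * d x = 0) : ∃ a, 0 < b a := by
  by_contra h
  push Not at h
  have h0 : ∀ x ∈ (Finset.univ : Finset ι), b x * d x ≤ 0 := fun x _ =>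
    mul_nonpos_of_nonpos_of_nonneg (h x) (Int.natCast_nonneg _)
  have h1 := (Finset.sum_eq_zero_iff_of_nonpos h0).1 hd
  have h2 : ∀ x, b x = 0 := fun x => by
    rcases mul_eq_zero.1 (h1 x (Finset.mem_univ x)) with h | h
    · exact h
    · have := d0 x
      omega
  simp [h2] at hn

theorem shape (b : ι → ℤ) (d : ι → ℕ) (d0 : ∀ x, 0 < d x) (hn : ∑ x, b x * b x = 2)
    (hd : ∑ x, b x * d x = 0) :
    ∃ a c, a ≠ c ∧ b a = 1 ∧ b c = -1 ∧ ∀ x, x ≠ a → x ≠ c → b x = 0 := by
  obtain ⟨a, ha⟩ := ex_pos b d d0 hn hd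
  obtain ⟨c, hc⟩ := ex_pos (fun x => - b x) d d0 (by simpa using hn) (by simpa using hd)
  have hc' : b c < 0 := by simpa using hc
  have hac : a ≠ c := by
    rintro rfl
    omega
  have h2 := two_le (fun x => b x * b x) (fun x => mul_self_nonneg _) hac
  simp only [hn] at h2
  have ha1 : b a = 1 := by nlinarith
  have hc1 : b c = -1 := by nlinarith
  refine ⟨a, c, hac, ha1, hc1, fun x hxa hxc => ?_⟩
  have h3 := three_le (fun x => b x * b x) (fun x => mul_self_nonneg _) hac hxa hxc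
  simp only [hn, ha1, hc1] at h3
  have : b x * b x = 0 := by nlinarith [mul_self_nonneg (b x)]
  exact mul_self_eq_zero.1 this

theorem sum_mul (b f : ι → ℤ) {a c : ι} (hac : a ≠ c) (ha : b a = 1) (hc : b c = -1)
    (ho : ∀ x, x ≠ a → x ≠ c → b x = 0) : ∑ x, b x * f x = f a - f c := by
  rw [← Finset.sum_subset (Finset.subset_univ {a, c}), Finset.sum_pair hac, ha, hc]
  · ring
  · intro x _ hx
    simp only [Finset.mem_insert, Finset.mem_singleton, not_or] at hx
    rw [ho x hx.1 hx.2, zero_mul]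

end CHx

open CHx in
theorem CH {ι I : Type*} [Fintype ι] [DecidableEq ι] (one : ι) (m d w : ι → ℕ) (u : ι → I → ℕ)
    (d0 : ∀ χ, 0 < d χ) (m1 : m one = 1) (w1 : w one = 0) (u1 : ∀ i, u one i = 0)
    (hn : ∀ i, ∑ χ, ((w χ : ℤ) - u χ i) * ((w χ : ℤ) - u χ i) = 2)
    (hi : ∀ i j, 1 ≤ ∑ χ, ((w χ : ℤ) - u χ i) * ((w χ : ℤ) - u χ j))
    (hd : ∀ i, ∑ χ, ((w χ : ℤ) - u χ i) * d χ = 0)
    (i₁ i₂ i₃ : I) (h12 : ∑ χ, ((w χ : ℤ) - u χ i₁) * ((w χ : ℤ) - u χ i₂) = 1)
    (h13 : ∑ χ, ((w χ : ℤ) - u χ i₁) * ((w χ : ℤ) - u χ i₃) = 1)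
    (h23 : ∑ χ, ((w χ : ℤ) - u χ i₂) * ((w χ : ℤ) - u χ i₃) = 1)
    (hu : ∀ i, ∑ χ, m χ * u χ i = 1) (hw : 2 ≤ ∑ χ, m χ * w χ) :
    (∃ χ, χ ≠ one ∧ m χ ≠ 0 ∧ ∀ i, u χ i = 0) ∨
      ∃ χ, χ ≠ one ∧ ∀ ξ, m ξ = if ξ = one ∨ ξ = χ then 1 else 0 := by
  have hs := fun i => shape (fun χ => (w χ : ℤ) - u χ i) d d0 (hn i) (hd i)
  choose a c hac ha hc ho using hs
  have hsum : ∀ i (f : ι → ℤ), ∑ χ, ((w χ : ℤ) - u χ i) * f χ = f (a i) - f (c i) :=
    fun i f => sum_mul (fun χ => (w χ : ℤ) - u χ i) f (hac i) (ha i) (hc i) (ho i)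
  -- values of the differences
  have hle : ∀ j x, x ≠ a j → (w x : ℤ) - u x j ≤ 0 := fun j x hx => by
    by_cases h : x = c j
    · rw [h, hc j]; norm_num
    · rw [ho j x hx h]
  have hge : ∀ j x, x ≠ c j → 0 ≤ (w x : ℤ) - u x j := fun j x hx => by
    by_cases h : x = a j
    · rw [h, ha j]; norm_num
    · rw [ho j x h hx]
  have P : ∀ i j, a i = a j ∨ c i = c j := fun i j => by
    by_contra h
    push Not at h
    have h1 := hi i j
    rw [hsum i (fun χ => (w χ : ℤ) - u χ j)] at h1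
    have h2 := hle j _ h.1
    have h3 := hge j _ h.2
    omega
  have Q : ∀ i j, ∑ χ, ((w χ : ℤ) - u χ i) * ((w χ : ℤ) - u χ j) = 1 → a i = a j →
      c i ≠ c j := fun i j h1 h2 h3 => by
    rw [hsum i (fun χ => (w χ : ℤ) - u χ j), h2, h3, ha j, hc j] at h1
    norm_num at h1
  have hm : ∀ j, (m (a j) : ℤ) - m (c j) = (∑ χ, m χ * w χ : ℕ) - 1 := fun j => by
    rw [← hsum j (fun χ => (m χ : ℤ))]
    have h1 : ((∑ χ, m χ * u χ j : ℕ) : ℤ) = 1 := by rw [hu j]; rfl
    rw [← h1]
    push_cast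
    rw [← Finset.sum_sub_distrib]
    exact Finset.sum_congr rfl (fun x _ => by ring)
  have hma : ∀ j, 1 ≤ m (a j) := fun j => by
    have := hm j
    omega
  by_cases hA : a i₁ = a i₂
  · -- all positive parts agree
    have hc12 := Q _ _ h12 hA
    have hall : ∀ j, a j = a i₁ := fun j => by
      rcases P j i₁ with h | h
      · exact h
      · rcases P j i₂ with h' | h'
        · rw [h', hA]
        · exact absurd (h.symm.trans h') hc12
    have ha1 : a i₁ ≠ one := fun h => by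
      have := ha i₁
      rw [h, w1, u1] at this
      norm_num at this
    by_cases hC : m (c i₁) = 0
    · have hC' : ∀ j, m (c j) = 0 := fun j => by
        have h1 := hm j
        have h2 := hm i₁
        rw [hall j] at h1
        omega
      have hind : ∀ x, m x ≠ 0 → ∀ j, u x j = u x i₁ := fun x hx j => by
        have hxc : ∀ k, x ≠ c k := fun k h => hx (h ▸ hC' k)
        by_cases h : x = a i₁
        · have h1 := ha j
          have h2 := ha i₁
          rw [hall j, ← h] at h1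
          rw [← h] at h2
          omega
        · have h1 := ho j x (by rw [hall j]; exact h) (hxc j)
          have h2 := ho i₁ x h (hxc i₁)
          omega
      obtain ⟨ψ, -, hψ⟩ := Finset.exists_ne_zero_of_sum_ne_zero
        (s := Finset.univ) (f := fun χ => m χ * u χ i₁) (by rw [hu i₁]; norm_num)
      have hψ1 : ψ ≠ one := fun h => hψ (by rw [h, u1, mul_zero])
      have hψm : m ψ = 1 := by
        have h1 := Finset.single_le_sum (s := Finset.univ) (f := fun χ => m χ * u χ i₁)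
          (fun _ _ => Nat.zero_le _) (Finset.mem_univ ψ)
        rw [hu i₁] at h1
        have h2 : m ψ * u ψ i₁ = 1 := by omega
        exact Nat.eq_one_of_mul_eq_one_right h2
      by_cases hE : ∃ x, x ≠ one ∧ x ≠ ψ ∧ m x ≠ 0
      · obtain ⟨x, hx1, hxψ, hxm⟩ := hE
        left
        refine ⟨x, hx1, hxm, fun j => ?_⟩
        rw [hind x hxm j]
        have h1 := two_leN (fun χ => m χ * u χ i₁) hxψ
        rw [hu i₁] at h1
        have h2 : m x * u x i₁ = 0 := by omega
        exact (mul_eq_zero.1 h2).resolve_left hxm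
      · right
        push Not at hE
        refine ⟨ψ, hψ1, fun ξ => ?_⟩
        split_ifs with h
        · rcases h with h | h
          · rw [h, m1]
          · rw [h, hψm]
        · push Not at h
          exact hE ξ h.1 h.2
    · left
      refine ⟨a i₁, ha1, by have := hma i₁; omega, fun j => ?_⟩
      have hcj : 1 ≤ m (c j) := by
        have h1 := hm j
        have h2 := hm i₁
        rw [hall j] at h1
        omega
      have hu1 : 1 ≤ u (c j) j := by
        have := hc j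
        omega
      have h1 := two_leN (fun χ => m χ * u χ j) (hac j)
      rw [hu j, hall j] at h1
      have h2 : 1 ≤ m (c j) * u (c j) j := Nat.mul_pos hcj hu1
      have h3 : m (a i₁) * u (a i₁) j = 0 := by omega
      exact (mul_eq_zero.1 h3).resolve_left (by have := hma i₁; omega)
  · -- all negative parts agree
    exfalso
    have hc12 : c i₁ = c i₂ := (P _ _).resolve_left hA
    have hc13 : c i₁ = c i₃ := by
      rcases P i₁ i₃ with h | h
      · rcases P i₂ i₃ with h' | h'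
        · exact absurd (h.trans h'.symm) hA
        · exact hc12.trans h'
      · exact h
    have ha13 : a i₁ ≠ a i₃ := fun h => Q _ _ h13 h hc13
    have ha23 : a i₂ ≠ a i₃ := fun h => Q _ _ h23 h (hc12.symm.trans hc13)
    have key : ∀ j, a i₁ ≠ a j → c i₁ = c j → 1 ≤ m (a j) * u (a j) i₁ := fun j h1 h2 => by
      have h3 := ho i₁ (a j) h1.symm (by rw [h2]; exact hac j)
      have h4 := ha j
      exact Nat.mul_pos (hma j) (by omega)
    have h1 := two_leN (fun χ => m χ * u χ i₁) ha23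
    rw [hu i₁] at h1
    have h2 := key i₂ hA hc12
    have h3 := key i₃ ha13 hc13
    omega

end CF.El
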