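import Cfsg.Agent.El.A
import Cfsg.Agent.Char.More

/-! The restriction of the permutation character to `C = C_G(x ^ p)`, against the linear
characters `ψ i` of `C / D`. -/

set_option autoImplicit false

namespace CF.El

open MulAction Subgroup Cfsg
open scoped ComplexConjugate

variable {G Ω : Type*} [Group G] [Finite G] [MulAction G Ω] [Finite Ω] {p q : ℕ}

section
variable {x : G} {γ : Ω}

omit [Finite G] [Finite Ω] in
private theorem x2reg (h : CY G Ω p q x γ) (y : G) (hy : y ∈ zpowers x) (ω : Ω)
    (hω : ω ∈ orbit (zpowers x) γ) (e : y • ω = ω) : y = 1 := by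
  obtain ⟨⟨z, hz⟩, rfl⟩ := hω
  apply h.reg y hy
  have hc : y * z = z * y := by
    obtain ⟨a, rfl⟩ := hy
    obtain ⟨b, rfl⟩ := hz
    exact ((Commute.refl x).zpow_zpow a b).eq
  have e' : y • z • γ = z • γ := e
  rw [← mul_smul, hc, mul_smul] at e'
  exact smul_left_cancel z e'

omit [Finite G] [Finite Ω] in
private theorem x2card (h : CY G Ω p q x γ) : (orbit (zpowers x) γ).ncard = p ^ 2 := by
  have hi : Function.Injective fun m : zpowers x => m • γ := by
    intro a b e
    have e' : (a : G) • γ = (b : G) • γ := e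
    have : ((b : G)⁻¹ * a) • γ = γ := by rw [mul_smul, e', inv_smul_smul]
    have h1 := h.reg _ (mul_mem (inv_mem b.2) a.2) this
    exact Subtype.ext (inv_mul_eq_one.1 h1).symm
  rw [orbit, Set.ncard_range_of_injective hi, Nat.card_zpowers, h.ord]

omit [Finite G] in
private theorem x2F (h : CY G Ω p q x γ) : ∃ ω : Ω, ω ∉ orbit (zpowers x) γ := by
  by_contra hn
  push Not at hn
  have e : orbit (zpowers x) γ = Set.univ := Set.eq_univ_of_forall hn
  have h1 := x2card h
  rw [e, Set.ncard_univ, h.card] at h1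
  have h2 : 2 ∣ p ^ 2 := h1 ▸ ⟨p * q, by ring⟩
  have h3 := (Nat.prime_dvd_prime_iff_eq Nat.prime_two h.pp).1 (Nat.prime_two.dvd_of_dvd_pow h2)
  have := h.lt
  have := h.q3
  omega

omit [Finite G] [Finite Ω] in
private theorem x2ord (h : CY G Ω p q x γ) : orderOf (x ^ p) = p := by
  rw [orderOf_pow_of_dvd h.pp.ne_zero (h.ord ▸ dvd_pow_self p two_ne_zero), h.ord, pow_two,
    Nat.mul_div_cancel _ h.pp.pos]

variable {τ : Cv p x →* zpowers x} {φ : zpowers x →* ℂˣ}

open Classical in
omit [Finite G] in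
private theorem x2split (h : CY G Ω p q x γ) (r : Ret Ω p x γ τ) (c : Cv p x) :
    pch G Ω c = (if τ c = 1 then ((p : ℂ) ^ 2) else 0) +
      ((fixedBy Ω (c : G) \ orbit (zpowers x) γ).ncard : ℂ) := by
  have e := Set.ncard_inter_add_ncard_sdiff_eq_ncard (fixedBy Ω (c : G)) (orbit (zpowers x) γ)
  simp only [pch, Nat.card_coe_set_eq]
  rw [← e, Nat.cast_add]
  congr 1
  split_ifs with hc
  · have : fixedBy Ω (c : G) ∩ orbit (zpowers x) γ = orbit (zpowers x) γ := by
      refine Set.inter_eq_right.2 fun ω hω => ?_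
      rw [mem_fixedBy, r.act c ω hω, hc]
      simp
    rw [this, x2card h, Nat.cast_pow]
  · have : fixedBy Ω (c : G) ∩ orbit (zpowers x) γ = ∅ := by
      refine Set.eq_empty_of_forall_notMem fun ω hω => hc ?_
      have h1 := hω.1
      rw [mem_fixedBy, r.act c ω hω.2] at h1
      exact Subtype.ext (x2reg h _ (τ c).2 ω hω.2 h1)
    rw [this, Set.ncard_empty, Nat.cast_zero]

omit [Finite Ω] in
private theorem x2ker (h : CY G Ω p q x γ) (r : Ret Ω p x γ τ) :
    Nat.card τ.ker * p ^ 2 = Nat.card (Cv p x) := by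
  have hs : τ.range = ⊤ := by
    rw [MonoidHom.range_eq_top]
    rintro ⟨y, hy⟩
    exact ⟨_, r.id y hy⟩
  rw [← τ.ker.card_mul_index, index_ker, hs, card_top, Nat.card_zpowers, h.ord]

variable [Fintype G] [Fintype (Cv p x)]

theorem X2 (h : CY G Ω p q x γ) (r : Ret Ω p x γ τ) (hφ : Function.Injective φ) :
    (∀ i : ℕ, ¬ p ∣ i → classInner (fun c : Cv p x => pch G Ω c) (psi τ φ i) = 1) ∧
      ∃ n : ℕ, 2 ≤ n ∧ classInner (fun c : Cv p x => pch G Ω c) (psi τ φ p) = n := by
  classical
  have hv : x ^ p ∈ zpowers x := npow_mem_zpowers x p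
  refine ⟨fun i hi => ?_, Nat.card (orbitRel.Quotient (Cv p x) Ω), ?_, ?_⟩
  · set v : Cv p x := ⟨x ^ p, mem_Cv_of_zpowers hv⟩ with hvd
    have hne : psi τ φ i v ≠ 1 := by
      intro e
      simp only [psi, hvd, r.id _ hv] at e
      rw [← Units.val_pow_eq_pow_val, Units.val_eq_one, ← map_pow,
        map_eq_one_iff φ hφ] at e
      have e' : (x ^ p) ^ i = 1 := congrArg Subtype.val e
      exact hi (x2ord h ▸ orderOf_dvd_of_pow_eq_one e')
    have hS : ∑ c : Cv p x, ((fixedBy Ω (c : G) \ orbit (zpowers x) γ).ncard : ℂ) *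
        conj (psi τ φ i c) = 0 := by
      set S := ∑ c : Cv p x, ((fixedBy Ω (c : G) \ orbit (zpowers x) γ).ncard : ℂ) *
        conj (psi τ φ i c) with hSd
      have e : S = S * conj (psi τ φ i v) := by
        conv_lhs => rw [hSd, ← Equiv.sum_comp (Equiv.mulRight v)]
        rw [hSd, Finset.sum_mul]
        refine Finset.sum_congr rfl fun c _ => ?_
        have e1 : fixedBy Ω ((c * v : Cv p x) : G) \ orbit (zpowers x) γ =
            fixedBy Ω (c : G) \ orbit (zpowers x) γ := by
          ext ω
          simp only [Set.mem_sdiff, mem_fixedBy, and_congr_left_iff]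
          intro hω
          rw [coe_mul, mul_smul, show (v : G) • ω = ω from h.fix ω hω]
        have e2 : psi τ φ i (c * v) = psi τ φ i c * psi τ φ i v := by
          simp only [psi, map_mul, Units.val_mul, mul_pow]
        rw [Equiv.coe_mulRight, e1, e2, map_mul, mul_assoc]
      have h1 : conj (psi τ φ i v) ≠ 1 := fun e' => hne (by
        rw [← map_one (starRingEnd ℂ)] at e'
        exact (starRingEnd ℂ).injective e')
      by_contra h0
      exact h1 ((mul_right_eq_self₀.1 e.symm).resolve_right h0)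
    have hA : ∑ c : Cv p x, (if τ c = 1 then ((p : ℂ) ^ 2) else 0) * conj (psi τ φ i c) =
        Nat.card (Cv p x) := by
      have e : ∀ c : Cv p x, (if τ c = 1 then ((p : ℂ) ^ 2) else 0) * conj (psi τ φ i c) =
          if τ c = 1 then ((p : ℂ) ^ 2) else 0 := by
        intro c
        split_ifs with hc
        · simp [psi, hc]
        · simp
      rw [Finset.sum_congr rfl fun c _ => e c, ← Finset.sum_filter, Finset.sum_const,
        ← x2ker h r, nsmul_eq_mul, Nat.cast_mul, Nat.cast_pow]
      congr 2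
      rw [← Fintype.card_subtype, Nat.card_eq_fintype_card]
      exact Fintype.card_congr (Equiv.refl _)
    simp only [classInner, x2split h r, add_mul, Finset.sum_add_distrib, hS, hA, add_zero]
    exact inv_mul_cancel₀ (Nat.cast_ne_zero.2 Nat.card_pos.ne')
  · obtain ⟨ω, hω⟩ := x2F h
    have : Nontrivial (orbitRel.Quotient (Cv p x) Ω) := by
      refine ⟨⟨Quotient.mk _ ω, Quotient.mk _ γ, fun e => hω ?_⟩⟩
      obtain ⟨c, hc⟩ := orbitRel_apply.1 (Quotient.exact e)
      have hc' : (c : G) • γ = ω := hc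
      rw [r.act c γ (mem_orbit_self γ)] at hc'
      exact ⟨τ c, hc'⟩
    exact Finite.one_lt_card
  · rw [← CF.Char.inner_fixedBy_one Ω]
    simp only [classInner]
    congr 1
    refine Finset.sum_congr rfl fun c _ => ?_
    by_cases hc : ((τ c : zpowers x) : G) ∈ zpowers (x ^ p)
    · have e : psi τ φ p c = 1 := by
        obtain ⟨k, hk⟩ := hc
        have e1 : τ c ^ p = 1 := by
          apply Subtype.ext
          rw [coe_pow, ← hk]
          have : (x ^ p) ^ p = 1 := by
            conv_lhs => enter [2]; rw [← x2ord h]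
            exact pow_orderOf_eq_one _
          change ((x ^ p) ^ k) ^ p = 1
          rw [← zpow_natCast, ← zpow_mul, mul_comm, zpow_mul, zpow_natCast, this, one_zpow]
        simp only [psi]
        rw [← Units.val_pow_eq_pow_val, ← map_pow, e1, map_one, Units.val_one]
      rw [e]
      rfl
    · have e : fixedBy Ω (c : G) = ∅ :=
        Set.eq_empty_of_forall_notMem fun ω hω => r.fpf c hc ω hω
      have e' : fixedBy Ω c = ∅ := e
      simp only [pch, e, e']
      simp

end

end CF.El
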