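import Cfsg.Agent.El.A
import Cfsg.Agent.Char.More

/-! S3579, pieces X3 and X4: kernels of constituents of the permutation character. -/

set_option autoImplicit false

namespace CF.El

open MulAction Subgroup Cfsg CF.Char
open scoped ComplexConjugate

variable {G Ω : Type*} [Group G] [Finite G] [MulAction G Ω] [Finite Ω] {p q : ℕ}

omit [Finite G] in
open Classical in
theorem X3_pch [Fintype Ω] (g : G) : pch G Ω g = ∑ ω : Ω, if g • ω = ω then (1 : ℂ) else 0 := by
  rw [Finset.sum_boole, pch, Nat.card_eq_fintype_card, Fintype.card_subtype]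
  rfl

theorem X3_conv [Fintype G] {χ : G → ℂ} (hχ : IsIrrCharacter G χ) (h : G) :
    Nat.card G * classInner (pch G Ω) χ / χ 1 * χ h = ∑ k, pch G Ω (k * h) * χ k⁻¹ := by
  have hc : IsClassFunction G (pch G Ω) := char_isClassFunction (char_fixedBy Ω)
  rw [← sum_classFun_mul_irr_inv hc hχ h, ← Equiv.sum_comp (Equiv.mulLeft h)]
  refine Finset.sum_congr rfl fun k _ => ?_
  simp only [Equiv.coe_mulLeft, mul_inv_rev, inv_mul_cancel_right]
  rw [classFun_mul_comm hc]

section
variable {x : G} {γ : Ω} {τ : Cv p x →* zpowers x} {φ : zpowers x →* ℂˣ}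

omit [Finite G] in
theorem X3_diff (h : CY G Ω p q x γ) (r : Ret Ω p x γ τ) (d : Cv p x) (hd : τ d = 1) (g : G) :
    pch G Ω (g * d) - pch G Ω (g * (d * x ^ p)) = pch G Ω g - pch G Ω (g * x ^ p) := by
  classical
  have := Fintype.ofFinite Ω
  simp only [X3_pch, ← Finset.sum_sub_distrib]
  refine Finset.sum_congr rfl fun ω _ => ?_
  by_cases hω : ω ∈ orbit (zpowers x) γ
  · have h1 : ∀ ω ∈ orbit (zpowers x) γ, (d : G) • ω = ω := fun ω hω => by
      rw [r.act d ω hω, hd]; simp
    have h2 : x ^ p • ω ∈ orbit (zpowers x) γ :=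
      mem_orbit_of_mem_orbit (⟨x ^ p, npow_mem_zpowers x p⟩ : zpowers x) hω
    simp only [mul_smul, h1 ω hω, h1 _ h2]
  · simp only [mul_smul, h.fix ω hω, sub_self]

theorem X3 [Fintype G] [Fintype (Cv p x)] (h : CY G Ω p q x γ) (r : Ret Ω p x γ τ)
    (hφ : Function.Injective φ) {χ : G → ℂ}
    (hχ : IsIrrCharacter G χ) (hm : classInner (pch G Ω) χ ≠ 0)
    (hu : ∀ i : ℕ, ¬ p ∣ i → classInner (fun c : Cv p x => χ c) (psi τ φ i) = 0) :
    χ (x ^ p) = χ 1 := by
  classical
  have hκ : (Nat.card G : ℂ) * classInner (pch G Ω) χ / χ 1 ≠ 0 :=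
    div_ne_zero (mul_ne_zero card_ne_zero_complex hm) (irr_one_ne_zero hχ)
  have hD : ∀ d : Cv p x, τ d = 1 → χ d - χ (d * x ^ p) = χ 1 - χ (x ^ p) := by
    intro d hd
    refine mul_left_cancel₀ hκ ?_
    rw [mul_sub, mul_sub, X3_conv hχ, X3_conv hχ, X3_conv hχ, X3_conv hχ,
      ← Finset.sum_sub_distrib, ← Finset.sum_sub_distrib]
    refine Finset.sum_congr rfl fun k _ => ?_
    rw [← sub_mul, ← sub_mul, X3_diff h r d hd, mul_one]
  let v : Cv p x := ⟨x ^ p, mem_Cv_of_zpowers (npow_mem_zpowers x p)⟩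
  let w : Cv p x → ℂ := fun c => conj ((φ (τ c) : ℂˣ) : ℂ)
  have wm : ∀ a b, w (a * b) = w a * w b := fun a b => by simp [w]
  have wv : w v ^ p = 1 := by
    have e : τ v ^ p = 1 := by
      rw [r.id (x ^ p) (npow_mem_zpowers x p)]
      ext
      rw [SubmonoidClass.coe_pow, ← pow_mul, ← sq, ← h.ord, pow_orderOf_eq_one]
      rfl
    simp only [w]
    rw [← map_pow, ← Units.val_pow_eq_pow_val, ← map_pow, e]
    simp
  have w2 : ∀ c, w c ^ p ^ 2 = 1 := fun c => by
    have e : τ c ^ p ^ 2 = 1 := by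
      rw [← h.ord, ← Nat.card_zpowers]; exact pow_card_eq_one'
    simp only [w]
    rw [← map_pow, ← Units.val_pow_eq_pow_val, ← map_pow, e]
    simp
  have w1 : ∀ c, w c = 1 → τ c = 1 := fun c hc => by
    apply hφ
    ext
    have := congrArg conj hc
    simpa [w] using this
  have v0 : w v ≠ 0 := by simp [w]
  have hs : ∀ i : ℕ, ∑ c : Cv p x, (χ c - χ (c * x ^ p)) * w c ^ i = 0 := by
    intro i
    have e1 : (∑ c : Cv p x, χ (c * x ^ p) * w c ^ i) * w v ^ i = ∑ c : Cv p x, χ c * w c ^ i := by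
      rw [Finset.sum_mul, ← Equiv.sum_comp (Equiv.mulRight v) (fun c : Cv p x => χ c * w c ^ i)]
      refine Finset.sum_congr rfl fun c _ => ?_
      simp only [Equiv.coe_mulRight, wm, mul_pow, mul_assoc]
      rfl
    simp only [sub_mul, Finset.sum_sub_distrib]
    by_cases hi : p ∣ i
    · obtain ⟨j, rfl⟩ := hi
      rw [pow_mul, wv, one_pow, mul_one] at e1
      rw [e1, sub_self]
    · have e2 : ∑ c : Cv p x, χ c * w c ^ i = 0 := by
        have := hu i hi
        rw [inner_def, mul_eq_zero] at this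
        have := this.resolve_left (inv_ne_zero card_ne_zero_complex)
        simpa [psi, w] using this
      rw [e2, mul_eq_zero] at e1
      rw [e2, e1.resolve_right (pow_ne_zero _ v0), sub_self]
  have ht : ∑ c : Cv p x, (χ c - χ (c * x ^ p)) * ∑ i ∈ Finset.range (p ^ 2), w c ^ i = 0 := by
    simp only [Finset.mul_sum]
    rw [Finset.sum_comm]
    exact Finset.sum_eq_zero fun i _ => hs i
  have hc : ∀ c : Cv p x, (χ c - χ (c * x ^ p)) * ∑ i ∈ Finset.range (p ^ 2), w c ^ i =
      (if τ c = 1 then (1 : ℂ) else 0) * ((χ 1 - χ (x ^ p)) * (p ^ 2 : ℕ)) := by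
    intro c
    split_ifs with hc
    · have : w c = 1 := by simp [w, hc]
      rw [hD c hc, this]; simp
    · have := mul_neg_geom_sum (w c) (p ^ 2)
      rw [w2, sub_self, mul_eq_zero] at this
      rw [this.resolve_left (fun e => hc (w1 c (sub_eq_zero.mp e).symm))]; simp
  simp only [hc, ← Finset.sum_mul, Finset.sum_boole, mul_eq_zero, Nat.cast_eq_zero,
    Finset.card_eq_zero] at ht
  rcases ht with ht | ht | ht
  · have : (1 : Cv p x) ∈ (∅ : Finset (Cv p x)) := ht ▸ (by simp)
    simp at this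
  · exact (sub_eq_zero.mp ht).symm
  · exact absurd ht (pow_ne_zero _ h.pp.ne_zero)

end

theorem X4 [Fintype G] [Nonempty Ω] {χ : G → ℂ} (hχ : IsIrrCharacter G χ) (h1 : χ ≠ fun _ => 1)
    (hm : classInner (pch G Ω) χ ≠ 0) {v : G} (hv : χ v = χ 1) :
    ∃ M : Subgroup G, M.Normal ∧ v ∈ M ∧ ¬ IsPretransitive M Ω := by
  classical
  have hc := irr_isCharacter hχ
  refine ⟨charKer χ, charKer_normal (irr_isClassFunction hχ), (mem_charKer_iff hc).2 hv,
    fun ht => ?_⟩
  have c1 : IsCharacter G (fun g : G => pch G Ω g - 1) := char_fixedBy_sub_one Ω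
  have c2 := char_sub_of_inner_ne_zero c1 hχ (by
    have : (fun g : G => pch G Ω g - 1) = pch G Ω - fun _ => 1 := rfl
    rwa [this, CF.Char.inner_sub_left, inner_irr_ne irr_one hχ (Ne.symm h1), sub_zero])
  have := Fintype.ofFinite (charKer χ)
  obtain ⟨n, hn⟩ := inner_char_eq_nat (char_restrict c2 (charKer χ)) char_const_one
  obtain ⟨m, m0, hm1⟩ := irr_one_eq_nat hχ
  have e1 := inner_fixedBy_one_of_pretransitive (G := charKer χ) Ω
  have e2 : (fun g : charKer χ => ((fun g : G => pch G Ω g - 1) - χ) g) =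
      (fun g : charKer χ => (Nat.card (fixedBy Ω g) : ℂ)) - (fun _ => 1) -
        (m : ℂ) • fun _ => 1 := by
    ext g
    have := (mem_charKer_iff hc).1 g.2
    simp only [Pi.sub_apply, Pi.smul_apply, smul_eq_mul, mul_one, this, hm1]
    rfl
  rw [e2, CF.Char.inner_sub_left, CF.Char.inner_sub_left, CF.Char.inner_smul_left, e1,
    inner_one_one] at hn
  have : ((n + m : ℕ) : ℂ) = 0 := by push_cast; linear_combination -hn
  have := Nat.cast_eq_zero.mp this
  omega

end CF.El
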