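import Cfsg.Agent.El.X3

/-! S3579, piece X4: `CF.El.X4` is proved in `El/X3.lean`. -/
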