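import Cfsg.Agent.El.X1
import Cfsg.Agent.El.X2
import Cfsg.Agent.El.X3
import Cfsg.Agent.El.X4
import Cfsg.Agent.El.CH

/-! S3579, case B-ii-a: the glue of the character computations. -/

set_option autoImplicit false

namespace CF.El

open MulAction Subgroup Cfsg CF.Char
open scoped ComplexConjugate

variable {G Ω : Type*} [Group G] [Finite G] [MulAction G Ω] [Finite Ω] {p q : ℕ}

theorem C3_psi_irr {x : G} (τ : Cv p x →* zpowers x) (φ : zpowers x →* ℂˣ) (i : ℕ) :
    IsIrrCharacter (Cv p x) (psi τ φ i) := by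
  have : psi τ φ i = fun c => ((((φ.comp τ) ^ i) c : ℂˣ) : ℂ) := by
    ext c; simp [psi]
  rw [this]
  exact irr_linear _

theorem C3_psi_ne {x : G} {γ : Ω} (h : CY G Ω p q x γ) {τ : Cv p x →* zpowers x}
    (r : Ret Ω p x γ τ) {φ : zpowers x →* ℂˣ} (hφ : Function.Injective φ) {i : ℕ}
    (hi : ¬ p ^ 2 ∣ i) : (fun _ : Cv p x => (1 : ℂ)) ≠ psi τ φ i := by
  intro e
  have e1 := congrFun e ⟨x, mem_Cv_of_zpowers (mem_zpowers x)⟩
  simp only [psi] at e1
  rw [r.id x (mem_zpowers x), ← Units.val_pow_eq_pow_val, ← map_pow, eq_comm,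
    Units.val_eq_one, ← map_one φ] at e1
  have e2 := congrArg Subtype.val (hφ e1)
  simp only [SubmonoidClass.mk_pow, OneMemClass.coe_one] at e2
  exact hi (h.ord ▸ orderOf_dvd_of_pow_eq_one e2)

theorem C3_modeq (hp : 3 ≤ p) {a b : ℕ} (hab : a < b) (hb : b ≤ 2) :
    (1 + a * p ≡ 1 + b * p [MOD p]) ∧ ¬ (1 + a * p ≡ 1 + b * p [MOD p ^ 2]) := by
  constructor
  · unfold Nat.ModEq
    rw [Nat.add_mul_mod_self_right, Nat.add_mul_mod_self_right]
  · intro e
    have h1 : 1 + a * p < p ^ 2 := by nlinarith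
    have h2 : 1 + b * p < p ^ 2 := by nlinarith
    have := Nat.ModEq.eq_of_lt_of_lt e h1 h2
    have : a * p = b * p := by omega
    have := Nat.eq_of_mul_eq_mul_right (by omega) this
    omega

/-- glue of X1 X2 X3 X4 CH -/
theorem C3 {x : G} {γ : Ω} (h : CY G Ω p q x γ) {τ : Cv p x →* zpowers x} (r : Ret Ω p x γ τ) :
    (∃ M : Subgroup G, M.Normal ∧ x ^ p ∈ M ∧ ¬ IsPretransitive M Ω) ∨
      IsMultiplyPretransitive G Ω 2 := by
  classical
  have := Fintype.ofFinite G
  have := Fintype.ofFinite (Cv p x)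
  have htr := h.tr
  have p3 : 3 ≤ p := by have := h.q3; have := h.lt; omega
  have hnt : Nontrivial Ω := by
    rw [← Finite.one_lt_card_iff_nontrivial, h.card]
    have := h.q3
    nlinarith
  obtain ⟨φ, hφ⟩ := exists_linear_injective_of_isCyclic (G := zpowers x)
  have hpc : IsCharacter G (pch G Ω) := char_fixedBy Ω
  choose m hm using fun χ : IrrCharacter G => inner_char_eq_nat hpc (irr_isCharacter χ.2)
  choose d d0 hd using fun χ : IrrCharacter G => irr_one_eq_nat χ.2
  choose U hU using fun (χ : IrrCharacter G) (i : ℕ) =>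
    inner_char_eq_nat (char_restrict (irr_isCharacter χ.2) (Cv p x))
      (irr_isCharacter (C3_psi_irr τ φ i))
  have hU1 : ∀ i, ¬ p ^ 2 ∣ i → U (oneIrr G) i = 0 := fun i hi => by
    have e := hU (oneIrr G) i
    rw [coe_oneIrr, inner_irr_ne irr_one (C3_psi_irr τ φ i) (C3_psi_ne h r hφ hi)] at e
    exact_mod_cast e.symm
  -- the coefficients of the induced functions
  have hc : ∀ (i : ℕ) (χ : IrrCharacter G),
      classInner (indFun (Cv p x) (psi τ φ p - psi τ φ i)) χ = (((U χ p : ℤ) - U χ i : ℤ) : ℂ) := by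
    intro i χ
    rw [inner_indFun_left _ _ (irr_isClassFunction χ.2), Char.inner_sub_left,
      inner_char_comm (irr_isCharacter (C3_psi_irr τ φ p))
        (char_restrict (irr_isCharacter χ.2) (Cv p x)),
      inner_char_comm (irr_isCharacter (C3_psi_irr τ φ i))
        (char_restrict (irr_isCharacter χ.2) (Cv p x)), hU, hU]
    push_cast; rfl
  have hin : ∀ i j : ℕ, classInner (indFun (Cv p x) (psi τ φ p - psi τ φ i))
      (indFun (Cv p x) (psi τ φ p - psi τ φ j)) =
      ((∑ χ : IrrCharacter G, ((U χ p : ℤ) - U χ i) * ((U χ p : ℤ) - U χ j) : ℤ) : ℂ) := by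
    intro i j
    rw [inner_eq_sum_irr (indFun_isClassFunction _ _), Int.cast_sum]
    refine Finset.sum_congr rfl fun χ _ => ?_
    rw [hc, hc, map_intCast, Int.cast_mul]
  have hX : ∀ i j : ℕ, ¬ p ∣ i → ¬ p ∣ j → ∃ e : ℕ,
      ∑ χ : IrrCharacter G, ((U χ p : ℤ) - U χ i) * ((U χ p : ℤ) - U χ j) = 1 + e ∧
        (i = j → e = 1) ∧ (i ≡ j [MOD p] → ¬ i ≡ j [MOD p ^ 2] → e = 0) := by
    intro i j hi hj
    obtain ⟨e, -, he, h1, h2⟩ := X1 h r hφ i j hi hj
    refine ⟨e, ?_, h1, h2⟩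
    rw [hin] at he
    exact_mod_cast he
  have hres : ∀ i : ℕ, classInner (fun c : Cv p x => pch G Ω c) (psi τ φ i) =
      ((∑ χ : IrrCharacter G, m χ * U χ i : ℕ) : ℂ) := by
    intro i
    have e : (fun c : Cv p x => pch G Ω c) =
        ∑ χ : IrrCharacter G, (m χ : ℂ) • fun c : Cv p x => (χ : G → ℂ) c := by
      ext c
      rw [classFun_apply_eq_sum (char_isClassFunction hpc), Finset.sum_apply]
      refine Finset.sum_congr rfl fun χ _ => ?_
      rw [hm]; rfl
    rw [e, Char.inner_sum_left, Nat.cast_sum]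
    refine Finset.sum_congr rfl fun χ _ => ?_
    rw [Char.inner_smul_left, hU, Nat.cast_mul]
  have nd : ∀ a : ℕ, ¬ p ∣ 1 + a * p := fun a e => by
    have := (Nat.dvd_add_left (Dvd.intro_left a rfl)).1 e
    have := Nat.le_of_dvd one_pos this
    omega
  have hab : ∀ a b : ℕ, a < b → b ≤ 2 →
      ∑ χ : IrrCharacter G, ((U χ p : ℤ) - U χ (1 + a * p)) *
        ((U χ p : ℤ) - U χ (1 + b * p)) = 1 := by
    intro a b h1 h2
    obtain ⟨e, he, -, h0⟩ := hX _ _ (nd a) (nd b)
    obtain ⟨k1, k2⟩ := C3_modeq p3 h1 h2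
    rw [he, h0 k1 k2]; simp
  obtain ⟨x21, n, n2, x22⟩ := X2 h r hφ
  have key := CH (I := {i : ℕ // ¬ p ∣ i}) (oneIrr G) m d (fun χ => U χ p) (fun χ i => U χ i) d0
    (by
      have e := hm (oneIrr G)
      rw [coe_oneIrr, inner_fixedBy_one_of_pretransitive] at e
      exact_mod_cast e.symm)
    (hU1 p fun e => by
      have := Nat.le_of_dvd (by omega) e
      nlinarith)
    (fun i => hU1 i fun e => i.2 (dvd_trans (dvd_pow_self p two_ne_zero) e))
    (fun i => by
      obtain ⟨e, he, h1, -⟩ := hX i i i.2 i.2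
      rw [he, h1 rfl]; norm_num)
    (fun i j => by
      obtain ⟨e, he, -⟩ := hX i j i.2 j.2
      rw [he]; omega)
    (fun i => by
      have e := classFun_apply_eq_sum (indFun_isClassFunction (Cv p x) (psi τ φ p - psi τ φ i)) 1
      rw [indFun_one] at e
      have e0 : (psi τ φ p - psi τ φ i) 1 = 0 := by simp [psi]
      rw [e0, mul_zero] at e
      simp only [hc, hd] at e
      exact_mod_cast e.symm)
    ⟨1 + 0 * p, nd 0⟩ ⟨1 + 1 * p, nd 1⟩ ⟨1 + 2 * p, nd 2⟩
    (hab 0 1 (by omega) (by omega)) (hab 0 2 (by omega) (by omega))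
    (hab 1 2 (by omega) (by omega))
    (fun i => by
      have e := x21 i i.2
      rw [hres] at e
      exact_mod_cast e)
    (by
      rw [hres] at x22
      have : ∑ χ : IrrCharacter G, m χ * U χ p = n := by exact_mod_cast x22
      omega)
  rcases key with ⟨χ, h1, h2, h3⟩ | ⟨χ, h1, h2⟩
  · left
    have hm' : classInner (pch G Ω) χ ≠ 0 := by
      rw [hm]; exact_mod_cast h2
    refine X4 χ.2 (fun e => h1 (Subtype.ext e)) hm' (X3 h r hφ χ.2 hm' fun i hi => ?_)
    rw [hU, h3 ⟨i, hi⟩, Nat.cast_zero]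
  · right
    rw [← irr_fixedBy_sub_one_iff (G := G) Ω]
    have e : (fun g : G => (Nat.card (fixedBy Ω g) : ℂ) - 1) = χ := by
      ext g
      have e1 := classFun_apply_eq_sum (char_isClassFunction hpc) g
      simp only [hm, h2] at e1
      rw [Finset.sum_eq_add (oneIrr G) χ h1.symm
        (fun ξ _ hξ => by rw [if_neg (by tauto)]; simp) (by simp) (by simp)] at e1
      simp only [true_or, or_true, if_true, Nat.cast_one, one_mul, coe_oneIrr] at e1
      rw [sub_eq_iff_eq_add', ← e1]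
    rw [e]
    exact χ.2

end CF.El
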