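import Cfsg.Agent.El.B

set_option autoImplicit false

namespace CF.El

open MulAction Subgroup

variable {G Ω : Type*} [Group G] [Finite G] [MulAction G Ω] [Finite Ω] {p q : ℕ}

namespace C45

theorem conj_into {H : Type*} [Group H] [Finite H] (hp : p.Prime) (P : Sylow p H) {y : H}
    (hy : orderOf y = p) : ∃ g : H, g * y * g⁻¹ ∈ (P : Subgroup H) := by
  have := Fact.mk hp
  have h1 : IsPGroup p (zpowers y) := IsPGroup.of_card (n := 1) (by rw [Nat.card_zpowers, hy, pow_one])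
  obtain ⟨Q, hQ⟩ := h1.exists_le_sylow
  obtain ⟨g, rfl⟩ := exists_smul_eq H Q P
  refine ⟨g, ?_⟩
  rw [Sylow.coe_subgroup_smul]
  exact smul_mem_pointwise_smul y (MulAut.conj g) _ (hQ (mem_zpowers y))

omit [Finite Ω] in
theorem pow_mem_zp {x : G} {γ : Ω} (h : CY G Ω p q x γ) {w : G} (hw : w ∈ zpowers x)
    (ho : orderOf w = p) : x ^ p ∈ zpowers w := by
  obtain ⟨k, rfl⟩ := (mem_powers_iff_mem_zpowers.2 hw)
  dsimp only at ho ⊢
  have h1 : p ^ 2 ∣ k * p := by
    rw [← h.ord, orderOf_dvd_iff_pow_eq_one, pow_mul, ← orderOf_dvd_iff_pow_eq_one, ho]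
  rw [sq] at h1
  obtain ⟨j, rfl⟩ := Nat.dvd_of_mul_dvd_mul_right h.pp.pos h1
  have hv : orderOf (x ^ p) = p := by
    rw [orderOf_pow_of_dvd h.pp.ne_zero (by rw [h.ord]; exact dvd_pow_self _ two_ne_zero), h.ord,
      sq, Nat.mul_div_cancel _ h.pp.pos]
  rw [pow_mul] at ho ⊢
  rw [mem_zpowers_pow_iff, hv]
  refine ((Nat.Prime.coprime_iff_not_dvd h.pp).2 fun hd => ?_).symm
  rw [← hv, orderOf_dvd_iff_pow_eq_one] at hd
  rw [hd, orderOf_one] at ho
  exact h.pp.one_lt.ne ho

theorem noq {x : G} {γ : Ω} (h : CY G Ω p q x γ)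
    (hY : ∀ Y : Subgroup G, IsPGroup q Y → x ^ p ∈ normalizer (Y : Set G) → Y = ⊥)
    (Y : Subgroup G) (hq : IsPGroup q Y) {y : G} (hy : y ∈ normalizer (Y : Set G))
    (ho : orderOf y = p) : Y = ⊥ := by
  obtain ⟨P, hP⟩ := h.sylow
  obtain ⟨g, hg⟩ := conj_into h.pp P ho
  rw [hP] at hg
  have h1 := pow_mem_zp h hg (((MulAut.conj g).orderOf_eq y).trans ho)
  have h2 : g * y * g⁻¹ ∈ normalizer ((Y.map (MulAut.conj g).toMonoidHom : Subgroup G) : Set G) :=
    le_normalizer_map _ ⟨y, hy, rfl⟩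
  have h3 := hY _ (hq.map _) (zpowers_le.2 h2 h1)
  exact (map_eq_bot_iff_of_injective _ (MulAut.conj g).injective).1 h3

theorem frat {x : G} {γ : Ω} (h : CY G Ω p q x γ)
    (hY : ∀ Y : Subgroup G, IsPGroup q Y → x ^ p ∈ normalizer (Y : Set G) → Y = ⊥)
    {H : Type*} [Group H] [Finite H] (f : H →* G) (hf : Function.Injective f) (K : Subgroup H)
    [K.Normal] (hp : p ∣ K.index) : ¬ q ∣ Nat.card K := by
  have := Fact.mk h.pq
  have := Fact.mk h.pp
  intro hq
  obtain ⟨Q⟩ : Nonempty (Sylow q K) := inferInstance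
  have h1 := Q.normalizer_sup_eq_top
  set N := normalizer (((Q : Subgroup K).map K.subtype : Subgroup H) : Set H) with hN
  have h2 : p ∣ Nat.card N := by
    rw [← relIndex_top_right, ← h1, relIndex_sup_right] at hp
    exact hp.trans (relIndex_dvd_card _ _)
  obtain ⟨y, hy⟩ := exists_prime_orderOf_dvd_card' p h2
  have h3 := noq h hY (((Q : Subgroup K).map K.subtype).map f) ((Q.isPGroup'.map _).map _)
    (y := f y) (le_normalizer_map _ ⟨y, y.2, rfl⟩)
    (by rw [orderOf_injective f hf, orderOf_coe, hy])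
  rw [map_eq_bot_iff_of_injective _ hf, map_eq_bot_iff_of_injective _ K.subtype_injective] at h3
  have h4 := Q.dvd_card_of_dvd_card hq
  rw [h3, card_bot, Nat.dvd_one] at h4
  exact h.pq.one_lt.ne' h4

omit [Finite Ω] in
theorem rel_zp {x : G} {γ : Ω} (h : CY G Ω p q x γ) {y : G} (hy : y ∈ zpowers x) :
    (stabilizer G γ).relIndex (zpowers y) = orderOf y := by
  have : (stabilizer G γ).subgroupOf (zpowers y) = ⊥ := by
    rw [eq_bot_iff]
    intro z hz
    exact Subtype.ext (h.reg _ (zpowers_le.2 hy z.2) hz)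
  rw [relIndex, this, index_bot, Nat.card_zpowers]

theorem exF {x : G} {γ : Ω} (h : CY G Ω p q x γ) : ∃ δ, δ ∉ orbit (zpowers x) γ := by
  have h1 := h.cardF
  have h2 := h.lt2
  have h3 : p * p < p * (2 * q) := Nat.mul_lt_mul_of_pos_left h2 h.pp.pos
  have h4 : 0 < (orbit (zpowers x) γ)ᶜ.ncard := by nlinarith
  exact Set.nonempty_of_ncard_ne_zero h4.ne'

end C45

open C45

theorem C4 {x : G} {γ : Ω} (h : CY G Ω p q x γ)
    (hY : ∀ Y : Subgroup G, IsPGroup q Y → x ^ p ∈ normalizer (Y : Set G) → Y = ⊥)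
    (M : Subgroup G) [M.Normal] (hv : x ^ p ∈ M) : IsPretransitive M Ω := by
  have := h.tr
  have p5 := h.toHy.p5
  have hd : (orbit M γ).ncard ∣ 2 * p * q :=
    h.card ▸ (IsBlock.orbit_of_normal γ).ncard_dvd_card ⟨γ, mem_orbit_self γ⟩
  have hne : (stabilizer G γ).relIndex M ≠ 0 := index_ne_zero_of_finite
  by_cases hp : p ∣ M.index
  · exfalso
    have h1 := frat h hY (MonoidHom.id G) Function.injective_id M hp
    obtain ⟨δ, hδ⟩ := exF h
    obtain ⟨g, rfl⟩ := exists_smul_eq G γ δ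
    have h2 : (orbit M (g • γ)).ncard = (orbit M γ).ncard := by
      rw [← smul_orbit_eq_orbit_smul, Set.ncard_smul_set]
    rw [ncard_orbit, ncard_orbit] at h2
    rw [ncard_orbit] at hd
    have h3 : p ≤ (stabilizer G γ).relIndex M := by
      have := relIndex_le_of_le_right (H := stabilizer G γ) (zpowers_le.2 hv) hne
      rwa [rel_zp h (npow_mem_zpowers x p), h.ordv] at this
    have h4 : ¬ q ∣ (stabilizer G γ).relIndex M := fun e => h1 (e.trans (relIndex_dvd_card _ _))
    have h5 : (stabilizer G γ).relIndex M ∣ 2 * p :=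
      ((Nat.Prime.coprime_iff_not_dvd h.pq).2 h4).symm.dvd_of_dvd_mul_right hd
    have h6 : p ∣ (stabilizer G γ).relIndex M := by
      by_contra e
      have := Nat.le_of_dvd two_pos
        (((Nat.Prime.coprime_iff_not_dvd h.pp).2 e).symm.dvd_of_dvd_mul_right h5)
      omega
    have h7 : p ∣ Nat.card ((stabilizer G (g • γ)).subgroupOf M) := by
      have := orderOf_dvd_natCard
        (⟨⟨x ^ p, hv⟩, h.fix _ hδ⟩ : (stabilizer G (g • γ)).subgroupOf M)
      rwa [← orderOf_coe, ← orderOf_coe, h.ordv] at this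
    apply h.syl
    rw [← M.card_mul_index, ← ((stabilizer G (g • γ)).subgroupOf M).card_mul_index, pow_succ, sq]
    exact mul_dvd_mul (mul_dvd_mul h7 (h2 ▸ h6 :)) hp
  · have hx : x ∈ M := by
      rw [← QuotientGroup.eq_one_iff, ← orderOf_eq_one_iff]
      have h1 : orderOf (x : G ⧸ M) ∣ p ^ 2 := h.ord ▸ orderOf_map_dvd (QuotientGroup.mk' M) x
      exact Nat.eq_one_of_dvd_coprimes
        (((Nat.Prime.coprime_iff_not_dvd h.pp).2 hp).pow_left 2) h1 (orderOf_dvd_natCard _)
    have h3 : p ^ 2 ≤ (orbit M γ).ncard := by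
      have := relIndex_le_of_le_right (H := stabilizer G γ) (zpowers_le.2 hx) hne
      rwa [rel_zp h (mem_zpowers x), h.ord, ← ncard_orbit] at this
    obtain ⟨t, ht⟩ := hd
    have h4 : t = 1 := by
      have h5 := h.lt
      have h6 := h.q3
      have h7 : p * q < p * p := Nat.mul_lt_mul_of_pos_left h5 h.pp.pos
      rcases t with _ | _ | t
      · have : 0 < 2 * p * q := by positivity
        omega
      · rfl
      · nlinarith
    rw [h4, mul_one, ← h.card] at ht
    have h5 : orbit M γ = Set.univ :=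
      Set.eq_of_subset_of_ncard_le (Set.subset_univ _) (by rw [Set.ncard_univ, ht])
    exact (isPretransitive_iff_orbit_eq_univ γ).2 h5

end CF.El
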