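import Cfsg.Agent.El.C4

set_option autoImplicit false

namespace CF.El

open MulAction Subgroup C45

variable {G Ω : Type*} [Group G] [Finite G] [MulAction G Ω] [Finite Ω] {p q : ℕ}

namespace C45

theorem not_dvd_index {H : Type*} [Group H] [Finite H] (h2 : ¬ p ^ 2 ∣ Nat.card H)
    {z : H} (hz : orderOf z = p) : ¬ p ∣ (zpowers z).index := fun e => h2 (by
  rw [← (zpowers z).card_mul_index, Nat.card_zpowers, hz, sq]
  exact mul_dvd_mul_left _ e)

theorem pg {H : Type*} [Group H] {z : H} (hz : orderOf z = p) : IsPGroup p (zpowers z) :=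
  IsPGroup.of_card (n := 1) (by rw [Nat.card_zpowers, hz, pow_one])

theorem conj_zp (hp : p.Prime) (H : Subgroup G) (h2 : ¬ p ^ 2 ∣ Nat.card H) {y z : G}
    (hy : y ∈ H) (hz : z ∈ H) (oy : orderOf y = p) (oz : orderOf z = p) :
    ∃ g ∈ H, g * y * g⁻¹ ∈ zpowers z := by
  have := Fact.mk hp
  have oz' : orderOf (⟨z, hz⟩ : H) = p := by rw [← orderOf_coe, oz]
  obtain ⟨g, k, hk⟩ := conj_into hp ((pg oz').toSylow (not_dvd_index h2 oz'))
    (y := ⟨y, hy⟩) (by rw [← orderOf_coe, oy])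
  exact ⟨g, g.2, k, by simpa using congrArg Subtype.val hk⟩

theorem mem_fix2 {a b : Ω} {g : G} :
    g ∈ fixingSubgroup G ({a, b} : Set Ω) ↔ g • a = a ∧ g • b = b := by
  simp [mem_fixingSubgroup_iff]

theorem idx2 (h : Hy G Ω p q) (h2 : IsMultiplyPretransitive G Ω 2) {a b : Ω} (hab : a ≠ b) :
    (fixingSubgroup G ({a, b} : Set Ω)).index = 2 * p * q * (2 * p * q - 1) := by
  rw [IsMultiplyPretransitive.index_of_fixingSubgroup_eq _ (by rwa [Set.ncard_pair hab]),
    Set.ncard_pair hab, h.card, mul_comm, ← Nat.descFactorial_eq_factorial_mul_choose]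
  simp [Nat.descFactorial, mul_comm]

theorem nsq {x : G} {γ : Ω} (h : CY G Ω p q x γ) (h2 : IsMultiplyPretransitive G Ω 2) {a b : Ω}
    (hab : a ≠ b) : ¬ p ^ 2 ∣ Nat.card (fixingSubgroup G ({a, b} : Set Ω)) := fun e => h.syl (by
  rw [← (fixingSubgroup G ({a, b} : Set Ω)).card_mul_index, idx2 h.toHy h2 hab, pow_succ]
  exact mul_dvd_mul e (((dvd_mul_left p 2).mul_right q).mul_right _))

omit [Finite G] in
theorem conj_Cv {x g c : G} (hg : g ∈ normalizer (zpowers (x ^ p) : Set G)) (hc : c ∈ Cv p x) :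
    g * c * g⁻¹ ∈ Cv p x := by
  obtain ⟨k, hk⟩ := (mem_normalizer_iff''.1 hg (x ^ p)).1 (mem_zpowers _)
  have h1 : Commute c (g⁻¹ * x ^ p * g) := hk ▸ (show Commute c (x ^ p) from mem_Cv.1 hc).zpow_right k
  rw [mem_Cv]
  calc g * c * g⁻¹ * x ^ p = g * (c * (g⁻¹ * x ^ p * g)) * g⁻¹ := by group
    _ = x ^ p * (g * c * g⁻¹) := by rw [h1.eq]; group

theorem witt {x : G} {γ : Ω} (h : CY G Ω p q x γ) (h2 : IsMultiplyPretransitive G Ω 2)
    {a b c : Ω} (ha : x ^ p • a = a) (hb : x ^ p • b = b) (hc : x ^ p • c = c) (hab : a ≠ b)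
    (hac : a ≠ c) : ∃ g ∈ normalizer (zpowers (x ^ p) : Set G), g • a = a ∧ g • b = c := by
  obtain ⟨g, g1, g2⟩ := is_two_pretransitive_iff.1 h2 hab hac
  obtain ⟨k, hk, e⟩ := conj_zp h.pp _ (nsq h h2 hac) (y := g * x ^ p * g⁻¹) (z := x ^ p)
    (mem_fix2.2 ⟨by rw [← g1, mul_smul, inv_smul_smul, mul_smul, ha],
      by rw [← g2, mul_smul, inv_smul_smul, mul_smul, hb]⟩) (mem_fix2.2 ⟨ha, hc⟩)
    (((MulAut.conj g).orderOf_eq _).trans h.ordv) h.ordv
  refine ⟨k * g, mem_normalizer_fintype ?_, by rw [mul_smul, g1, (mem_fix2.1 hk).1],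
    by rw [mul_smul, g2, (mem_fix2.1 hk).2]⟩
  rintro _ ⟨n, rfl⟩
  have := zpow_mem e n
  simp only [conj_zpow] at this
  simpa [mul_assoc] using this

theorem Cv_le {x : G} {γ : Ω} (h : CY G Ω p q x γ) {τ : Cv p x →* zpowers x} (r : Ret Ω p x γ τ)
    (h2 : IsMultiplyPretransitive G Ω 2) : Cv p x ≤ zpowers x := by
  have key : ∀ d : Cv p x, τ d = 1 → d = 1 := by
    intro d hd
    refine Subtype.ext (h.fa _ fun a => ?_)
    by_cases ha : a ∈ orbit (zpowers x) γ
    · rw [r.act d a ha, hd]; simp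
    by_contra hne
    have fx : ∀ c : Cv p x, ∀ w : Ω, x ^ p • w = w → x ^ p • (c : G) • w = (c : G) • w :=
      fun c w hw => by rw [← mul_smul, ← mem_Cv.1 c.2, mul_smul, hw]
    have ha' := (h.mem_iff a).1 ha
    have e : orbit (τ.ker.map (Cv p x).subtype) a = (orbit (zpowers x) γ)ᶜ := by
      ext w
      constructor
      · rintro ⟨⟨_, c, -, rfl⟩, rfl⟩
        exact (h.mem_iff _).2 (fx c a ha')
      · intro hw
        by_cases haw : a = w
        · exact haw ▸ mem_orbit_self a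
        obtain ⟨g, hg, g1, g2⟩ := witt h h2 ha' (fx d a ha') ((h.mem_iff w).1 hw) (Ne.symm hne) haw
        refine ⟨⟨_, ⟨_, conj_Cv hg d.2⟩, r.nrm g d _ hd, rfl⟩, ?_⟩
        change (g * d * g⁻¹) • a = w
        rw [mul_smul, mul_smul, inv_smul_eq_iff.2 g1.symm, g2]
    have h3 := h.cardF
    rw [← e, ncard_orbit] at h3
    apply r.cop
    rw [← card_map_of_injective (Cv p x).subtype_injective]
    refine Dvd.dvd.trans ?_ (relIndex_dvd_card (stabilizer G a) _)
    refine (Nat.dvd_add_left (dvd_pow_self p two_ne_zero)).1 ?_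
    rw [h3]
    exact (dvd_mul_left p 2).mul_right q
  intro c hc
  have h1 := key (⟨c, hc⟩ * ⟨_, mem_Cv_of_zpowers (τ ⟨c, hc⟩).2⟩⁻¹) (by
    rw [map_mul, map_inv, r.id _ (τ ⟨c, hc⟩).2, mul_inv_cancel])
  have h3 := congrArg Subtype.val (mul_inv_eq_one.1 h1)
  dsimp only at h3
  rw [h3]
  exact (τ ⟨c, hc⟩).2

end C45

theorem C5 {x : G} {γ : Ω} (h : CY G Ω p q x γ) {τ : Cv p x →* zpowers x} (r : Ret Ω p x γ τ)
    (hY : ∀ Y : Subgroup G, IsPGroup q Y → x ^ p ∈ normalizer (Y : Set G) → Y = ⊥)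
    (h2 : IsMultiplyPretransitive G Ω 2) : False := by
  have := Fact.mk h.pp
  have := Fact.mk h.pq
  have hC := Cv_le h r h2
  obtain ⟨a, ha⟩ := exF h
  have ha' := (h.mem_iff a).1 ha
  have vp : ∀ w ∈ zpowers (x ^ p), w ^ p = 1 := fun w hw => by
    have := orderOf_dvd_of_mem_zpowers hw
    rwa [h.ordv, orderOf_dvd_iff_pow_eq_one] at this
  have hab : a ≠ x • a := by
    refine (h.fpf x (mem_zpowers x) (fun e => ?_) a).symm
    have h1 := h.ordv
    rw [vp x e, orderOf_one] at h1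
    exact h.pp.one_lt.ne h1
  set H := fixingSubgroup G ({a, x • a} : Set Ω) with hH
  have hv : x ^ p ∈ H := mem_fix2.2 ⟨ha', by rw [← mul_smul, ← pow_succ, pow_succ', mul_smul, ha']⟩
  have ov : orderOf (⟨x ^ p, hv⟩ : H) = p := by rw [← orderOf_coe, h.ordv]
  let P : Sylow p H := (pg ov).toSylow (not_dvd_index (nsq h h2 hab) ov)
  have hP : normalizer ((P : Subgroup H) : Set H) ≤ centralizer (P : Set H) := by
    intro g hg
    have h1 : (g : G) ∈ normalizer (zpowers (x ^ p) : Set G) := by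
      have := le_normalizer_map H.subtype ⟨g, hg, rfl⟩
      rwa [show (P : Subgroup H) = zpowers ⟨x ^ p, hv⟩ from rfl, MonoidHom.map_zpowers] at this
    have h3 := hC (conj_Cv h1 (mem_Cv_of_zpowers (mem_zpowers x)))
    have h4 : x⁻¹ * (g * x * (g : G)⁻¹) ∈ zpowers x := mul_mem (inv_mem (mem_zpowers x)) h3
    obtain ⟨g1, g2⟩ := mem_fix2.1 g.2
    have h5 : x⁻¹ * (g * x * (g : G)⁻¹) ∈ zpowers (x ^ p) := by
      by_contra e
      refine h.fpf _ h4 e a ?_
      rw [mul_smul, mul_smul, mul_smul, inv_smul_eq_iff.2 g1.symm, g2, inv_smul_smul]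
    have h6 : Commute x (x⁻¹ * (g * x * (g : G)⁻¹)) := by
      obtain ⟨k, hk⟩ := h4
      rw [← hk]
      exact (Commute.refl x).zpow_right k
    have h7 := h6.mul_pow p
    rw [vp _ h5, mul_one, mul_inv_cancel_left, conj_pow, mul_inv_eq_iff_eq_mul] at h7
    rintro _ ⟨k, rfl⟩
    have h8 : Commute (⟨x ^ p, hv⟩ : H) g := Subtype.ext h7.symm
    exact (h8.zpow_left k).eq
  have hK := MonoidHom.ker_transferSylow_isComplement' P hP
  have cP : Nat.card (P : Subgroup H) = p := by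
    rw [show (P : Subgroup H) = zpowers ⟨x ^ p, hv⟩ from rfl, Nat.card_zpowers, ov]
  refine frat h hY H.subtype H.subtype_injective (MonoidHom.transferSylow P hP).ker
    (by rw [hK.symm.index_eq_card, cP]) ?_
  have hG := H.card_mul_index
  rw [hH, idx2 h.toHy h2 hab, ← hH, ← hK.card_mul_card, cP] at hG
  have hq : q ∣ Nat.card G := by
    rw [← hG]
    exact ((dvd_mul_left q _).mul_right _).mul_left _
  obtain ⟨y, hy⟩ := exists_prime_orderOf_dvd_card' q hq
  obtain ⟨ω, hω⟩ := h.el y (hy ▸ h.pq)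
  have h1 : q ∣ Nat.card (stabilizer G ω) := by
    have := orderOf_dvd_natCard (⟨y, hω⟩ : stabilizer G ω)
    rwa [← orderOf_coe, hy] at this
  have h3 := (stabilizer G ω).card_mul_index
  have n0 : 0 < 2 * p * q := Nat.mul_pos (Nat.mul_pos two_pos h.pp.pos) h.pq.pos
  rw [h.toHy.index, ← hG] at h3
  have h6 : Nat.card (stabilizer G ω) =
      Nat.card (MonoidHom.transferSylow P hP).ker * p * (2 * p * q - 1) :=
    Nat.eq_of_mul_eq_mul_right n0 (h3.trans (by ring))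
  rw [h6] at h1
  rcases (Nat.Prime.dvd_mul h.pq).1 h1 with h4 | h4
  · rcases (Nat.Prime.dvd_mul h.pq).1 h4 with h5 | h5
    · exact h5
    · exact absurd ((Nat.prime_dvd_prime_iff_eq h.pq h.pp).1 h5) h.lt.ne
  · have h5 : q ∣ 2 * p * q - (2 * p * q - 1) := Nat.dvd_sub (dvd_mul_left _ _) h4
    rw [show 2 * p * q - (2 * p * q - 1) = 1 by omega, Nat.dvd_one] at h5
    exact absurd h5 h.pq.one_lt.ne'

end CF.El
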