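import Cfsg.Agent.El.A

/-! S3579, frame `JF`: elements of `J` commuting with `v` fix `A` pointwise. -/

set_option autoImplicit false

namespace CF.El

open MulAction Subgroup

variable {G Ω : Type*} [Group G] [MulAction G Ω] {p : ℕ}
variable {v : G} {J : Subgroup G} {A R : Set Ω}

theorem JF.zmem (h : JF p v J A R) {a : Ω} (ha : a ∈ A) (k : ℤ) : v ^ k • a ∈ A := by
  obtain ⟨a0, -, rfl⟩ := h.cyc
  obtain ⟨⟨y, j, rfl⟩, rfl⟩ := ha
  refine ⟨⟨v ^ (k + j), k + j, rfl⟩, ?_⟩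
  simp [Subgroup.smul_def, zpow_add, mul_smul]

theorem JF.vmem (h : JF p v J A R) {a : Ω} (ha : a ∈ A) : v • a ∈ A := by
  simpa using h.zmem ha 1

theorem JF.ex (h : JF p v J A R) {a b : Ω} (ha : a ∈ A) (hb : b ∈ A) :
    ∃ k : ℤ, v ^ k • a = b := by
  obtain ⟨a0, -, rfl⟩ := h.cyc
  obtain ⟨⟨y, j, rfl⟩, rfl⟩ := ha
  obtain ⟨⟨y, i, rfl⟩, rfl⟩ := hb
  refine ⟨i - j, ?_⟩
  simp [Subgroup.smul_def, ← mul_smul, ← zpow_add]

theorem JF.moves (h : JF p v J A R) {a : Ω} (ha : a ∈ A) : v • a ≠ a := by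
  obtain ⟨a0, h0, e⟩ := h.cyc
  have h0A : a0 ∈ A := e ▸ mem_orbit_self a0
  obtain ⟨k, rfl⟩ := h.ex h0A ha
  intro e1
  apply h0
  rw [← mul_smul, ← zpow_one_add, add_comm, zpow_add_one, mul_smul] at e1
  exact smul_left_cancel _ e1

theorem JF.ne (h : JF p v J A R) : A.Nonempty := by
  obtain ⟨a0, -, e⟩ := h.cyc
  exact ⟨a0, e ▸ mem_orbit_self a0⟩

theorem JF.dvd (h : JF p v J A R) {a : Ω} (ha : a ∈ A) {k : ℤ} (e : v ^ k • a = a) :
    (p : ℤ) ∣ k := by
  by_contra hk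
  have hp : Prime (p : ℤ) := Nat.prime_iff_prime_int.1 h.pp
  obtain ⟨s, t, hst⟩ := (hp.irreducible.coprime_iff_not_dvd.2 hk)
  apply h.moves ha
  have e1 : v = (v ^ k) ^ t := by
    have : v ^ (p : ℤ) = 1 := by rw [zpow_natCast, ← h.ord, pow_orderOf_eq_one]
    calc v = v ^ (s * p + t * k) := by rw [hst, zpow_one]
      _ = (v ^ k) ^ t := by rw [zpow_add, mul_comm s, zpow_mul, this, one_zpow, one_mul,
        mul_comm t, zpow_mul]
  have : (v ^ k) ^ t ∈ stabilizer G a := zpow_mem (mem_stabilizer_iff.2 e) t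
  rw [← e1] at this
  exact this

theorem JF.of_dvd (h : JF p v J A R) {k : ℤ} (e : (p : ℤ) ∣ k) : v ^ k = 1 := by
  obtain ⟨t, rfl⟩ := e
  rw [zpow_mul, zpow_natCast, ← h.ord, pow_orderOf_eq_one, one_zpow]

theorem JF.nR (h : JF p v J A R) {g : G} (hg : g ∈ J) {ω : Ω} (hω : ω ∉ R) : g • ω ∉ R := by
  intro hR
  have := (h.mem g).1 hg _ hR
  exact hω (smul_left_cancel g this ▸ hR)

theorem JF.AnR (h : JF p v J A R) {a : Ω} (ha : a ∈ A) : a ∉ R :=
  fun hR => Set.disjoint_left.1 h.dj ha hR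

theorem JF.cardA (h : JF p v J A R) : A.ncard = p := by
  obtain ⟨a0, h0, e⟩ := h.cyc
  have h0A : a0 ∈ A := e ▸ mem_orbit_self a0
  have hb : stabilizer (zpowers v) a0 = ⊥ := by
    rw [eq_bot_iff]
    rintro ⟨y, k, rfl⟩ hy
    rw [mem_bot]
    exact Subtype.ext (h.of_dvd (h.dvd h0A hy))
  rw [e, ← index_stabilizer, hb, index_bot, Nat.card_zpowers, h.ord]

theorem J0 [Finite G] (h : JF p v J A R) {c : G} (hc : c ∈ J)
    (e : c * v = v * c) : ∀ a ∈ A, c • a = a := by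
  intro a ha
  have hA : c • a ∈ A := by
    by_contra hn
    have := h.vF _ hn (h.nR hc (h.AnR ha))
    rw [← mul_smul, ← e, mul_smul] at this
    exact h.moves ha (smul_left_cancel c this)
  obtain ⟨k, hk⟩ := h.ex ha hA
  have hcm : Commute c v := e
  have key : ∀ n : ℕ, c ^ n • a = v ^ (k * n) • a := by
    intro n
    induction n with
    | zero => simp
    | succ n ih =>
      rw [pow_succ', mul_smul, ih, ← mul_smul, (hcm.zpow_right _).eq, mul_smul, ← hk,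
        ← mul_smul, ← zpow_add]
      congr 2
      push_cast
      ring
  have h1 := key (orderOf c)
  rw [pow_orderOf_eq_one, one_smul] at h1
  have hp : Prime (p : ℤ) := Nat.prime_iff_prime_int.1 h.pp
  rcases hp.dvd_or_dvd (h.dvd ha h1.symm) with h2 | h2
  · rw [← hk, h.of_dvd h2, one_smul]
  · exact absurd ((Int.natCast_dvd_natCast.1 h2).trans (Subgroup.orderOf_dvd_natCard J hc)) h.cop

end CF.El
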