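import Cfsg.Agent.El.A

/-! S3579: the pieces `J4` and `J5`. -/

set_option autoImplicit false
set_option linter.unusedSectionVars false

namespace CF.El

open MulAction Subgroup

namespace J4p

theorem fixp {X : Type*} {p : ℕ} (hp : p.Prime) (f : X → X) (S : Set X) (hfin : S.Finite)
    (hS : Set.MapsTo f S S) (hf : ∀ x ∈ S, f^[p] x = x) (hc : ¬ p ∣ S.ncard) :
    ∃ x ∈ S, f x = x := by
  classical
  have : Fact p.Prime := ⟨hp⟩
  have := hfin.fintype
  let g : Function.End S := hS.restrict f S S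
  have hg : g ^ p ^ 1 = 1 := by
    rw [pow_one]
    funext x
    apply Subtype.ext
    have : (g ^ p) x = (hS.restrict f S S)^[p] x := by
      have key : ∀ n : ℕ, (g ^ n) x = (hS.restrict f S S)^[n] x := by
        intro n
        induction n with
        | zero => rfl
        | succ n ih => rw [pow_succ', Function.iterate_succ_apply', ← ih]; rfl
      exact key p
    rw [this, Set.MapsTo.coe_iterate_restrict]
    exact hf _ x.2
  have h1 := Equiv.Perm.card_fixedPoints_modEq hg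
  by_contra hn
  have h0 : Fintype.card (Function.fixedPoints g) = 0 :=
    Fintype.card_eq_zero_iff.2 ⟨fun x => hn ⟨x.1, x.1.2, congrArg Subtype.val x.2⟩⟩
  rw [h0, Nat.modEq_zero_iff_dvd] at h1
  apply hc
  rwa [← Nat.card_coe_set_eq, Nat.card_eq_fintype_card]

variable {G Ω : Type*} [Group G] [Finite G] [MulAction G Ω] [Finite Ω] {p q : ℕ}

theorem cfix (hp : p.Prime) {v : G} (hv : v ^ p = 1) (S : Set G)
    (hS : ∀ s ∈ S, v * s * v⁻¹ ∈ S) (hc : ¬ p ∣ S.ncard) : ∃ c ∈ S, c * v = v * c := by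
  have it : ∀ (n : ℕ) (x : G), (fun s => v * s * v⁻¹)^[n] x = v ^ n * x * (v ^ n)⁻¹ := by
    intro n x
    induction n with
    | zero => simp
    | succ n ih => rw [Function.iterate_succ_apply', ih, pow_succ']; group
  obtain ⟨c, h1, h2⟩ := fixp hp (fun s => v * s * v⁻¹) S S.toFinite hS
    (fun x _ => by rw [it, hv]; simp) hc
  exact ⟨c, h1, (mul_inv_eq_iff_eq_mul.1 h2).symm⟩

variable {v : G} {J : Subgroup G} {A R : Set Ω}

omit [Finite G] [Finite Ω] in
theorem tr (h : JF p v J A R) {a b : Ω} (ha : a ∈ A) (hb : b ∈ A) :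
    ∃ w ∈ zpowers v, w • a = b := by
  obtain ⟨o, -, rfl⟩ := h.cyc
  obtain ⟨x, rfl⟩ := ha
  obtain ⟨y, rfl⟩ := hb
  exact ⟨y * x⁻¹, mul_mem y.2 (inv_mem x.2), by simp [mul_smul, Subgroup.smul_def]⟩

omit [Finite G] [Finite Ω] in
theorem inv (h : JF p v J A R) {a : Ω} (ha : a ∈ A) {w : G} (hw : w ∈ zpowers v) : w • a ∈ A := by
  obtain ⟨o, -, rfl⟩ := h.cyc
  obtain ⟨x, rfl⟩ := ha
  exact ⟨⟨w, hw⟩ * x, by simp [mul_smul, Subgroup.smul_def]⟩

omit [Finite G] [Finite Ω] in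
theorem cm {w u : G} (hw : w ∈ zpowers v) (hu : u ∈ zpowers v) : w * u = u * w := by
  obtain ⟨i, rfl⟩ := hw
  obtain ⟨j, rfl⟩ := hu
  exact (Commute.zpow_zpow_self v i j).eq

omit [Finite G] [Finite Ω] in
theorem all (h : JF p v J A R) {a b : Ω} (ha : a ∈ A) (hb : b ∈ A) {w : G} (hw : w ∈ zpowers v)
    (e : w • b = b) : w • a = a := by
  obtain ⟨u, hu, rfl⟩ := tr h hb ha
  rw [← mul_smul, cm hw hu, mul_smul, e]

omit [Finite G] [Finite Ω] in
theorem pw (h : JF p v J A R) {w : G} (hw : w ∈ zpowers v) : w ^ p = 1 := by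
  obtain ⟨i, rfl⟩ := hw
  change (v ^ i) ^ p = 1
  rw [← zpow_natCast, ← zpow_mul, mul_comm, zpow_mul, zpow_natCast, ← h.ord, pow_orderOf_eq_one,
    one_zpow]

omit [Finite Ω] in
theorem j0 (h : JF p v J A R) {c : G} (hc : c ∈ J) (e : c * v = v * c) :
    ∀ a ∈ A, c • a = a := by
  intro a ha
  have mv : v • a ≠ a := by
    obtain ⟨o, ho, e⟩ := h.cyc
    exact fun e' => ho (all h (e ▸ mem_orbit_self o) ha (mem_zpowers v) e')
  have h1 : c • a ∈ A := by
    by_contra h1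
    by_cases h2 : c • a ∈ R
    · have := smul_left_cancel c ((h.mem c).1 hc _ h2)
      exact h1 (this.symm ▸ ha)
    · have := h.vF _ h1 h2
      rw [← mul_smul, ← e, mul_smul] at this
      exact mv (smul_left_cancel c this)
  obtain ⟨w, hw, ew⟩ := tr h ha h1
  have cw : Commute c w := by
    obtain ⟨i, rfl⟩ := hw
    exact (show Commute c v from e).zpow_right i
  have it : ∀ n : ℕ, c ^ n • a = w ^ n • a := by
    intro n
    induction n with
    | zero => simp
    | succ n ih =>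
      rw [pow_succ', mul_smul, ih, ← mul_smul, (cw.pow_right n).eq, mul_smul, ← ew, ← mul_smul,
        ← pow_succ]
  have c1 : c ^ Nat.card J = 1 := by
    have := pow_card_eq_one' (x := (⟨c, hc⟩ : J))
    exact congrArg Subtype.val this
  have w1 : w ^ Nat.card J ∈ stabilizer G a := by
    rw [mem_stabilizer_iff, ← it, c1, one_smul]
  have co : (Nat.card J).Coprime (orderOf w) :=
    Nat.Coprime.of_dvd_right (orderOf_dvd_of_pow_eq_one (pw h hw))
      ((h.pp.coprime_iff_not_dvd.2 h.cop).symm)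
  obtain ⟨m, hm⟩ := exists_pow_eq_self_of_coprime co
  rw [← ew, ← hm]
  exact pow_mem w1 m

/-- an element of `J` that fixes every point off `A` is trivial -/
theorem k0 (h : JF p v J A R) {d : G} (hd : ∀ ω : Ω, ω ∉ A → d • ω = ω) : d = 1 := by
  let K := fixingSubgroup G Aᶜ
  have mK : ∀ g : G, g ∈ K ↔ ∀ ω : Ω, ω ∉ A → g • ω = ω := fun g => mem_fixingSubgroup_iff G
  have KJ : K ≤ J := fun g hg => (h.mem g).2 fun ω hω =>
    (mK g).1 hg ω fun h' => Set.disjoint_left.1 h.dj h' hω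
  have KA : ∀ g ∈ K, ∀ a ∈ A, g • a ∈ A := by
    intro g hg a ha
    by_contra h1
    exact h1 ((smul_left_cancel g ((mK g).1 hg _ h1)).symm ▸ ha)
  refine h.fa d fun a => ?_
  by_cases ha : a ∈ A
  swap
  · exact hd a ha
  have dK : d ∈ K := (mK d).2 hd
  obtain ⟨w, hw, ew⟩ := tr h ha (KA d dK a ha)
  have it : ∀ (n : ℕ) (x : Ω), (fun x => w • x)^[n] x = w ^ n • x := by
    intro n x
    induction n with
    | zero => simp
    | succ n ih => rw [Function.iterate_succ_apply', ih, pow_succ', mul_smul]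
  obtain ⟨b, ⟨k, rfl⟩, e⟩ := fixp h.pp (fun x => w • x) (orbit K a) (Set.toFinite _) (by
    rintro _ ⟨k, rfl⟩
    have : w * k * w⁻¹ ∈ K := (mK _).2 fun ω hω => by
      have : w⁻¹ • ω ∉ A := fun h' => hω (by simpa using inv h h' hw)
      rw [mul_smul, mul_smul, (mK _).1 k.2 _ this, smul_inv_smul]
    refine ⟨⟨_, mul_mem this dK⟩, ?_⟩
    simp only [Subgroup.smul_def, mul_smul, ← ew, inv_smul_smul])
    (fun x _ => by rw [it, pw h hw, one_smul]) (by
    intro hp
    apply h.cop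
    refine (hp.trans ?_).trans (card_dvd_of_le KJ)
    rw [← index_stabilizer]
    exact index_dvd_card _)
  rw [← ew]
  exact all h ha (KA _ k.2 a ha) hw e

end J4p

open J4p

variable {G Ω : Type*} [Group G] [Finite G] [MulAction G Ω] [Finite Ω] {p q : ℕ}

theorem J4 {v : G} {J E E' : Subgroup G} {A R : Set Ω} {l l' : Ω} (h : JF p v J A R)
    (hE : EF J E A R l) (hE' : EF J E' A R l') (hl : l ≠ l') : False := by
  let K := fixingSubgroup G {ω | ω ∉ A ∧ ω ≠ l ∧ ω ≠ l'}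
  have mK : ∀ g : G, g ∈ K ↔ ∀ ω : Ω, ω ∉ A → ω ≠ l → ω ≠ l' → g • ω = ω := fun g =>
    (mem_fixingSubgroup_iff G).trans
      ⟨fun h ω a b c => h ω ⟨a, b, c⟩, fun h ω a => h ω a.1 a.2.1 a.2.2⟩
  have KJ : K ≤ J := fun g hg => (h.mem g).2 fun ω hω =>
    (mK g).1 hg ω (fun h' => Set.disjoint_left.1 h.dj h' hω) (fun e => hE.nR (e ▸ hω))
      fun e => hE'.nR (e ▸ hω)
  have EK : E ≤ K := fun e he => (mK e).2 fun ω a b _ => hE.fx e he ω a b
  have EK' : E' ≤ K := fun e he => (mK e).2 fun ω a _ b => hE'.fx e he ω a b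
  have vl := h.vF l hE.nA hE.nR
  have vl' := h.vF l' hE'.nA hE'.nR
  obtain ⟨a, ha, eA⟩ := h.cyc
  have a1 : a ∈ A := eA ▸ mem_orbit_self a
  have a2 : v • a ∈ A := inv h a1 (mem_zpowers v)
  obtain ⟨e, he, ee⟩ := hE.tr a a1
  obtain ⟨f, hf, ef⟩ := hE'.tr a a1
  have k1 : (f⁻¹ * e) • l = l' := by rw [mul_smul, ee, ← ef, inv_smul_smul]
  have k2 : f⁻¹ * e ∈ K := mul_mem (inv_mem (EK' hf)) (EK he)
  obtain ⟨c, ⟨cK, cl⟩, cv⟩ := cfix h.pp (pw h (mem_zpowers v)) {k | k ∈ K ∧ k • l = l'} (by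
    rintro k ⟨hk, e⟩
    refine ⟨(mK _).2 fun ω x y z => ?_, ?_⟩
    · rw [mul_smul, mul_smul, (mK _).1 hk _ (fun h' => x (by simpa using inv h h' (mem_zpowers v)))
        (fun h' => y (by rw [← vl, ← h', smul_inv_smul]))
        (fun h' => z (by rw [← vl', ← h', smul_inv_smul])), smul_inv_smul]
    · rw [mul_smul, mul_smul, inv_smul_eq_iff.2 vl.symm, e, vl']) (by
    intro hp
    apply h.cop
    refine (hp.trans ?_).trans (card_dvd_of_le (inf_le_left.trans KJ :
      K ⊓ stabilizer G l ≤ J))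
    have : {k | k ∈ K ∧ k • l = l'} =
        (fun x => f⁻¹ * e * x) '' ((K ⊓ stabilizer G l : Subgroup G) : Set G) := by
      ext k
      constructor
      · rintro ⟨x, y⟩
        refine ⟨(f⁻¹ * e)⁻¹ * k, ⟨K.mul_mem (K.inv_mem k2) x, ?_⟩, mul_inv_cancel_left _ _⟩
        change ((f⁻¹ * e)⁻¹ * k) • l = l
        rw [mul_smul, y, ← k1, inv_smul_smul]
      · rintro ⟨x, ⟨y, z⟩, rfl⟩
        refine ⟨mul_mem k2 y, ?_⟩
        rw [mul_smul, (show x • l = l from z), k1]
    rw [this, Set.ncard_image_of_injective _ (mul_right_injective _)]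
    rfl)
  have cA := j0 h (KJ cK) cv
  have b1 : e⁻¹ • v • a ∈ A := by
    by_contra h1
    by_cases h2 : e⁻¹ • v • a = l
    · exact ha (by rw [inv_smul_eq_iff.1 h2, ee])
    · have := hE.fx e he _ h1 h2
      rw [smul_inv_smul] at this
      exact h1 (this ▸ a2)
  obtain ⟨g, hg, eg⟩ := hE'.tr _ b1
  have gl : g • l = l := hE'.fx g hg l hE.nA hl
  have kK : e * g ∈ K := mul_mem (EK he) (EK' hg)
  have x1 : (e * g) • l = a := by rw [mul_smul, gl, ee]
  have x2 : (e * g) • l' = v • a := by rw [mul_smul, eg, smul_inv_smul]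
  have d1 : (e * g)⁻¹ * c * (e * g) = 1 := k0 h fun ω hω => by
    by_cases y : ω = l
    · rw [y, mul_smul, mul_smul, x1, cA a a1, ← x1, inv_smul_smul]
    by_cases z : ω = l'
    · rw [z, mul_smul, mul_smul, x2, cA _ a2, ← x2, inv_smul_smul]
    exact (mK _).1 (mul_mem (mul_mem (inv_mem kK) cK) kK) ω hω y z
  have c1 : c = 1 := by
    have : c = (e * g) * ((e * g)⁻¹ * c * (e * g)) * (e * g)⁻¹ := by group
    rw [this, d1]; simp
  exact hl (by rw [← cl, c1, one_smul])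

theorem J5 (hp : p.Prime) (hq : q.Prime) (q3 : 3 ≤ q) {v : G} (hv : orderOf v = p)
    {E : Subgroup G} (hn : v ∈ normalizer (E : Set G)) (hc : Nat.card E = p + 1)
    (hs : p + 1 = 2 * q) (hf : ∀ e ∈ E, e * v = v * e → e = 1) : False := by
  have key : ∀ r : ℕ, r.Prime → r ∣ Nat.card E → p ≤ {e | e ∈ E ∧ orderOf e = r}.ncard := by
    intro r hr hd
    have : Fact r.Prime := ⟨hr⟩
    obtain ⟨x, hx⟩ := exists_prime_orderOf_dvd_card' r hd
    refine Nat.le_of_dvd ((Set.ncard_pos (Set.toFinite _)).2 ⟨x, x.2, by simpa using hx⟩) ?_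
    by_contra h
    obtain ⟨c, ⟨h1, h2⟩, h3⟩ := cfix hp (hv ▸ pow_orderOf_eq_one v) _ (by
      rintro s ⟨a, b⟩
      refine ⟨(mem_normalizer_iff.1 hn s).1 a, ?_⟩
      rw [← b]
      exact (MulAut.conj v).orderOf_eq s) h
    rw [hf c h1 h3, orderOf_one] at h2
    exact hr.one_lt.ne h2
  have h2 := key 2 Nat.prime_two (by rw [hc, hs]; exact dvd_mul_right _ _)
  have h3 := key q hq (by rw [hc, hs]; exact dvd_mul_left _ _)
  have h4 := Set.ncard_union_eq (s := {e | e ∈ E ∧ orderOf e = 2})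
    (t := {e | e ∈ E ∧ orderOf e = q})
    (Set.disjoint_left.2 fun e a b => by have := a.2; have := b.2; omega)
  have h5 : ({e | e ∈ E ∧ orderOf e = 2} ∪ {e | e ∈ E ∧ orderOf e = q}).ncard ≤ Nat.card E :=
    Set.ncard_le_ncard (t := (E : Set G)) (fun e h => h.elim (·.1) (·.1))
  omega

end CF.El
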