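import Cfsg.Agent.El.A
import Cfsg.Agent.Transfer.SylowIn

/-! S3579, piece K2: all orbits of a weakly closed elementary abelian subgroup have length `p`. -/

set_option autoImplicit false

namespace CF.El

open MulAction Subgroup CF.Transfer
open scoped Pointwise

variable {G Ω : Type*} [Group G] [Finite G] [MulAction G Ω] [Finite Ω] {p q : ℕ}

omit [Finite G] in
theorem k2_fixmod {r : ℕ} (hr : r.Prime) (T : Subgroup G) (hT : IsPGroup r T) (S : Set Ω)
    (hS : ∀ t ∈ T, ∀ s ∈ S, t • s ∈ S) :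
    S.ncard ≡ {s | s ∈ S ∧ ∀ t ∈ T, t • s = s}.ncard [MOD r] := by
  haveI := Fact.mk hr
  let A : SubMulAction T Ω := ⟨S, fun t {x} hx => hS t t.2 x hx⟩
  have h := hT.card_modEq_card_fixedPoints A
  have e1 : Nat.card A = S.ncard := (Set.ncard_def S ▸ Nat.card_coe_set_eq S)
  have e2 : Nat.card (fixedPoints T A) = {s | s ∈ S ∧ ∀ t ∈ T, t • s = s}.ncard := by
    rw [← Nat.card_coe_set_eq]
    refine Nat.card_congr
      { toFun := fun a => ⟨a.1.1, a.1.2, fun t ht => congrArg Subtype.val (a.2 ⟨t, ht⟩)⟩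
        invFun := fun b => ⟨⟨b.1, b.2.1⟩, fun t => Subtype.ext (b.2.2 t t.2)⟩
        left_inv := fun _ => rfl
        right_inv := fun _ => rfl }
  rwa [e1, e2] at h

omit [Finite G] [Finite Ω] in
theorem k2_orb (H : Subgroup G) (ω : Ω) :
    (orbit H ω).ncard = (stabilizer G ω).relIndex H := by
  rw [← index_stabilizer]
  rfl

omit [Finite G] [Finite Ω] in
theorem k2_mem_orb {H : Subgroup G} {ω a : Ω} : a ∈ orbit H ω ↔ ∃ h ∈ H, h • ω = a :=
  ⟨fun ⟨h, e⟩ => ⟨h, h.2, e⟩, fun ⟨h, hh, e⟩ => ⟨⟨h, hh⟩, e⟩⟩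

omit [Finite G] in
theorem k2_fib (s : Ω → Subgroup G) (m : ℕ) (h : ∀ ω, m ≤ {a | s a = s ω}.ncard) :
    m * (Set.range s).ncard ≤ Nat.card Ω := by
  classical
  haveI := Fintype.ofFinite Ω
  have := Finset.mul_card_image_le_card (f := s) Finset.univ m (by
    intro R hR
    obtain ⟨ω, -, rfl⟩ := Finset.mem_image.1 hR
    have := h ω
    rwa [Set.ncard_eq_toFinset_card', Set.toFinset_ofPred] at this)
  rwa [Finset.card_univ, ← Nat.card_eq_fintype_card, ← Set.ncard_coe_finset, Finset.coe_image,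
    Finset.coe_univ, Set.image_univ] at this

omit [Finite G] in
theorem k2_cover (T : Subgroup G) (m : ℕ) (hi : ∀ ω : Ω, (stabilizer G ω).relIndex T = m)
    (hc : ∀ t ∈ T, ∃ ω : Ω, t • ω = ω) :
    m ≤ (Set.range fun ω : Ω => T ⊓ stabilizer G ω).ncard := by
  classical
  have hf : (Set.range fun ω : Ω => T ⊓ stabilizer G ω).Finite := Set.finite_range _
  have hcov : ⋃ R ∈ hf.toFinset, (1 : T) • ((R.subgroupOf T : Subgroup T) : Set T) = Set.univ := by
    rw [Set.eq_univ_iff_forall]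
    intro t
    obtain ⟨ω, hω⟩ := hc t t.2
    simp only [one_smul, Set.mem_iUnion]
    exact ⟨T ⊓ stabilizer G ω, hf.mem_toFinset.2 ⟨ω, rfl⟩, mem_subgroupOf.2 ⟨t.2, hω⟩⟩
  obtain ⟨R, hR, -, hle⟩ := Subgroup.exists_index_le_card_of_leftCoset_cover hcov
  obtain ⟨ω, rfl⟩ := hf.mem_toFinset.1 hR
  rw [Set.ncard_eq_toFinset_card _ hf, ← hi ω, ← inf_relIndex_left]
  exact hle

omit [Finite G] [Finite Ω] in
theorem k2_cj_stab (g : G) (ω : Ω) : cj g (stabilizer G ω) = stabilizer G (g • ω) := by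
  ext x
  rw [mem_cj, mem_stabilizer_iff, mem_stabilizer_iff, mul_smul, mul_smul, inv_smul_eq_iff]

omit [Finite Ω] in
theorem k2_card {V : Subgroup G} (horb : ∀ ω : Ω, (stabilizer G ω).relIndex V = p) (a b : Ω) :
    Nat.card (V ⊓ stabilizer G a : Subgroup G) = Nat.card (V ⊓ stabilizer G b : Subgroup G) := by
  have h : ∀ ω : Ω, Nat.card (V ⊓ stabilizer G ω : Subgroup G) * p = Nat.card V := fun ω => by
    rw [← horb ω, ← inf_relIndex_left]
    exact card_mul_relIndex inf_le_left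
  have hp : 0 < p := by
    rw [← horb a]; exact Nat.pos_of_ne_zero (relIndex_ne_zero' _ _)
  exact Nat.eq_of_mul_eq_mul_right hp ((h a).trans (h b).symm)

omit [Finite G] [Finite Ω] in
theorem k2_index (h : Hy G Ω p q) (ω : Ω) : (stabilizer G ω).index = 2 * p * q := by
  haveI := h.tr
  rw [index_stabilizer_of_transitive, h.card]

omit [Finite Ω] in
/-- step (1): the point stabilizers in `V` are conjugate under `N(V)` -/
theorem k2_conj (h : Hy G Ω p q) (P : Sylow p G) (V : Subgroup G) (hVP : V ≤ (P : Subgroup G))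
    (hV : EA p V) (horb : ∀ ω : Ω, (stabilizer G ω).relIndex V = p) {δ : Ω}
    (hδ : (stabilizer G δ).relIndex (P : Subgroup G) = p)
    (w1 : ∀ g : G, (∀ v ∈ V, g * v * g⁻¹ ∈ (P : Subgroup G)) → ∀ v ∈ V, g * v * g⁻¹ ∈ V)
    (w2 : ∀ (g : G) (ω : Ω), (∀ v ∈ V, v • ω = ω → g * v * g⁻¹ ∈ (P : Subgroup G)) →
      ∀ v ∈ V, v • ω = ω → g * v * g⁻¹ ∈ V) (ω : Ω) :
    ∃ n ∈ normalizer (V : Set G), V ⊓ stabilizer G (n • ω) = V ⊓ stabilizer G δ := by
  haveI := Fact.mk h.pp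
  haveI := h.tr
  have hVp : IsPGroup p V := P.isPGroup'.to_le hVP
  have hS : IsSylowIn p ((P : Subgroup G) ⊓ stabilizer G δ) (stabilizer G δ) := by
    refine ⟨inf_le_right, P.isPGroup'.to_le inf_le_left, fun hd => ?_⟩
    have e1 := relIndex_mul_index (inf_le_right : (P : Subgroup G) ⊓ stabilizer G δ ≤ _)
    have e2 := relIndex_mul_index (inf_le_left : (P : Subgroup G) ⊓ stabilizer G δ ≤ _)
    rw [inf_relIndex_left, hδ, ← e1, k2_index h] at e2
    obtain ⟨c, hc⟩ := hd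
    rw [hc] at e2
    refine P.not_dvd_index ⟨c * 2 * q, Nat.eq_of_mul_eq_mul_left h.pp.pos ?_⟩
    rw [e2]; ring
  obtain ⟨g0, hg0⟩ := exists_smul_eq G ω δ
  obtain ⟨k, hk, hkS⟩ := hS.exists_cj_le (isPGroup_cj (hVp.to_le
    (inf_le_left : V ⊓ stabilizer G ω ≤ V)) g0) (by
      rw [← hg0, ← k2_cj_stab]; exact cj_mono _ inf_le_right)
  rw [cj_cj] at hkS
  set g := k * g0 with hg
  have h1 : cj g (V ⊓ stabilizer G ω) ≤ V ⊓ stabilizer G δ := by
    refine le_inf (cj_le_iff_forall.2 fun x hx => ?_) (hkS.trans inf_le_right)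
    exact w2 g ω (fun v hv hvω => (hkS (conj_mem_cj ⟨hv, hvω⟩)).1) x hx.1 hx.2
  have h2 : cj g (V ⊓ stabilizer G ω) = V ⊓ stabilizer G δ :=
    eq_of_le_of_card_ge h1 (by rw [card_cj, k2_card horb δ ω])
  have hC1 : V ≤ centralizer ((V ⊓ stabilizer G δ : Subgroup G) : Set G) := fun v hv =>
    mem_centralizer_iff.2 fun a ha => hV.1 a ha.1 v hv
  have hC2 : cj g V ≤ centralizer ((V ⊓ stabilizer G δ : Subgroup G) : Set G) := by
    rw [← h2, centralizer_cj]
    exact cj_mono _ fun v hv => mem_centralizer_iff.2 fun a ha => hV.1 a ha.1 v hv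
  obtain ⟨U, hVU, hU⟩ := exists_isSylowIn_ge hVp hC1
  obtain ⟨c, hc, hcU⟩ := hU.exists_cj_le (isPGroup_cj hVp g) hC2
  obtain ⟨m, -, hm⟩ := (isSylowIn_top P).exists_cj_le hU.isPGroup le_top
  have hN : ∀ x : G, cj x V ≤ (P : Subgroup G) → x ∈ normalizer (V : Set G) := fun x hx =>
    mem_normalizer_of_cj_le (cj_le_iff_forall.2 (w1 x (cj_le_iff_forall.1 hx)))
  have hm1 := hN m ((cj_mono m hVU).trans hm)
  have hm2 := hN (m * (c * g)) (by
    rw [← cj_cj, ← cj_cj]; exact (cj_mono m hcU).trans hm)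
  have hn : c * g ∈ normalizer (V : Set G) := by
    have := mul_mem (inv_mem hm1) hm2
    rwa [inv_mul_cancel_left] at this
  refine ⟨c * g, hn, ?_⟩
  rw [← k2_cj_stab, ← cj_eq_of_mem_centralizer hc, ← h2, cj_cj, cj_inf,
    cj_eq_of_mem_normalizer hn]

omit [Finite G] [Finite Ω] in
theorem k2_sN {V : Subgroup G} {n : G} (hn : n ∈ normalizer (V : Set G)) (a : Ω) :
    V ⊓ stabilizer G (n • a) = cj n (V ⊓ stabilizer G a) := by
  rw [cj_inf, cj_eq_of_mem_normalizer hn, k2_cj_stab]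

omit [Finite G] [Finite Ω] in
theorem k2_sV {V : Subgroup G} (hV : EA p V) {v : G} (hv : v ∈ V) (a : Ω) :
    V ⊓ stabilizer G (v • a) = V ⊓ stabilizer G a := by
  rw [k2_sN (le_normalizer hv)]
  exact cj_eq_of_mem_centralizer (mem_centralizer_iff.2 fun b hb => hV.1 b hb.1 v hv)

omit [Finite Ω] in
theorem k2_fixpt (h : Hy G Ω p q) {r : ℕ} (hr : r.Prime) {g : G} (hg : g ^ r = 1) :
    ∃ ω : Ω, g • ω = ω := by
  haveI := Fact.mk hr
  by_cases h1 : g = 1
  · have : Nonempty Ω := by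
      refine (Nat.card_pos_iff.1 ?_).1
      rw [h.card]
      exact Nat.mul_pos (Nat.mul_pos two_pos h.pp.pos) h.pq.pos
    obtain ⟨ω⟩ := this
    exact ⟨ω, by rw [h1, one_smul]⟩
  · exact h.el g (by rw [orderOf_eq_prime hg h1]; exact hr)

/-- step (2) -/
theorem k2_block (h : Hy G Ω p q) {V : Subgroup G} (hVp : IsPGroup p V)
    (hV : EA p V) (horb : ∀ ω : Ω, (stabilizer G ω).relIndex V = p) {δ : Ω}
    (hc : ∀ ω : Ω, ∃ n ∈ normalizer (V : Set G),
      V ⊓ stabilizer G (n • ω) = V ⊓ stabilizer G δ) :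
    (∀ a b : Ω, V ⊓ stabilizer G a = V ⊓ stabilizer G b → ∃ v ∈ V, v • b = a) ∧
      (Set.range fun ω : Ω => V ⊓ stabilizer G ω).ncard ≤ 2 * q ∧ p ≤ 2 * q := by
  set s : Ω → Subgroup G := fun ω => V ⊓ stabilizer G ω with hs
  have hcov : p ≤ (Set.range s).ncard :=
    k2_cover V p horb fun t ht => k2_fixpt h h.pp (hV.2 t ht)
  have hsub : ∀ ω, orbit V ω ⊆ {a | s a = s ω} := fun ω a ha => by
    obtain ⟨v, hv, rfl⟩ := k2_mem_orb.1 ha
    exact k2_sV hV hv ω
  have hge : ∀ ω, p ≤ {a | s a = s ω}.ncard := fun ω => by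
    rw [← horb ω, ← k2_orb]
    exact Set.ncard_le_ncard (hsub ω)
  have hr : (Set.range s).ncard ≤ 2 * q := by
    have := k2_fib s p hge
    rw [h.card] at this
    exact Nat.le_of_mul_le_mul_left (by linarith) h.pp.pos
  have heq : ∀ ω, {a | s a = s ω}.ncard = {a | s a = s δ}.ncard := fun ω => by
    obtain ⟨n, hn, e⟩ := hc ω
    rw [← Set.ncard_image_of_injective _ (MulAction.injective n)]
    congr 1
    ext a
    constructor
    · rintro ⟨b, hb, rfl⟩
      show V ⊓ stabilizer G (n • b) = V ⊓ stabilizer G δ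
      rw [← e, k2_sN hn, k2_sN hn]
      exact congrArg _ hb
    · intro ha
      refine ⟨n⁻¹ • a, ?_, smul_inv_smul n a⟩
      apply cj_injective n
      rw [← k2_sN hn, ← k2_sN hn, smul_inv_smul, e]
      exact ha
  have hdvd : p ∣ {a | s a = s δ}.ncard := by
    have := k2_fixmod h.pp V hVp {a | s a = s δ} fun t ht a ha => (k2_sV hV ht a).trans ha
    rw [show {a | a ∈ {a | s a = s δ} ∧ ∀ t ∈ V, t • a = a} = ∅ from ?_, Set.ncard_empty] at this
    · exact (Nat.modEq_zero_iff_dvd).1 this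
    · rw [Set.eq_empty_iff_forall_notMem]
      rintro a ⟨-, ha⟩
      have h1 : (stabilizer G a).relIndex V = 1 := relIndex_eq_one.2 ha
      exact h.pp.ne_one ((horb a).symm.trans h1)
  have hle : {a | s a = s δ}.ncard ≤ p := by
    by_contra hlt
    obtain ⟨c, hc⟩ := hdvd
    have h2 : 2 * p ≤ {a | s a = s δ}.ncard := by
      rw [hc] at hlt ⊢
      rcases c with _ | _ | c
      · simp at hlt
      · simp at hlt
      · nlinarith
    have := k2_fib s (2 * p) fun ω => by rw [heq]; exact h2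
    rw [h.card] at this
    have h3 := Nat.le_of_mul_le_mul_left this (Nat.mul_pos two_pos h.pp.pos)
    have := h.lt
    omega
  refine ⟨fun a b hab => ?_, hr, hcov.trans hr⟩
  have := Set.eq_of_subset_of_ncard_le (hsub b) (by rw [heq, k2_orb, horb]; exact hle)
  exact k2_mem_orb.1 (this ▸ hab)

/-- a `q`-element of `N(V)` that stabilizes a block fixes it pointwise -/
theorem k2_fixb (h : Hy G Ω p q) {V : Subgroup G} (hV : EA p V)
    (horb : ∀ ω : Ω, (stabilizer G ω).relIndex V = p) (h2 : p ≤ 2 * q) {y : G}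
    (hy : y ∈ normalizer (V : Set G)) (hq : IsPGroup q (zpowers y)) {ω : Ω}
    (hω : ∃ v ∈ V, v • ω = y • ω) : y • ω = ω := by
  obtain ⟨u, hu, hyu⟩ := hω
  have hinv : ∀ a ∈ orbit V ω, y • a ∈ orbit V ω := fun a ha => by
    obtain ⟨v, hv, rfl⟩ := k2_mem_orb.1 ha
    refine k2_mem_orb.2 ⟨y * v * y⁻¹ * u, mul_mem (conj_mem_of_mem_normalizer hy hv) hu, ?_⟩
    rw [mul_smul, hyu, mul_smul, inv_smul_smul, mul_smul]
  have hinv' : ∀ t ∈ zpowers y, ∀ a ∈ orbit V ω, t • a ∈ orbit V ω := fun t ht a ha => by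
    obtain ⟨k, rfl⟩ := (mem_powers_iff_mem_zpowers.2 ht)
    induction k with
    | zero => simpa using ha
    | succ k ih =>
      show y ^ (k + 1) • a ∈ _
      rw [pow_succ', mul_smul]
      exact hinv _ (ih (pow_mem (mem_zpowers y) k))
  have hm := k2_fixmod h.pq (zpowers y) hq (orbit V ω) hinv'
  rw [k2_orb, horb] at hm
  have hne : {s | s ∈ orbit V ω ∧ ∀ t ∈ zpowers y, t • s = s}.Nonempty := by
    rw [Set.nonempty_iff_ne_empty]
    intro he
    rw [he, Set.ncard_empty, Nat.modEq_zero_iff_dvd, Nat.prime_dvd_prime_iff_eq h.pq h.pp] at hm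
    exact h.lt.ne hm
  obtain ⟨a, ha, hya⟩ := hne
  have hya' : y • a = a := hya y (mem_zpowers y)
  obtain ⟨v0, hv0, hva⟩ := k2_mem_orb.1 ha
  let S : Subgroup G :=
    { carrier := {v | v ∈ V ∧ y • v • a = v • a}
      one_mem' := ⟨one_mem _, by simpa using hya'⟩
      mul_mem' := by
        rintro v w ⟨hv, hv'⟩ ⟨hw, hw'⟩
        refine ⟨mul_mem hv hw, ?_⟩
        have hc := conj_mem_of_mem_normalizer hy hv
        have e1 : (y * v * y⁻¹) • a = v • a := by
          rw [mul_smul, inv_smul_eq_iff.2 hya'.symm, mul_smul, hv']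
        have e2 : y • (v * w) • a = (y * v * y⁻¹) • y • w • a := by
          simp only [mul_smul, inv_smul_smul]
        rw [e2, hw', ← mul_smul, hV.1 _ hc w hw, mul_smul, e1, ← mul_smul, hV.1 w hw v hv]
      inv_mem' := by
        rintro v ⟨hv, hv'⟩
        refine ⟨inv_mem hv, ?_⟩
        have hc := conj_mem_of_mem_normalizer hy (inv_mem hv)
        have e1 : (y * v⁻¹ * y⁻¹) • v • a = a := by
          rw [mul_smul, inv_smul_eq_iff.2 hv'.symm, mul_smul, inv_smul_smul, hya']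
        have e2 : y • v⁻¹ • a = (y * v⁻¹ * y⁻¹) • a := by
          rw [mul_smul, inv_smul_eq_iff.2 hya'.symm, mul_smul]
        rw [e2, eq_inv_smul_iff, ← mul_smul, hV.1 v hv _ hc, mul_smul, e1] }
  have hS1 : V ⊓ stabilizer G a ≤ S := fun v hv => ⟨hv.1, by
    rw [mem_stabilizer_iff.1 hv.2, hya']⟩
  have hS2 : S ≤ V := fun v hv => hv.1
  have hmul := relIndex_mul_relIndex _ _ _ hS1 hS2
  rw [inf_relIndex_left V, horb] at hmul
  rcases (Nat.dvd_prime h.pp).1 (Dvd.intro _ hmul) with h1 | h1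
  · exfalso
    have hle : S ≤ V ⊓ stabilizer G a := relIndex_eq_one.1 h1
    have he : {s | s ∈ orbit V ω ∧ ∀ t ∈ zpowers y, t • s = s} = {a} := by
      refine Set.eq_singleton_iff_unique_mem.2 ⟨⟨ha, hya⟩, ?_⟩
      rintro b ⟨hb, hyb⟩
      obtain ⟨w, hw, rfl⟩ := k2_mem_orb.1 hb
      have e : (w * v0⁻¹) • a = w • ω := by rw [← hva, mul_smul, inv_smul_smul]
      have : w * v0⁻¹ ∈ S := ⟨mul_mem hw (inv_mem hv0), by rw [e]; exact hyb y (mem_zpowers y)⟩
      rw [← e]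
      exact (hle this).2
    rw [he, Set.ncard_singleton] at hm
    obtain ⟨c, hc⟩ := (Nat.modEq_iff_dvd' h.pp.one_le).1 hm.symm
    have := h.lt
    have := h.q3
    have ho1 := h.pp.eq_two_or_odd
    have ho2 := h.pq.eq_two_or_odd
    rcases c with _ | _ | c
    · omega
    · omega
    · have : q * 2 ≤ q * (c + 1 + 1) := Nat.mul_le_mul_left _ (by omega)
      omega
  · rw [h1] at hmul
    have h3 : S.relIndex V = 1 := Nat.eq_of_mul_eq_mul_left h.pp.pos (by rw [hmul, mul_one])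
    have := (relIndex_eq_one.1 h3 (inv_mem hv0)).2
    rwa [← hva, inv_smul_smul] at this

theorem K2 (h : Hy G Ω p q) (P : Sylow p G) (V : Subgroup G) (hVP : V ≤ (P : Subgroup G))
    (hV : EA p V) (horb : ∀ ω : Ω, (stabilizer G ω).relIndex V = p)
    (hδ : ∃ δ : Ω, (stabilizer G δ).relIndex (P : Subgroup G) = p)
    (w1 : ∀ g : G, (∀ v ∈ V, g * v * g⁻¹ ∈ (P : Subgroup G)) → ∀ v ∈ V, g * v * g⁻¹ ∈ V)
    (w2 : ∀ (g : G) (ω : Ω), (∀ v ∈ V, v • ω = ω → g * v * g⁻¹ ∈ (P : Subgroup G)) →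
      ∀ v ∈ V, v • ω = ω → g * v * g⁻¹ ∈ V) : False := by
  haveI := Fact.mk h.pp
  haveI := Fact.mk h.pq
  obtain ⟨δ, hδ⟩ := hδ
  have hVp : IsPGroup p V := P.isPGroup'.to_le hVP
  have hc := k2_conj h P V hVP hV horb hδ w1 w2
  obtain ⟨hb, hr, h2⟩ := k2_block h hVp hV horb hc
  set N := normalizer (V : Set G) with hN
  have htr : ∀ ω : Ω, ∃ n ∈ N, n • ω = δ := fun ω => by
    obtain ⟨n, hn, e⟩ := hc ω
    obtain ⟨v, hv, e'⟩ := hb _ _ e
    exact ⟨v⁻¹ * n, mul_mem (inv_mem (le_normalizer hv)) hn, by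
      rw [mul_smul, ← e', inv_smul_smul]⟩
  have hNi : ∀ ω : Ω, (stabilizer G ω).relIndex N = 2 * p * q := fun ω => by
    rw [← k2_orb, ← h.card, ← Set.ncard_univ]
    congr 1
    rw [Set.eq_univ_iff_forall]
    intro a
    obtain ⟨n, hn, e⟩ := htr ω
    obtain ⟨m, hm, e'⟩ := htr a
    exact k2_mem_orb.2 ⟨m⁻¹ * n, mul_mem (inv_mem hm) hn, by rw [mul_smul, e, inv_smul_eq_iff, e']⟩
  obtain ⟨Q, hQ⟩ := exists_isSylowIn q N
  have hnf : ∀ ω : Ω, ¬ Q ≤ stabilizer G ω := fun ω hle => by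
    refine hQ.not_dvd (Dvd.dvd.trans ?_ (relIndex_dvd_of_le_left N hle))
    rw [hNi]; exact Dvd.intro_left _ rfl
  have hfb : ∀ y ∈ Q, ∀ ω : Ω, (∃ v ∈ V, v • ω = y • ω) → y • ω = ω := fun y hy ω hω =>
    k2_fixb h hV horb h2 (hQ.le hy) (hQ.isPGroup.to_le (by rwa [zpowers_le])) hω
  have hQi : ∀ ω : Ω, (stabilizer G ω).relIndex Q = q := fun ω => by
    have hle : (stabilizer G ω).relIndex Q ≤ 2 * q := by
      rw [← k2_orb]
      refine le_trans (Set.ncard_le_ncard_of_injOn (fun a : Ω => V ⊓ stabilizer G a)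
        (fun a _ => Set.mem_range_self a) ?_ (Set.finite_range _)) hr
      intro a ha b hb' e
      obtain ⟨x, hx, rfl⟩ := k2_mem_orb.1 ha
      obtain ⟨z, hz, rfl⟩ := k2_mem_orb.1 hb'
      obtain ⟨v, hv, e'⟩ := hb _ _ e
      have := hfb (x * z⁻¹) (mul_mem hx (inv_mem hz)) (z • ω)
        ⟨v, hv, by rw [e', mul_smul, inv_smul_smul]⟩
      rwa [mul_smul, inv_smul_smul] at this
    obtain ⟨k, hk⟩ := isPGroup_relIndex hQ.isPGroup (stabilizer G ω)
    rcases k with _ | _ | k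
    · exact absurd (relIndex_eq_one.1 (by simpa using hk)) (hnf ω)
    · simpa using hk
    · exfalso
      rw [hk] at hle
      have h3 := h.q3
      have h4 : 1 ≤ q ^ k := Nat.one_le_pow _ _ h.pq.pos
      rw [pow_succ, pow_succ] at hle
      have : 1 * 3 * q ≤ q ^ k * q * q := Nat.mul_le_mul_right _ (Nat.mul_le_mul h4 h3)
      omega
  have hnor : ∀ ω : Ω, ((stabilizer G ω).subgroupOf Q).Normal := fun ω => by
    apply normal_of_index_eq_minFac_card
    obtain ⟨k, hk⟩ := hQ.isPGroup.exists_card_eq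
    have hi : ((stabilizer G ω).subgroupOf Q).index = q := hQi ω
    rcases k with _ | k
    · exact absurd (by rw [eq_bot_of_card_eq Q (by simpa using hk)]; exact bot_le) (hnf ω)
    · rw [hi, hk, h.pq.pow_minFac (by omega)]
  set t : Ω → Subgroup G := fun ω => Q ⊓ stabilizer G ω with ht
  have tV : ∀ v ∈ V, ∀ a : Ω, t (v • a) = t a := by
    have : ∀ v ∈ V, ∀ a : Ω, t a ≤ t (v • a) := fun v hv a y hy => by
      refine ⟨hy.1, hfb y hy.1 _ ⟨y * v * y⁻¹ * v⁻¹, mul_mem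
        (conj_mem_of_mem_normalizer (hQ.le hy.1) hv) (inv_mem hv), ?_⟩⟩
      rw [mul_smul, inv_smul_smul, mul_smul, inv_smul_eq_iff.2 (mem_stabilizer_iff.1 hy.2).symm,
        mul_smul]
    intro v hv a
    refine le_antisymm ?_ (this v hv a)
    have := this v⁻¹ (inv_mem hv) (v • a)
    rwa [inv_smul_smul] at this
  have tQ : ∀ x ∈ Q, ∀ a : Ω, t (x • a) = t a := by
    have : ∀ x ∈ Q, ∀ a : Ω, t a ≤ t (x • a) := fun x hx a y hy => by
      refine ⟨hy.1, ?_⟩
      have := (hnor a).conj_mem ⟨y, hy.1⟩ (mem_subgroupOf.2 hy.2) (⟨x, hx⟩ : Q)⁻¹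
      have h5 : (x⁻¹ * y * x⁻¹⁻¹) • a = a := mem_subgroupOf.1 this
      rw [inv_inv, mul_smul, mul_smul, inv_smul_eq_iff] at h5
      exact h5
    intro x hx a
    refine le_antisymm ?_ (this x hx a)
    have := this x⁻¹ (inv_mem hx) (x • a)
    rwa [inv_smul_smul] at this
  have hfib : ∀ ω : Ω, p * q ≤ {a | t a = t ω}.ncard := fun ω => by
    have key : ∀ {r : ℕ} (hr : r.Prime) (T : Subgroup G), IsPGroup r T →
        (∀ x ∈ T, ∀ a : Ω, t (x • a) = t a) → (∀ a : Ω, ¬ T ≤ stabilizer G a) →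
        r ∣ {a | t a = t ω}.ncard := fun hr T hT h1 h3 => by
      have := k2_fixmod hr T hT {a | t a = t ω} fun x hx a ha => (h1 x hx a).trans ha
      rw [show {a | a ∈ {a | t a = t ω} ∧ ∀ x ∈ T, x • a = a} = ∅ from ?_, Set.ncard_empty] at this
      · exact (Nat.modEq_zero_iff_dvd).1 this
      · rw [Set.eq_empty_iff_forall_notMem]
        rintro a ⟨-, ha⟩
        exact h3 a ha
    have d1 := key h.pp V hVp tV fun a hle =>
      h.pp.ne_one ((horb a).symm.trans (relIndex_eq_one.2 hle))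
    have d2 := key h.pq Q hQ.isPGroup tQ hnf
    refine Nat.le_of_dvd ?_ (((Nat.coprime_primes h.pp h.pq).2 h.lt.ne').mul_dvd_of_dvd_of_dvd d1 d2)
    exact (Set.ncard_pos).2 ⟨ω, rfl⟩
  have h6 := k2_fib t (p * q) hfib
  rw [h.card] at h6
  have h7 : (Set.range t).ncard ≤ 2 :=
    Nat.le_of_mul_le_mul_left (by linarith) (Nat.mul_pos h.pp.pos h.pq.pos)
  have h8 : q ≤ (Set.range t).ncard := k2_cover Q q hQi fun y hy => by
    refine k2_fixpt h h.pq (h.fa _ fun ω => ?_)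
    haveI := hnor ω
    have := ((stabilizer G ω).subgroupOf Q).pow_index_mem ⟨y, hy⟩
    rw [show ((stabilizer G ω).subgroupOf Q).index = q from hQi ω] at this
    exact mem_subgroupOf.1 this
  have := h.q3
  omega

end CF.El
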