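import Cfsg.Agent.El.B

/-! Transitive groups of degree `2 p q` (S3579): the reduction to the three cases. -/

set_option autoImplicit false
set_option linter.unusedSectionVars false

namespace CF.El

open MulAction Subgroup

variable {G Ω : Type*} [Group G] [Finite G] [MulAction G Ω] [Finite Ω] {p q : ℕ}

/-- a subgroup `H` of a `p`-group all of whose orbits have length dividing `p` is elementary -/
theorem ea_of_orb (h : Hy G Ω p q) {H : Subgroup G} (hH : IsPGroup p H)
    (ho : ∀ ω : Ω, (stabilizer G ω).relIndex H ∣ p) : EA p H := by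
  have := Fact.mk h.pp
  have key : ∀ ω : Ω, (∀ a ∈ H, ∀ b ∈ H, (a * b * a⁻¹ * b⁻¹) • ω = ω) ∧ ∀ a ∈ H, a ^ p • ω = ω := by
    intro ω
    rcases (Nat.dvd_prime h.pp).1 (ho ω) with h1 | h1
    · have h2 := relIndex_eq_one.1 h1
      exact ⟨fun a ha b hb => h2 (mul_mem (mul_mem (mul_mem ha hb) (inv_mem ha)) (inv_mem hb)),
        fun a ha => h2 (pow_mem ha p)⟩
    · have h2 : H ≤ normalizer ((stabilizer G ω ⊓ H : Subgroup G) : Set G) :=
        le_norm h.pp hH inf_le_right (by rw [inf_relIndex_right, h1])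
      have h3 : ((stabilizer G ω ⊓ H).subgroupOf H).Normal :=
        (normal_subgroupOf_iff_le_normalizer inf_le_right).2 h2
      have h4 : Nat.card (H ⧸ (stabilizer G ω ⊓ H).subgroupOf H) = p := by
        rw [← index_eq_card, ← relIndex, inf_relIndex_right, h1]
      have h5 : IsCyclic (H ⧸ (stabilizer G ω ⊓ H).subgroupOf H) := isCyclic_of_prime_card h4
      constructor
      · intro a ha b hb
        have h6 : (QuotientGroup.mk (⟨a, ha⟩ * ⟨b, hb⟩ * ⟨a, ha⟩⁻¹ * ⟨b, hb⟩⁻¹ : H) :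
            H ⧸ (stabilizer G ω ⊓ H).subgroupOf H) = 1 := by
          simp only [QuotientGroup.mk_mul, QuotientGroup.mk_inv]
          rw [mul_comm' (QuotientGroup.mk (⟨a, ha⟩ : H) : H ⧸ (stabilizer G ω ⊓ H).subgroupOf H)]
          group
        exact (mem_subgroupOf.1 ((QuotientGroup.eq_one_iff _).1 h6)).1
      · intro a ha
        have h6 : (QuotientGroup.mk (⟨a, ha⟩ ^ p : H) :
            H ⧸ (stabilizer G ω ⊓ H).subgroupOf H) = 1 := by
          rw [QuotientGroup.mk_pow, ← h4, pow_card_eq_one']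
        exact (mem_subgroupOf.1 ((QuotientGroup.eq_one_iff _).1 h6)).1
  refine ⟨fun a ha b hb => ?_, fun a ha => h.fa _ fun ω => (key ω).2 a ha⟩
  have := h.fa _ fun ω => (key ω).1 a ha b hb
  calc a * b = a * b * a⁻¹ * b⁻¹ * (b * a) := by group
    _ = b * a := by rw [this, one_mul]

/-- the orbits of a Sylow `p`-subgroup have length `p` or `p ^ 2` -/
theorem Hy.orb (h : Hy G Ω p q) (P : Sylow p G) (ω : Ω) :
    (stabilizer G ω).relIndex (P : Subgroup G) = p ∨
      (stabilizer G ω).relIndex (P : Subgroup G) = p ^ 2 := by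
  have := Fact.mk h.pp
  obtain ⟨n, hn⟩ := P.2.index ((stabilizer G ω).subgroupOf P)
  change (stabilizer G ω).relIndex (P : Subgroup G) = _ at hn
  have h1 : n ≠ 0 := by
    rintro rfl
    have h2 : (P : Subgroup G) ≤ stabilizer G ω := relIndex_eq_one.1 (by simpa using hn)
    apply P.not_dvd_index
    refine Dvd.dvd.trans ?_ (index_dvd_of_le h2)
    rw [h.index]; exact ⟨2 * q, by ring⟩
  have h2 : p ^ n ≤ 2 * p * q := by
    rw [← hn, ← ncard_orbit, ← h.card, ← Set.ncard_univ]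
    exact Set.ncard_le_ncard (Set.subset_univ _)
  have h3 : n < 3 := by
    by_contra h3
    have h4 : p ^ 3 ≤ p ^ n := Nat.pow_le_pow_right h.pp.pos (by omega)
    have := h.lt; have := h.p5
    have : 2 * p * q < p ^ 3 := by
      calc 2 * p * q < 2 * p * p := by nlinarith
        _ ≤ p * p * p := by nlinarith
        _ = p ^ 3 := by ring
    omega
  rw [hn]
  interval_cases n <;> simp_all

/-- there is at most one long orbit -/
theorem Hy.short (h : Hy G Ω p q) (P : Sylow p G) {γ ω : Ω}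
    (hγ : (stabilizer G γ).relIndex (P : Subgroup G) = p ^ 2)
    (hω : ω ∉ orbit (P : Subgroup G) γ) : (stabilizer G ω).relIndex (P : Subgroup G) = p := by
  refine (h.orb P ω).resolve_right fun h2 => ?_
  have h3 := (h.lt2 ((ncard_orbit _ _).trans hγ)).1
  have h4 : (orbit (P : Subgroup G) ω).ncard ≤ (orbit (P : Subgroup G) γ)ᶜ.ncard := by
    refine Set.ncard_le_ncard fun a ha hb => hω ?_
    rw [← orbit_eq_iff.2 hb, orbit_eq_iff.2 ha]; exact mem_orbit_self ω
  rw [ncard_orbit, h2] at h4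
  have := h.lt; have := h.pp.pos
  nlinarith

omit [MulAction G Ω] [Finite Ω] in
theorem card_mul_relIndex {H K : Subgroup G} (h : H ≤ K) :
    Nat.card H * H.relIndex K = Nat.card K := by
  rw [← card_mul_index (H.subgroupOf K), relIndex, Nat.card_congr (subgroupOfEquivOfLe h).toEquiv]

omit [MulAction G Ω] [Finite Ω] in
theorem exists_mid (hp : p.Prime) {U P : Subgroup G} (hP : IsPGroup p P) (hU : U ≤ P)
    (hi : U.relIndex P = p ^ 2) :
    ∃ V : Subgroup G, U ≤ V ∧ V ≤ P ∧ U.relIndex V = p ∧ V.relIndex P = p := by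
  have := Fact.mk hp
  obtain ⟨n, hn⟩ := (hP.to_le hU).exists_card_eq
  have h1 := card_mul_relIndex hU
  rw [hn, hi] at h1
  have h2 : Nat.card (U.subgroupOf P) = p ^ n := by
    rw [Nat.card_congr (subgroupOfEquivOfLe hU).toEquiv, hn]
  obtain ⟨K, hK, hUK⟩ := Sylow.exists_subgroup_card_pow_succ (G := P) (n := n)
    (by rw [← h1]; exact ⟨p, by ring⟩) h2
  have h3 : U ≤ K.map P.subtype := fun u hu => ⟨⟨u, hU hu⟩, hUK hu, rfl⟩
  have h4 : K.map P.subtype ≤ P := map_subtype_le K
  have h5 : Nat.card (K.map P.subtype) = p ^ (n + 1) := by rw [card_subtype, hK]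
  refine ⟨_, h3, h4, ?_, ?_⟩
  · have := card_mul_relIndex h3
    rw [hn, h5, pow_succ] at this
    exact Nat.eq_of_mul_eq_mul_left (pow_pos hp.pos n) this
  · have := card_mul_relIndex h4
    rw [← h1, h5, pow_two, ← mul_assoc, ← pow_succ] at this
    exact Nat.eq_of_mul_eq_mul_left (pow_pos hp.pos _) this

/-- Case B: the long orbit and the subgroup `V` of index `p` -/
structure B1 (G Ω : Type*) [Group G] [MulAction G Ω] (p q : ℕ) (P : Sylow p G)
    (V : Subgroup G) (γ : Ω) : Prop extends Hy G Ω p q where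
  VP : V ≤ (P : Subgroup G)
  iV : V.relIndex (P : Subgroup G) = p
  iγ : (stabilizer G γ).relIndex (P : Subgroup G) = p ^ 2
  UV : stabilizer G γ ⊓ (P : Subgroup G) ≤ V
  iU : (stabilizer G γ).relIndex V = p

theorem Hy.exB1 (h : Hy G Ω p q) (P : Sylow p G) {γ : Ω}
    (hγ : (stabilizer G γ).relIndex (P : Subgroup G) = p ^ 2) : ∃ V, B1 G Ω p q P V γ := by
  obtain ⟨V, h1, h2, h3, h4⟩ := exists_mid h.pp P.2 (U := stabilizer G γ ⊓ (P : Subgroup G))
    inf_le_right (by rw [inf_relIndex_right, hγ])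
  refine ⟨V, h, h2, h4, hγ, h1, ?_⟩
  rw [← inf_relIndex_right, ← h3]
  congr 1
  exact le_antisymm (inf_le_inf_left _ h2) (le_inf inf_le_left h1)

section
variable {P : Sylow p G} {V : Subgroup G} {γ : Ω}

theorem B1.nrm (h : B1 G Ω p q P V γ) : (P : Subgroup G) ≤ normalizer (V : Set G) :=
  le_norm h.pp P.2 h.VP h.iV

theorem B1.iV' (h : B1 G Ω p q P V γ) {ω : Ω} (hω : ω ∈ orbit (P : Subgroup G) γ) :
    (stabilizer G ω).relIndex V = p := by
  obtain ⟨y, rfl⟩ := hω
  change (stabilizer G ((y : G) • γ)).relIndex V = p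
  rw [relIndex_smul (h.nrm y.2), h.iU]

theorem B1.dvd (h : B1 G Ω p q P V γ) (ω : Ω) : (stabilizer G ω).relIndex V ∣ p := by
  have := Fact.mk h.pp
  by_cases hω : ω ∈ orbit (P : Subgroup G) γ
  · rw [h.iV' hω]
  · have h1 := h.toHy.short P h.iγ hω
    have h2 := relIndex_le_of_le_right (H := stabilizer G ω) h.VP (by rw [h1]; exact h.pp.ne_zero)
    obtain ⟨n, hn⟩ := (P.2.to_le h.VP).index ((stabilizer G ω).subgroupOf V)
    change (stabilizer G ω).relIndex V = _ at hn
    rw [h1, hn] at h2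
    rw [hn]
    have h3 : n ≤ 1 := (Nat.pow_le_pow_iff_right h.pp.one_lt).1 (by simpa using h2)
    simpa using pow_dvd_pow p h3

theorem B1.ea (h : B1 G Ω p q P V γ) : EA p V := ea_of_orb h.toHy (P.2.to_le h.VP) h.dvd

theorem B1.fpf (h : B1 G Ω p q P V γ) {x : G} (hx : x ∈ (P : Subgroup G)) (hV : x ∉ V) {ω : Ω}
    (hω : ω ∈ orbit (P : Subgroup G) γ) : x • ω ≠ ω := by
  obtain ⟨y, rfl⟩ := hω
  intro e
  change x • (y : G) • γ = (y : G) • γ at e
  have h0 : (y : G)⁻¹ * x * y ∈ (P : Subgroup G) := mul_mem (mul_mem (inv_mem y.2) hx) y.2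
  have h1 : (y : G)⁻¹ * x * y ∈ V := h.UV ⟨by simp [mul_smul, e], h0⟩
  exact hV (by simpa [mul_assoc] using (mem_normalizer_iff.1 (h.nrm y.2) _).1 h1)

/-- `P` does not have exponent `p` -/
theorem B1.exp (h : B1 G Ω p q P V γ) : ¬ ∀ y ∈ (P : Subgroup G), y ^ p = 1 := by
  classical
  intro he
  have := Fact.mk h.pp
  have := Fintype.ofFinite G
  have := Fintype.ofFinite Ω
  have key := Finset.card_mul_le_card_mul (fun (y : G) (ω : Ω) => y • ω = ω)
    (s := Finset.univ.filter fun y => y ∈ (P : Subgroup G) ∧ y ∉ V)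
    (t := Finset.univ.filter fun ω => ω ∉ orbit (P : Subgroup G) γ) (m := p) (n := Nat.card V)
    (fun y hy => by
      obtain ⟨hy, hV⟩ := (Finset.mem_filter.1 hy).2
      have h1 : orderOf y = p := orderOf_eq_prime (he y hy) (fun e => hV (e ▸ one_mem V))
      obtain ⟨δ, hδ⟩ := h.el y (h1 ▸ h.pp)
      have h2 : δ ∉ orbit (P : Subgroup G) γ := fun hh => h.fpf hy hV hh hδ
      have h3 := h.toHy.short P h.iγ h2
      have h4 : (P : Subgroup G) ≤ normalizer ((stabilizer G δ ⊓ (P : Subgroup G) :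
          Subgroup G) : Set G) :=
        le_norm h.pp P.2 inf_le_right (by rw [inf_relIndex_right, h3])
      rw [← ncard_orbit, Set.ncard_eq_toFinset_card'] at h3
      refine h3.symm.trans_le (Finset.card_le_card fun a ha => ?_)
      have ha' : a ∈ orbit (P : Subgroup G) δ := by simpa using ha
      simp only [Finset.mem_bipartiteAbove, Finset.mem_filter, Finset.mem_univ, true_and]
      refine ⟨fun hb => h2 ?_, ?_⟩
      · rw [← orbit_eq_iff.2 hb, orbit_eq_iff.2 ha']; exact mem_orbit_self δ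
      · obtain ⟨z, rfl⟩ := ha'
        have h5 := ((mem_normalizer_iff.1 (inv_mem (h4 z.2)) y).1 ⟨hδ, hy⟩).1
        change ((z : G)⁻¹ * y * (z : G)⁻¹⁻¹) • δ = δ at h5
        change y • (z : G) • δ = (z : G) • δ
        rw [inv_inv, mul_smul, mul_smul, inv_smul_eq_iff] at h5
        exact h5)
    (fun δ hδ => by
      have h2 := (Finset.mem_filter.1 hδ).2
      have h3 := h.toHy.short P h.iγ h2
      have h4 := card_mul_relIndex (H := stabilizer G δ ⊓ (P : Subgroup G)) inf_le_right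
      rw [inf_relIndex_right, h3, ← card_mul_relIndex h.VP, h.iV] at h4
      rw [← Nat.eq_of_mul_eq_mul_right h.pp.pos h4, Nat.card_eq_fintype_card, Fintype.card_subtype]
      refine Finset.card_le_card fun a ha => ?_
      simp only [Finset.mem_bipartiteBelow, Finset.mem_filter, Finset.mem_univ, true_and] at ha ⊢
      exact ⟨ha.2, ha.1.1⟩)
  have h1 : (Finset.univ.filter fun y => y ∈ (P : Subgroup G) ∧ y ∉ V).card + Nat.card V =
      Nat.card V * p := by
    have h0 := card_mul_relIndex h.VP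
    rw [h.iV] at h0
    rw [h0, Nat.card_eq_fintype_card, Fintype.card_subtype,
      Nat.card_eq_fintype_card, Fintype.card_subtype, add_comm,
      ← Finset.card_filter_add_card_filter_not (s := Finset.univ.filter fun y => y ∈ (P : Subgroup G))
        (fun y => y ∈ V), Finset.filter_filter, Finset.filter_filter]
    congr 2
    ext y; simp only [Finset.mem_filter, Finset.mem_univ, true_and]
    exact ⟨fun hy => ⟨h.VP hy, hy⟩, fun hy => hy.2⟩
  have h2 := (h.toHy.lt2 ((ncard_orbit _ _).trans h.iγ)).1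
  have h3 : (orbit (P : Subgroup G) γ)ᶜ.ncard =
      (Finset.univ.filter fun ω => ω ∉ orbit (P : Subgroup G) γ).card := by
    rw [Set.ncard_eq_toFinset_card']; congr 1; ext a; simp
  rw [h3] at h2
  have h4 : 0 < Nat.card V := Nat.card_pos
  have h5 := h.lt
  have h6 := h.pp.pos
  generalize Nat.card V = c at *
  generalize (Finset.univ.filter fun y => y ∈ (P : Subgroup G) ∧ y ∉ V).card = a at *
  generalize (Finset.univ.filter fun ω => ω ∉ orbit (P : Subgroup G) γ).card = f at *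
  have h7 : (p * c) * (2 * p) ≤ (p * c) * (2 * q + 1) := by nlinarith
  have h8 := Nat.le_of_mul_le_mul_left h7 (Nat.mul_pos h6 h4)
  omega

omit [MulAction G Ω] [Finite Ω] in
theorem EA.conj {W : Subgroup G} (h : EA p W) (g : G) :
    EA p (W.map (MulAut.conj g).toMonoidHom) := by
  constructor
  · rintro _ ⟨a, ha, rfl⟩ _ ⟨b, hb, rfl⟩
    rw [← map_mul, ← map_mul, h.1 a ha b hb]
  · rintro _ ⟨a, ha, rfl⟩
    rw [← map_pow, h.2 a ha, map_one]

omit [MulAction G Ω] [Finite Ω] in
theorem conj_mem_of {P V W : Subgroup G}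
    (hin : ∀ W : Subgroup G, W ≤ P → EA p W → W.relIndex P ∣ p ^ 2 → W ≤ V)
    (hW : W ≤ P) (e : EA p W) (hi : W.relIndex P ∣ p ^ 2) (g : G)
    (hg : ∀ w ∈ W, g * w * g⁻¹ ∈ P) : ∀ w ∈ W, g * w * g⁻¹ ∈ V := by
  have h1 : W.map (MulAut.conj g).toMonoidHom ≤ P := by
    rintro _ ⟨w, hw, rfl⟩; exact hg w hw
  have h2 := card_mul_relIndex h1
  rw [card_map_of_injective (MulAut.conj g).injective, ← card_mul_relIndex hW] at h2
  have h3 := Nat.eq_of_mul_eq_mul_left Nat.card_pos h2
  exact fun w hw => hin _ h1 (e.conj g) (h3 ▸ hi) ⟨w, hw, rfl⟩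

/-- if `V` fixes a point we are in case B-ii -/
theorem B1.b2 (h : B1 G Ω p q P V γ)
    (hin : ∀ W : Subgroup G, W ≤ (P : Subgroup G) → EA p W →
      W.relIndex (P : Subgroup G) ∣ p ^ 2 → W ≤ V)
    {δ : Ω} (hδ : V ≤ stabilizer G δ) : B2 G Ω p q P V γ := by
  have := Fact.mk h.pp
  have := h.tr
  have hc : ¬ p ∣ V.relIndex (stabilizer G δ) := by
    have h1 := relIndex_mul_index hδ
    have h2 := relIndex_mul_index h.VP
    rw [h.iV, ← h1, h.toHy.index] at h2
    intro hd
    apply P.not_dvd_index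
    have h3 : (P : Subgroup G).index = V.relIndex (stabilizer G δ) * (2 * q) :=
      Nat.eq_of_mul_eq_mul_left h.pp.pos (by rw [h2]; ring)
    rw [h3]; exact hd.mul_right _
  have key : ∀ ω : Ω, ω ∉ orbit (P : Subgroup G) γ → stabilizer G ω ⊓ (P : Subgroup G) = V := by
    intro ω hω
    have h3 := h.toHy.short P h.iγ hω
    obtain ⟨g, rfl⟩ := exists_smul_eq G δ ω
    obtain ⟨k, hk, hc⟩ := syl_conj h.pp hδ h.ea.pgroup hc
      (T := (stabilizer G (g • δ) ⊓ (P : Subgroup G)).map (MulAut.conj g⁻¹).toMonoidHom) (by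
        rintro _ ⟨t, ht, rfl⟩
        have : t • g • δ = g • δ := ht.1
        simp [mul_smul, this]) ((P.2.to_le inf_le_right).map _)
    have h4 : ∀ t ∈ stabilizer G (g • δ) ⊓ (P : Subgroup G), (g * k)⁻¹ * t * (g * k) ∈ V :=
      fun t ht => by simpa [mul_assoc] using hc _ ⟨t, ht, rfl⟩
    have h5 : EA p (stabilizer G (g • δ) ⊓ (P : Subgroup G)) := by
      constructor
      · intro a ha b hb
        have := h.ea.1 _ (h4 a ha) _ (h4 b hb)
        calc a * b = (g * k) * ((g * k)⁻¹ * a * (g * k) * ((g * k)⁻¹ * b * (g * k))) *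
              (g * k)⁻¹ := by group
          _ = b * a := by rw [this]; group
      · intro a ha
        have := h.ea.2 _ (h4 a ha)
        rw [← inv_inv (g * k), inv_inv (g * k)⁻¹, conj_pow] at this
        exact conj_eq_one_iff.1 this
    have h6 := hin _ inf_le_right h5 (by rw [inf_relIndex_right, h3]; exact ⟨p, by ring⟩)
    have h7 := relIndex_mul_relIndex _ _ _ h6 h.VP
    rw [inf_relIndex_right, h3, h.iV] at h7
    exact le_antisymm h6 (relIndex_eq_one.1
      (Nat.eq_of_mul_eq_mul_right h.pp.pos (by rw [h7, one_mul])))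
  refine ⟨h.toHy, h.VP, h.iV, h.ea, h.iγ, fun ω hω v hv => ?_, fun x hx hV ω e => ?_⟩
  · rw [← key ω hω] at hv; exact hv.1
  · by_cases hω : ω ∈ orbit (P : Subgroup G) γ
    · exact h.fpf hx hV hω e
    · exact hV (key ω hω ▸ ⟨e, hx⟩)

/-- the cyclic case -/
theorem B2.cy (h : B2 G Ω p q P V γ) (hU : V ⊓ stabilizer G γ = ⊥) : ∃ x : G, CY G Ω p q x γ := by
  have := Fact.mk h.pp
  have hf : ∀ y ∈ (P : Subgroup G), orderOf y = p → y ∈ V := fun y hy ho => by
    by_contra hn
    obtain ⟨ω, hω⟩ := h.el y (ho ▸ h.pp)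
    exact h.fpf y hy hn ω hω
  have hr : ∀ y ∈ (P : Subgroup G), y • γ = γ → y = 1 := fun y hy e => by
    have h1 : y ∈ V := by by_contra hn; exact h.fpf y hy hn γ e
    exact mem_bot.1 (hU ▸ (⟨h1, e⟩ : y ∈ V ⊓ stabilizer G γ))
  have hP : Nat.card (P : Subgroup G) = p ^ 2 := by
    have h1 : stabilizer G γ ⊓ (P : Subgroup G) = ⊥ :=
      eq_bot_iff.2 fun y hy => mem_bot.2 (hr y hy.2 hy.1)
    rw [← h.iγ, ← inf_relIndex_right, h1, relIndex_bot_left]
  have hV : Nat.card V = p := by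
    have := card_mul_relIndex h.VP
    rw [h.iV, hP, pow_two] at this
    exact Nat.eq_of_mul_eq_mul_right h.pp.pos this
  obtain ⟨x, hx, hxV⟩ : ∃ x ∈ (P : Subgroup G), x ∉ V := by
    by_contra! hn
    have := h.iV
    rw [relIndex_eq_one.2 hn] at this
    exact h.pp.one_lt.ne this
  have ho : orderOf x = p ^ 2 := by
    have h1 : orderOf x ∣ p ^ 2 := hP ▸ orderOf_dvd_natCard _ hx
    obtain ⟨k, hk, e⟩ := (Nat.dvd_prime_pow h.pp).1 h1
    interval_cases k
    · exact absurd (orderOf_eq_one_iff.1 (by simpa using e) ▸ one_mem V) hxV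
    · exact absurd (hf x hx (by simpa using e)) hxV
    · exact e
  have hz : zpowers x = (P : Subgroup G) :=
    eq_of_le_of_card_ge (zpowers_le.2 hx) (by rw [Nat.card_zpowers, ho, hP])
  have hov : orderOf (x ^ p) = p := by
    rw [orderOf_pow_of_dvd h.pp.ne_zero (by rw [ho]; exact dvd_pow_self p two_ne_zero), ho,
      pow_two, Nat.mul_div_cancel _ h.pp.pos]
  have hv : zpowers (x ^ p) = V :=
    eq_of_le_of_card_ge (zpowers_le.2 (hf _ (pow_mem hx p) hov))
      (by rw [Nat.card_zpowers, hov, hV])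
  refine ⟨x, h.toHy, ho, fun hd => ?_, hz ▸ hr, fun ω hω => ?_, hz ▸ hv ▸ h.fpf⟩
  · have h1 := P.pow_dvd_card_of_pow_dvd_card hd
    rw [hP, Nat.pow_dvd_pow_iff_le_right h.pp.one_lt] at h1
    omega
  · exact h.fix ω (hz ▸ hω) _ (hv ▸ mem_zpowers _)

end

end CF.El
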