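import Cfsg.Agent.El.A

/-! S3579, piece U3: a `p`-group with two large elementary abelian subgroups has exponent `p`. -/

set_option autoImplicit false

namespace CF.El

open MulAction Subgroup

namespace U3

theorem cube {A : Type*} [CommGroup A] [Finite A] {p : ℕ} (hp : p.Prime) (δ : A →* A)
    (hδ : ∀ S : Subgroup A, S.comap δ ≤ S → S = ⊤) (Z : Subgroup A) (hZ : ∀ z ∈ Z, δ z = 1)
    (hi : Z.index ∣ p ^ 2) (a : A) : δ (δ (δ a)) = 1 := by
  have l1 : Z ≤ Z.comap δ := fun z hz => by rw [mem_comap, hZ z hz]; exact one_mem _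
  have l2 : Z.comap δ ≤ (Z.comap δ).comap δ := comap_mono l1
  suffices h : (Z.comap δ).comap δ = ⊤ from hZ _ (show a ∈ (Z.comap δ).comap δ by rw [h]; trivial)
  by_contra hne
  have ne : ∀ S T : Subgroup A, S ≤ T → S.index = T.index → T ≤ S := fun S T hST e => by
    have h1 := relIndex_mul_index hST
    rw [e] at h1
    have h2 : T.index ≠ 0 := index_ne_zero_of_finite
    exact relIndex_eq_one.1 (Nat.eq_of_mul_eq_mul_right (Nat.pos_of_ne_zero h2) (by simpa using h1))
  have n1 : Z.index ≠ (Z.comap δ).index := fun e => by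
    have := hδ Z (ne _ _ l1 e)
    exact hne (by rw [this]; simp)
  have n2 : (Z.comap δ).index ≠ ((Z.comap δ).comap δ).index := fun e => by
    have := hδ _ (ne _ _ l2 e)
    exact hne (by rw [this]; simp)
  have n3 : ((Z.comap δ).comap δ).index ≠ 1 := fun e => hne (index_eq_one.1 e)
  have d1 := index_dvd_of_le l1
  have d2 := index_dvd_of_le l2
  obtain ⟨i, hi2, ei⟩ := (Nat.dvd_prime_pow hp).1 hi
  obtain ⟨j, hj2, ej⟩ := (Nat.dvd_prime_pow hp).1 (ei ▸ d1)
  obtain ⟨k, hk2, ek⟩ := (Nat.dvd_prime_pow hp).1 (ej ▸ d2)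
  rw [ei, ej] at n1
  rw [ej, ek] at n2
  rw [ek] at n3
  have a1 : i ≠ j := fun e => n1 (by rw [e])
  have a2 : j ≠ k := fun e => n2 (by rw [e])
  have a3 : k ≠ 0 := fun e => n3 (by rw [e, pow_zero])
  omega

theorem core {G : Type*} [Group G] [Finite G] {p : ℕ} (hp : p.Prime) (h5 : 5 ≤ p)
    (hG : IsPGroup p G) (V : Subgroup G) [V.Normal] (eV : EA p V) {x : G} (hx : x ^ p = 1)
    (Z : Subgroup G) (hZ : ∀ z ∈ Z, x * z = z * x) (hi : Z.relIndex V ∣ p ^ 2) {v : G}
    (hv : v ∈ V) : (v * x) ^ p = 1 := by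
  have := Fact.mk hp
  have := hG.isNilpotent
  let _ : CommGroup V :=
    { (inferInstance : Group V) with mul_comm := fun a b => Subtype.ext (eV.1 a a.2 b b.2) }
  let φ : V →* V := (MulAut.conjNormal x : V ≃* V).toMonoidHom
  have hφ : ∀ a : V, (φ a : G) = x * a * x⁻¹ := fun a => rfl
  let δ : V →* V := φ / MonoidHom.id V
  have hδ : ∀ a : V, φ a = δ a * a := fun a => by simp [δ]
  have hδ' : ∀ a : V, (δ a : G) = x * a * x⁻¹ * (a : G)⁻¹ := fun a => by
    rw [← hφ, hδ]; simp
  have h3 := cube hp δ (fun S hS => ?_) (Z.subgroupOf V) (fun z hz => Subtype.ext ?_) hi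
  rotate_left
  · obtain ⟨n, hn⟩ := Group.IsNilpotent.nilpotent G
    have : ∀ k, ∀ a : V, (a : G) ∈ Subgroup.upperCentralSeries G k → a ∈ S := by
      intro k
      induction k with
      | zero =>
        intro a ha
        rw [show a = 1 from Subtype.ext (by simpa using ha)]
        exact one_mem _
      | succ k ih =>
        intro a ha
        refine hS (ih _ ?_)
        have h1 := inv_mem (Subgroup.mem_upperCentralSeries_succ_iff.1 ha x)
        rw [hδ']
        convert h1 using 1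
        rw [commutatorElement_def]
        group
    exact eq_top_iff.2 fun a _ => this n a (by rw [hn]; trivial)
  · rw [hδ', hZ z hz]; simp
  set a : V := ⟨v, hv⟩ with ha
  have key : ∀ n : ℕ, (v * x) ^ n =
      ((a ^ n * δ a ^ n.choose 2 * δ (δ a) ^ n.choose 3 : V) : G) * x ^ n := by
    intro n
    induction n with
    | zero => simp
    | succ n ih =>
      have e : a ^ (n + 1) * δ a ^ (n + 1).choose 2 * δ (δ a) ^ (n + 1).choose 3 =
          a * φ (a ^ n * δ a ^ n.choose 2 * δ (δ a) ^ n.choose 3) := by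
        rw [map_mul, map_mul, map_pow, map_pow, map_pow, hδ a, hδ (δ a), hδ (δ (δ a)), h3 a,
          Nat.choose_succ_succ' n 1, Nat.choose_succ_succ' n 2, Nat.choose_one_right]
        simp only [mul_pow, pow_add, pow_one, one_mul]
        ac_rfl
      rw [pow_succ', ih, e, coe_mul V a, hφ, pow_succ' x]
      simp only [ha, mul_assoc, inv_mul_cancel_left]
  have e1 : ∀ (b : V) (m : ℕ), p ∣ m → b ^ m = 1 := by
    rintro b _ ⟨k, rfl⟩
    rw [pow_mul, show b ^ p = 1 from Subtype.ext (eV.2 b b.2), one_pow]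
  rw [key, hx, e1 a p dvd_rfl, e1 _ _ (hp.dvd_choose_self (by omega) (by omega)),
    e1 _ _ (hp.dvd_choose_self (by omega) (by omega))]
  simp

end U3

variable {G : Type*} [Group G] [Finite G] {p : ℕ}

theorem U3 (hp : p.Prime) (h5 : 5 ≤ p) (P V W : Subgroup G) (hP : IsPGroup p P) (hVP : V ≤ P)
    (hWP : W ≤ P) (hV : V.relIndex P = p) (hW : W.relIndex P ∣ p ^ 2) (eV : EA p V)
    (eW : EA p W) (hn : ¬ W ≤ V) : ∀ y ∈ P, y ^ p = 1 := by
  intro y hy
  have := Fact.mk hp
  have := hP.isNilpotent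
  set V' := V.subgroupOf P with hV'
  set W' := W.subgroupOf P with hW'
  have iV : V'.index = p := hV
  have hmax : IsCoatom V' := by
    refine ⟨fun e => ?_, fun T hT => ?_⟩
    · rw [e, index_top] at iV; omega
    · have h1 := relIndex_mul_index hT.le
      rw [iV] at h1
      rcases (Nat.dvd_prime hp).1 (Dvd.intro_left _ h1) with h | h
      · exact index_eq_one.1 h
      · rw [h] at h1
        have h2 : V'.relIndex T = 1 :=
          Nat.eq_of_mul_eq_mul_right hp.pos (by simpa using h1)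
        exact absurd (relIndex_eq_one.1 h2) (not_le_of_gt hT)
  have : V'.Normal := Subgroup.NormalizerCondition.normal_of_coatom V' normalizerCondition_of_isNilpotent hmax
  have hsup : V' ⊔ W' = ⊤ := hmax.2 _ (lt_of_le_of_ne le_sup_left fun e => hn fun w hw => by
    have : (⟨w, hWP hw⟩ : P) ∈ V' := by rw [e]; exact mem_sup_right hw
    exact this)
  have hy' : (⟨y, hy⟩ : P) ∈ ((V' ⊔ W' : Subgroup P) : Set P) := by rw [hsup]; trivial
  rw [normal_mul] at hy'
  obtain ⟨v, hv, x, hx, e⟩ := hy'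
  have eV' : EA p V' := ⟨fun a ha b hb => Subtype.ext (eV.1 a ha b hb),
    fun a ha => Subtype.ext (eV.2 a ha)⟩
  have hi : W'.relIndex V' ∣ p ^ 2 := by
    have h1 : W'.index ∣ p ^ 2 := hW
    have h2 : W'.relIndex V' ≤ W'.relIndex ⊤ :=
      relIndex_le_of_le_right le_top (by rw [relIndex_top_right]; exact index_ne_zero_of_finite)
    rw [relIndex_top_right] at h2
    have h3 := h2.trans (Nat.le_of_dvd (pow_pos hp.pos 2) h1)
    obtain ⟨k, hk⟩ := (hP.to_subgroup V').exists_card_eq
    obtain ⟨j, -, ej⟩ := (Nat.dvd_prime_pow hp).1 (hk ▸ relIndex_dvd_card W' V')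
    rw [ej] at h3 ⊢
    exact pow_dvd_pow _ ((Nat.pow_le_pow_iff_right hp.one_lt).1 h3)
  have := U3.core hp h5 hP V' eV' (x := x) (Subtype.ext (eW.2 x hx)) W'
    (fun z hz => Subtype.ext (eW.1 x hx z hz)) hi hv
  have e' : v * x = ⟨y, hy⟩ := e
  rw [e'] at this
  exact congrArg Subtype.val this

end CF.El
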