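import Cfsg.Agent.El.A
import Cfsg.Agent.Char.More

/-! S3579, piece X1: inner products of the induced class functions. -/

set_option autoImplicit false

namespace CF.El

open MulAction Subgroup Cfsg CF.Char
open scoped ComplexConjugate

variable {G Ω : Type*} [Group G] [Finite G] [MulAction G Ω] [Finite Ω] {p q : ℕ}

namespace X1h

variable {x : G}

omit [Finite G] in
theorem vmem (p : ℕ) (x : G) : x ^ p ∈ zpowers x := npow_mem_zpowers x p

omit [Finite G] in
theorem cj_v {g : G} (hg : g ∈ normalizer (zpowers (x ^ p) : Set G)) :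
    g * x ^ p * g⁻¹ ∈ zpowers (x ^ p) :=
  (mem_normalizer_iff.1 hg (x ^ p)).1 (mem_zpowers _)

omit [Finite G] in
theorem cj_mem {g : G} (hg : g ∈ normalizer (zpowers (x ^ p) : Set G)) {c : G}
    (hc : c ∈ Cv p x) : g * c * g⁻¹ ∈ Cv p x := by
  obtain ⟨k, hk⟩ := cj_v (inv_mem hg)
  have e : Commute c (g⁻¹ * x ^ p * g⁻¹⁻¹) := by
    rw [← hk]; exact Commute.zpow_right (mem_Cv.1 hc) k
  rw [mem_Cv]
  have := e.eq
  rw [inv_inv] at this
  calc g * c * g⁻¹ * x ^ p = g * (c * (g⁻¹ * x ^ p * g)) * g⁻¹ := by group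
    _ = g * (g⁻¹ * x ^ p * g * c) * g⁻¹ := by rw [this]
    _ = x ^ p * (g * c * g⁻¹) := by group

/-- conjugation by an element of `N(⟨x ^ p⟩)` on `C` -/
def cj {g : G} (hg : g ∈ normalizer (zpowers (x ^ p) : Set G)) : Cv p x →* Cv p x where
  toFun c := ⟨g * c * g⁻¹, cj_mem hg c.2⟩
  map_one' := by ext; simp
  map_mul' a b := by ext; simp [mul_assoc]

omit [Finite G] in
theorem C_le {g : G} (hg : g ∈ Cv p x) : g ∈ normalizer (zpowers (x ^ p) : Set G) := by
  refine centralizer_le_normalizer _ ?_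
  rintro _ ⟨k, rfl⟩
  exact (Commute.zpow_right (mem_Cv.1 hg) k).eq.symm

/-- the element `x ^ p` of `C` -/
def vC (p : ℕ) (x : G) : Cv p x := ⟨x ^ p, mem_Cv_of_zpowers (vmem p x)⟩

variable {γ : Ω} {τ : Cv p x →* zpowers x} {φ : zpowers x →* ℂˣ}

omit [Finite G] [Finite Ω] in
/-- values on `⟨x⟩` determine the elements -/
theorem val_eq (r : Ret Ω p x γ τ) (hφ : Function.Injective φ) {a b : Cv p x}
    (ha : (a : G) ∈ zpowers x) (hb : (b : G) ∈ zpowers x) (i j : ℕ)
    (e : φ (τ a) ^ i = φ (τ b) ^ j) : (a : G) ^ i = (b : G) ^ j := by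
  have h1 : τ a = ⟨a, ha⟩ := r.id a ha
  have h2 : τ b = ⟨b, hb⟩ := r.id b hb
  rw [h1, h2, ← map_pow, ← map_pow] at e
  exact congrArg Subtype.val (hφ e)

omit [Finite G] in
theorem cjv_mem {g : G} (hg : g ∈ normalizer (zpowers (x ^ p) : Set G)) :
    ((cj hg (vC p x) : Cv p x) : G) ∈ zpowers x :=
  (zpowers_le_of_mem (vmem p x)) (cj_v hg)

omit [Finite G] [Finite Ω] in
theorem at_v (r : Ret Ω p x γ τ) (hφ : Function.Injective φ) {g : G}
    (hg : g ∈ normalizer (zpowers (x ^ p) : Set G)) {i j : ℕ}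
    (e : (φ.comp τ) ^ i = ((φ.comp τ).comp (cj hg)) ^ j) :
    (x ^ p) ^ i = g * (x ^ p) ^ j * g⁻¹ := by
  have := val_eq r hφ (a := vC p x) (b := cj hg (vC p x)) (vmem p x) (cjv_mem hg) i j
    (by simpa using DFunLike.congr_fun e (vC p x))
  rw [← conj_pow]
  exact this

omit [Finite G] in
theorem lam_cj {g : G} (hg : g ∈ Cv p x) (l : Cv p x →* ℂˣ) : l.comp (cj (C_le hg)) = l := by
  ext c
  have : cj (C_le hg) c = ⟨g, hg⟩ * c * ⟨g, hg⟩⁻¹ := rfl
  simp [this, mul_comm]

omit [Finite G] in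
theorem cancel {v g : G} (hv : orderOf v = p) (hp : p.Prime) {j : ℕ} (hj : ¬ p ∣ j)
    (e : v ^ j = g * v ^ j * g⁻¹) : g * v = v * g := by
  have hc : (orderOf v).Coprime j := by rw [hv]; exact (hp.coprime_iff_not_dvd).2 hj
  obtain ⟨m, hm⟩ := exists_pow_eq_self_of_coprime hc.symm
  have : v = g * v * g⁻¹ := by
    calc v = (v ^ j) ^ m := hm.symm
      _ = (g * v ^ j * g⁻¹) ^ m := by rw [← e]
      _ = g * v * g⁻¹ := by rw [conj_pow, hm]
  calc g * v = g * v * g⁻¹ * g := by group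
    _ = v * g := by rw [← this]

end X1h

open X1h

section
variable {x : G} {γ : Ω}
variable [Fintype G] [Fintype (Cv p x)] {τ : Cv p x →* zpowers x} {φ : zpowers x →* ℂˣ}

omit [Finite G] [Finite Ω] in
theorem X1 (h : CY G Ω p q x γ) (r : Ret Ω p x γ τ) (hφ : Function.Injective φ) (i j : ℕ)
    (hi : ¬ p ∣ i) (hj : ¬ p ∣ j) : ∃ e : ℕ, e ≤ 1 ∧
      classInner (indFun (Cv p x) (psi τ φ p - psi τ φ i))
        (indFun (Cv p x) (psi τ φ p - psi τ φ j)) = 1 + e ∧ (i = j → e = 1) ∧
      (i ≡ j [MOD p] → ¬ i ≡ j [MOD p ^ 2] → e = 0) := by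
  classical
  have hp := h.pp
  have ov : orderOf (x ^ p) = p := by
    rw [orderOf_pow_of_dvd hp.ne_zero (by rw [h.ord]; exact dvd_pow_self p two_ne_zero), h.ord,
      sq, Nat.mul_div_cancel _ hp.pos]
  have vp : (x ^ p) ^ p = 1 := by
    have := pow_orderOf_eq_one (x ^ p); rwa [ov] at this
  set l : Cv p x →* ℂˣ := φ.comp τ with hl
  let S : Set G := {g | ∃ hg : g ∈ normalizer (zpowers (x ^ p) : Set G),
    l ^ i = (l.comp (cj hg)) ^ j}
  -- the term of `g`
  have term : ∀ g : G, classInner (psi τ φ p - psi τ φ i)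
      (fun c : Cv p x => extendByZero (Cv p x) (psi τ φ p - psi τ φ j) (g * c * g⁻¹)) =
      (if g ∈ Cv p x then 1 else 0) + (if g ∈ S then 1 else 0) := by
    intro g
    by_cases hg : g ∈ normalizer (zpowers (x ^ p) : Set G)
    · have e1 : (fun c : Cv p x => extendByZero (Cv p x) (psi τ φ p - psi τ φ j) (g * c * g⁻¹)) =
          (fun c => (((l.comp (cj hg)) ^ p) c : ℂ)) - fun c => (((l.comp (cj hg)) ^ j) c : ℂ) := by
        funext c
        rw [extendByZero_of_mem _ _ (cj_mem hg c.2)]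
        simp [psi, hl, cj]
      have e2 : psi τ φ p - psi τ φ i = (fun c => ((l ^ p) c : ℂ)) - fun c => ((l ^ i) c : ℂ) := by
        funext c
        simp [psi, hl]
      rw [e1, e2, Char.inner_sub_left, Char.inner_sub_right, Char.inner_sub_right]
      simp only [inner_irr (irr_linear _) (irr_linear _), linear_injective.eq_iff]
      have a1 : l ^ p = (l.comp (cj hg)) ^ p ↔ g ∈ Cv p x := by
        refine ⟨fun e => ?_, fun e => by rw [lam_cj e]⟩
        have e' := DFunLike.congr_fun e ⟨x, mem_Cv_of_zpowers (mem_zpowers x)⟩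
        rw [MonoidHom.pow_apply, MonoidHom.pow_apply, ← map_pow, ← map_pow] at e'
        have := val_eq r hφ (a := vC p x) (b := cj hg (vC p x)) (vmem p x) (cjv_mem hg) 1 1
          (by rw [pow_one, pow_one]; exact e')
        rw [pow_one, pow_one] at this
        have t : x ^ p = g * x ^ p * g⁻¹ := this
        rw [mem_Cv]
        calc g * x ^ p = g * x ^ p * g⁻¹ * g := by group
          _ = x ^ p * g := by rw [← t]
      have a2 : ¬ l ^ p = (l.comp (cj hg)) ^ j := fun e => by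
        have := at_v r hφ hg e
        rw [vp, eq_comm, conj_eq_one_iff, ← orderOf_dvd_iff_pow_eq_one, ov] at this
        exact hj this
      have a3 : ¬ l ^ i = (l.comp (cj hg)) ^ p := fun e => by
        have := at_v r hφ hg e
        rw [vp, mul_one, mul_inv_cancel, ← orderOf_dvd_iff_pow_eq_one, ov] at this
        exact hi this
      have a4 : l ^ i = (l.comp (cj hg)) ^ j ↔ g ∈ S := ⟨fun e => ⟨hg, e⟩, fun ⟨_, e⟩ => e⟩
      simp only [a1, a2, a3, a4, if_false]
      ring
    · rw [if_neg (fun e => hg (C_le e)), if_neg (fun ⟨e, _⟩ => hg e), add_zero, inner_def,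
        Finset.sum_eq_zero, mul_zero]
      intro c _
      by_cases hc : τ c = 1
      · simp [psi, hc]
      · rw [extendByZero_of_not_mem _ _ (fun e => hg (r.ti g c e hc))]
        simp
  have main : classInner (indFun (Cv p x) (psi τ φ p - psi τ φ i))
      (indFun (Cv p x) (psi τ φ p - psi τ φ j)) =
      (Nat.card (Cv p x) : ℂ)⁻¹ * (Nat.card (Cv p x) + Nat.card S) := by
    rw [inner_indFun_left _ _ (indFun_isClassFunction _ _)]
    have : (fun c : Cv p x => indFun (Cv p x) (psi τ φ p - psi τ φ j) c) =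
        (Nat.card (Cv p x) : ℂ)⁻¹ • ∑ g : G, fun c : Cv p x =>
          extendByZero (Cv p x) (psi τ φ p - psi τ φ j) (g * c * g⁻¹) := by
      funext c
      simp [indFun_apply', Finset.sum_apply]
    rw [this, Char.inner_smul_right, Char.inner_sum_right]
    simp only [term, Finset.sum_add_distrib]
    rw [Finset.sum_boole, Finset.sum_boole]
    simp [Nat.card_eq_fintype_card, Fintype.card_subtype]
  have c0 : (Nat.card (Cv p x) : ℂ) ≠ 0 := card_ne_zero_complex
  by_cases hS : S.Nonempty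
  · obtain ⟨g, hg, eg⟩ := hS
    have key : ∀ y : G, y ∈ S ↔ g⁻¹ * y ∈ Cv p x := by
      intro y
      constructor
      · rintro ⟨hy, ey⟩
        have t1 := at_v r hφ hg eg
        have t2 := at_v r hφ hy ey
        refine mem_Cv.2 (cancel ov hp hj ?_)
        calc (x ^ p) ^ j = g⁻¹ * (g * (x ^ p) ^ j * g⁻¹) * g := by group
          _ = g⁻¹ * (y * (x ^ p) ^ j * y⁻¹) * g := by rw [← t1, ← t2]
          _ = _ := by group
      · intro hy
        have hy' : y ∈ normalizer (zpowers (x ^ p) : Set G) := by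
          simpa using mul_mem hg (C_le hy)
        refine ⟨hy', ?_⟩
        rw [eg, ← lam_cj hy (l.comp (cj hg))]
        congr 1
        ext c
        simp only [MonoidHom.comp_apply]
        congr 2
        ext
        simp [cj, mul_assoc]
    have cS : Nat.card S = Nat.card (Cv p x) :=
      Nat.card_congr ⟨fun y => ⟨g⁻¹ * y, (key y).1 y.2⟩, fun c => ⟨g * c, (key _).2 (by simp)⟩,
        fun y => by simp, fun c => by simp⟩
    refine ⟨1, le_rfl, ?_, fun _ => rfl, fun e1 e2 => (e2 ?_).elim⟩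
    · rw [main, cS]; field_simp; norm_num
    · have t := at_v r hφ hg eg
      have e3 : (x ^ p) ^ i = (x ^ p) ^ j := pow_eq_pow_iff_modEq.2 (by rwa [ov])
      rw [e3] at t
      have hC : g ∈ Cv p x := mem_Cv.2 (cancel ov hp hj t)
      have e4 : l ^ i = l ^ j := by rw [eg, lam_cj hC]
      have := val_eq r hφ (a := ⟨x, mem_Cv_of_zpowers (mem_zpowers x)⟩)
        (b := ⟨x, mem_Cv_of_zpowers (mem_zpowers x)⟩) (mem_zpowers x) (mem_zpowers x) i j
        (by simpa [hl] using DFunLike.congr_fun e4 ⟨x, mem_Cv_of_zpowers (mem_zpowers x)⟩)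
      rw [← h.ord]
      exact pow_eq_pow_iff_modEq.1 this
  · refine ⟨0, zero_le_one, ?_, fun e => (hS ⟨1, one_mem _, ?_⟩).elim, fun _ _ => rfl⟩
    · rw [main, Set.not_nonempty_iff_eq_empty.1 hS]; simp
    · rw [e, lam_cj (one_mem _)]
end

end CF.El
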